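import Mathlib.Tactic
import Mathlib.RingTheory.Coprime.Lemmas
import Mathlib.RingTheory.Int.Basic

/-!
# Arithmetic of the degree equations
-/

set_option autoImplicit false

namespace Cfsg.Agent.SSCThree

/-- A square which is a multiple of a square. -/
theorem exists_root {a b h D m : ℤ} (hb : b ∣ h) (hab : a = b) (hb0 : b ≠ 0)
    (hsq : (m * D) ^ 2 = h * a) : ∃ f : ℤ, m * D = f * b ∧ h = f ^ 2 * b := by
  subst hab
  obtain ⟨k, rfl⟩ := hb
  have hd : a ^ 2 ∣ (m * D) ^ 2 := ⟨k, by rw [hsq]; ring⟩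
  obtain ⟨f, hf⟩ := (Int.pow_dvd_pow_iff two_ne_zero).mp hd
  refine ⟨f, by rw [hf]; ring, ?_⟩
  have : a * (a * k) = a * (f ^ 2 * a) := by
    rw [hf] at hsq
    linear_combination -hsq
  exact mul_left_cancel₀ hb0 this

/-- Two further characters of degree `n₁M` are impossible in the generic shape. -/
theorem arith_A {n M h X κ D m : ℤ} (hn : 5 ≤ n) (hodd : n % 2 = 1) (hM : 117 ≤ M) (hM4 : M % 4 = 1)
    (hY : 1 + X = M * κ) (hpos : 0 < X * (1 + X)) (hX1 : n ∣ X - 1)
    (hXdvd : X ∣ n * M * h) (hYdvd : (1 + X) ∣ n * M * h) (hh : h ≤ 3 * (n * M))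
    (hnorm : 1 + X ^ 2 + (n - 1) / 2 * (1 + X) ^ 2 + 2 * (n * M) ^ 2 ≤ n * M * h)
    (hsq : (m * D) ^ 2 = h * (κ * X)) (hcong : n ∣ h * M - 2) : False := by
  have hX0 : X ≠ 0 := by intro h0; rw [h0] at hpos; simp at hpos
  have hκ0 : κ ≠ 0 := by intro h0; rw [hY, h0] at hpos; simp at hpos
  have hMpos : (0 : ℤ) < M := by linarith
  -- both factors divide `h`
  have cXn : IsCoprime X n := by
    obtain ⟨t, ht⟩ := hX1
    exact ⟨1, -t, by linarith⟩
  have cXM : IsCoprime X M := ⟨-1, κ, by linarith⟩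
  have cκX : IsCoprime κ X := ⟨M, -1, by linarith⟩
  have hXh : X ∣ h := (cXn.mul_right cXM).dvd_of_dvd_mul_left hXdvd
  have hκh : κ ∣ h := by
    have h1 : M * κ ∣ M * (n * h) := by rw [← hY, show M * (n * h) = n * M * h by ring]; exact hYdvd
    have h2 : κ ∣ n * h := (mul_dvd_mul_iff_left hMpos.ne').mp h1
    refine IsCoprime.dvd_of_dvd_mul_left ?_ h2
    obtain ⟨t, ht⟩ := hX1
    obtain ⟨q, hq⟩ : ∃ q, n = 2 * q + 1 := ⟨n / 2, by omega⟩
    -- `M κ ≡ 2` modulo the odd number `n`
    exact ⟨-q * M, q * t + 1, by linear_combination q * hY - q * ht + hq⟩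
  obtain ⟨f, -, hhf⟩ := exists_root (b := κ * X) (cκX.mul_dvd hκh hXh) rfl (mul_ne_zero hκ0 hX0) hsq
  have hXY : X * (1 + X) = M * (κ * X) := by rw [hY]; ring
  have hP : 0 < κ * X := by
    by_contra hc
    push Not at hc
    have : M * (κ * X) ≤ 0 := mul_nonpos_of_nonneg_of_nonpos hMpos.le hc
    linarith
  -- the congruence
  have hf1 : n ∣ f ^ 2 - 1 := by
    obtain ⟨t, ht⟩ := hX1
    obtain ⟨r, hr⟩ := hcong
    obtain ⟨q, hq⟩ : ∃ q, n = 2 * q + 1 := ⟨n / 2, by omega⟩
    have h2 : n ∣ 2 * (f ^ 2 - 1) := by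
      refine ⟨r - f ^ 2 * t * (2 + X), ?_⟩
      have e1 : h * M = f ^ 2 * (X * (1 + X)) := by rw [hhf, hXY]; ring
      linear_combination hr - e1 - f ^ 2 * (2 + X) * ht
    exact IsCoprime.dvd_of_dvd_mul_left ⟨1, -q, by rw [hq]; ring⟩ h2
  obtain ⟨i, hi⟩ := hf1
  have hn0 : (0 : ℤ) < n := by linarith
  have hnM : 0 < n * M := mul_pos hn0 hMpos
  have hhlow : 2 * (n * M) < h := by
    by_contra hc
    push Not at hc
    have h1 : n * M * h ≤ n * M * (2 * (n * M)) := mul_le_mul_of_nonneg_left hc hnM.le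
    have h2 : 0 ≤ (n - 1) / 2 * (1 + X) ^ 2 := mul_nonneg (by omega) (sq_nonneg _)
    linarith [sq_nonneg X]
  have hf0 : f ≠ 0 := by
    intro h0
    rw [h0] at hhf
    simp at hhf
    linarith
  have hf2 : 1 ≤ f ^ 2 := sq_pos_of_ne_zero hf0
  have hi0 : 0 ≤ i := by
    by_contra hc
    push Not at hc
    have : n * i < 0 := mul_neg_of_pos_of_neg hn0 hc
    linarith
  rcases eq_or_lt_of_le hi0 with hi' | hi'
  · -- the root is one
    rw [← hi', mul_zero] at hi
    have hh1 : h = κ * X := by rw [hhf, show f ^ 2 = 1 by linarith, one_mul]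
    obtain ⟨q, hq⟩ : ∃ q, n = 2 * q + 1 := ⟨n / 2, by omega⟩
    have hhalf : (n - 1) / 2 = q := by omega
    have hq2 : 0 ≤ q - 1 := by omega
    have hup : M * h ≤ M * (3 * (n * M)) := mul_le_mul_of_nonneg_left hh hMpos.le
    rw [hh1, ← hXY] at hup
    rw [hhalf, hh1, show n * M * (κ * X) = n * (X * (1 + X)) by rw [hXY]; ring] at hnorm
    have h5 : 5 * (n * M ^ 2) ≤ n * (n * M ^ 2) := mul_le_mul_of_nonneg_right hn (by positivity)
    have hlo : -(n * M) ≤ 1 + X := by
      by_contra hc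
      push Not at hc
      have := mul_le_mul (show n * M ≤ -X by linarith) (show n * M ≤ -(1 + X) by linarith) hnM.le (by linarith)
      have hp : 0 < n * M ^ 2 := mul_pos hn0 (pow_pos hMpos 2)
      linarith
    have p1 := mul_le_mul_of_nonneg_left hup (show (0 : ℤ) ≤ q by linarith)
    have p2 := mul_nonneg hq2 (show 0 ≤ 1 + X + n * M by linarith)
    have p3 : n ^ 2 * M ≤ n ^ 2 * M ^ 2 :=
      mul_le_mul_of_nonneg_left (le_self_pow₀ (by linarith) two_ne_zero) (sq_nonneg n)
    have p4 : 0 ≤ n * M ^ 2 := by positivity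
    subst hq
    linarith
  · -- the root is larger
    have hf : f ^ 2 = n * i + 1 := by linarith
    have hf4 : n + 1 ≤ f ^ 2 := by
      have : n * 1 ≤ n * i := mul_le_mul_of_nonneg_left (by omega) hn0.le
      linarith
    have h4 : 4 * M ≤ 4 * M + n * M := by linarith
    have habs : κ = 1 ∨ κ = -1 := by
      by_contra hc
      push Not at hc
      have hX' : κ * X = κ * (M * κ - 1) := by rw [show X = M * κ - 1 by linarith]
      have hlow : 4 * M - 2 ≤ κ * X := by
        rw [hX']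
        rcases lt_or_gt_of_ne hκ0 with h' | h'
        · have e2 : κ ≤ -2 := by omega
          have := mul_le_mul_of_nonneg_left (show 2 ≤ -κ by linarith) (show 0 ≤ M * (-κ) by
            exact mul_nonneg hMpos.le (by linarith))
          have := mul_le_mul_of_nonneg_left (show 2 ≤ -κ by linarith) hMpos.le
          linarith
        · have e2 : 2 ≤ κ := by omega
          have e3 : M * 2 ≤ M * κ := mul_le_mul_of_nonneg_left e2 hMpos.le
          have := mul_le_mul e2 (show 2 * M - 1 ≤ M * κ - 1 by linarith) (by linarith) (by linarith)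
          linarith
      have h1 : (n + 1) * (4 * M - 2) ≤ h := by
        rw [hhf]
        exact mul_le_mul hf4 hlow (by linarith) (by linarith)
      have : 0 < n * (M - 2) := mul_pos hn0 (by linarith)
      linarith
    have hXv : X = M * κ - 1 := by linarith
    have hlin : f ^ 2 * (M - 1) ≤ h ∧ h ≤ f ^ 2 * (M + 1) := by
      rw [hhf, hXv]
      rcases habs with e | e <;> subst e <;> constructor <;>
        exact mul_le_mul_of_nonneg_left (by linarith) (sq_nonneg f)
    have hi3 : i ≤ 3 := by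
      by_contra hc
      push Not at hc
      have : (4 * n + 1) * (M - 1) ≤ h := by
        refine le_trans ?_ hlin.1
        refine mul_le_mul_of_nonneg_right ?_ (by linarith)
        have : n * 4 ≤ n * i := mul_le_mul_of_nonneg_left (by omega) hn0.le
        linarith
      have : 0 < n * (M - 4) := mul_pos hn0 (by linarith)
      linarith
    interval_cases i
    · -- twice the product exceeds the order
      rw [hf] at hlin
      have : 5 * (M - 1) ≤ n * (M - 1) := mul_le_mul_of_nonneg_right hn (by linarith)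
      linarith
    · -- parity
      rcases Int.even_or_odd f with ⟨k, hk⟩ | ⟨k, hk⟩
      · rw [hk] at hf
        have : (2 * k ^ 2) * 2 = n * 2 + 1 := by linear_combination hf
        omega
      · rw [hk] at hf
        have : (2 * (k ^ 2 + k)) * 2 + 1 = n * 2 + 1 := by linear_combination hf
        omega
    · rcases habs with e | e
      · subst e
        have hMle : M ≤ 3 * n + 1 := by
          rw [hf] at hlin
          linarith [hlin.1]
        obtain ⟨t, ht⟩ := hX1
        have ht' : M = n * t + 2 := by linarith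
        have ht3 : t ≤ 2 := by
          by_contra hc
          push Not at hc
          have : n * 3 ≤ n * t := mul_le_mul_of_nonneg_left (by omega) hn0.le
          linarith
        have ht1 : 1 ≤ t := by
          by_contra hc
          push Not at hc
          have : n * t ≤ 0 := mul_nonpos_of_nonneg_of_nonpos hn0.le (by omega)
          linarith
        interval_cases t
        · rcases Int.even_or_odd f with ⟨k, hk⟩ | ⟨k, hk⟩
          · rw [hk] at hf
            have : 4 * k ^ 2 = n * 3 + 1 := by linear_combination hf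
            omega
          · rw [hk] at hf
            have : 4 * (k ^ 2 + k) + 1 = n * 3 + 1 := by linear_combination hf
            omega
        · omega
      · subst e
        rw [hXv, hf] at hhf
        linarith

theorem bound_one (R Q A B : ℤ) :
    10 * A ^ 2 + 8 * A * B + 6 * B ^ 2 ≤ 11 * (R ^ 2 + Q ^ 2 + 2 * (A - R) ^ 2 + 2 * (B + R + Q) ^ 2) := by
  nlinarith [sq_nonneg (3 * Q + 2 * B + 2 * R), sq_nonneg (11 * R - 6 * A + 2 * B)]

theorem bound_two (R Q A B : ℤ) :
    36 * A ^ 2 + 32 * A * B + 20 * B ^ 2 ≤ 29 * (R ^ 2 + Q ^ 2 + 4 * (A - R) ^ 2 + 4 * (B + R + Q) ^ 2) := by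
  nlinarith [sq_nonneg (5 * Q + 4 * B + 4 * R), sq_nonneg (29 * R - 20 * A + 4 * B)]

/-- In the third shape with two further characters the index of the centraliser is three. -/
theorem arith_B {n₂ n₃ h c m X u w s : ℤ} (hn₂ : 9 ≤ n₂) (hn₃ : 9 ≤ n₃) (hM : 117 ≤ n₂ * n₃)
    (h2 : n₂ % 4 = 1) (h3 : n₃ % 4 = 1) (hu : X = n₃ * u) (hw : 1 + X = n₂ * w)
    (hpos : 0 < X * (1 + X)) (hX1 : 5 ∣ X - 1) (hXdvd : X ∣ 5 * (n₂ * n₃) * h)
    (hYdvd : (1 + X) ∣ 5 * (n₂ * n₃) * h) (hh : h ≤ 15 * (n₂ * n₃)) (hlow : 10 * (n₂ * n₃) < h)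
    (hmc : h = m * c) (hc0 : 0 < c) (hm : m % 2 = 1) (hm5 : ¬ 5 ∣ m)
    (hsq : (m * (X - s)) ^ 2 = h * (u * w))
    (hb1 : 63 * s ^ 2 + 144 * s + 153 ≤ 11 * c)
    (hb2 : 17 ≤ n₂ → 17 ≤ n₃ → 187 * s ^ 2 + 476 * s + 527 ≤ 29 * c) : m = 3 := by
  set M := n₂ * n₃ with hMdef
  have hMpos : (0 : ℤ) < M := by linarith
  have hX0 : X ≠ 0 := by intro h0; rw [h0] at hpos; simp at hpos
  have hu0 : u ≠ 0 := by intro h0; exact hX0 (by rw [hu, h0, mul_zero])
  have hw0 : w ≠ 0 := by intro h0; rw [hw, h0] at hpos; simp at hpos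
  obtain ⟨t, ht⟩ := hX1
  have huh : u ∣ h := by
    have h1 : n₃ * u ∣ n₃ * (5 * n₂ * h) := by
      rw [← hu, show n₃ * (5 * n₂ * h) = 5 * M * h by rw [hMdef]; ring]; exact hXdvd
    have h2' : u ∣ 5 * n₂ * h := (mul_dvd_mul_iff_left (by linarith : n₃ ≠ 0)).mp h1
    have c5 : IsCoprime u 5 := ⟨n₃, -t, by linarith⟩
    have c2 : IsCoprime u n₂ := ⟨-n₃, w, by linarith⟩
    exact (c5.mul_right c2).dvd_of_dvd_mul_left h2'
  have hwh : w ∣ h := by
    have h1 : n₂ * w ∣ n₂ * (5 * n₃ * h) := by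
      rw [← hw, show n₂ * (5 * n₃ * h) = 5 * M * h by rw [hMdef]; ring]; exact hYdvd
    have h2' : w ∣ 5 * n₃ * h := (mul_dvd_mul_iff_left (by linarith : n₂ ≠ 0)).mp h1
    have c5 : IsCoprime w 5 := ⟨-2 * n₂, 2 * t + 1, by linear_combination 2 * hw - 2 * ht⟩
    have c3 : IsCoprime w n₃ := ⟨n₂, -u, by linarith⟩
    exact (c5.mul_right c3).dvd_of_dvd_mul_left h2'
  have cuw : IsCoprime u w := ⟨-n₃, n₂, by linarith⟩
  obtain ⟨f, hfD, hhf⟩ := exists_root (b := u * w) (cuw.mul_dvd huh hwh) rfl (mul_ne_zero hu0 hw0) hsq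
  set P := u * w with hP
  have hXY : X * (1 + X) = M * P := by rw [hw, hu, hMdef, hP]; ring
  have hP0 : 0 < P := by
    by_contra hc
    push Not at hc
    nlinarith
  -- one of the two cofactors is even
  have hmod : (w - u) % 4 = 1 := by
    obtain ⟨a, ha⟩ : ∃ a, n₂ = 4 * a + 1 := ⟨n₂ / 4, by omega⟩
    obtain ⟨b, hb⟩ : ∃ b, n₃ = 4 * b + 1 := ⟨n₃ / 4, by omega⟩
    have e : w - u = 1 + 4 * (b * u - a * w) := by
      rw [ha] at hw; rw [hb] at hu; linear_combination hu - hw
    omega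
  have hPev : 2 ∣ P := by
    rcases Int.even_or_odd u with ⟨k, hk⟩ | ⟨k, hk⟩
    · exact ⟨k * w, by rw [hP, hk]; ring⟩
    · obtain ⟨l, hl⟩ : ∃ l, w = 2 * l := ⟨w / 2, by omega⟩
      exact ⟨u * l, by rw [hP, hl]; ring⟩
  have hP2 : 2 ≤ P := Int.le_of_dvd hP0 hPev
  -- sizes
  set a := |2 * X + 1| with ha
  have ha2 : a ^ 2 = 4 * (M * P) + 1 := by rw [ha, sq_abs, ← hXY]; ring
  have ha30 : 30 ≤ a := by
    by_contra hc
    push Not at hc
    have : a ^ 2 ≤ 29 ^ 2 := pow_le_pow_left₀ (abs_nonneg _) (by omega) 2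
    linarith [mul_le_mul_of_nonneg_left hP2 hMpos.le]
  have ha0 : 0 ≤ a := by linarith
  set d := |2 * (X - s)| with hd
  have hd0 : 0 ≤ d := abs_nonneg _
  have hdm : m ^ 2 * d ^ 2 * M = 4 * h * (M * P) := by
    rw [hd, sq_abs]; linear_combination 4 * M * hsq
  have hdb : 10 * (4 * (M * P)) ≤ m ^ 2 * d ^ 2 ∧ m ^ 2 * d ^ 2 ≤ 15 * (4 * (M * P)) := by
    have h1 : m ^ 2 * d ^ 2 = 4 * h * P := mul_right_cancel₀ hMpos.ne' (by rw [hdm]; ring)
    rw [h1]
    constructor
    · linarith [mul_le_mul_of_nonneg_right hlow.le hP0.le]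
    · linarith [mul_le_mul_of_nonneg_right hh hP0.le]
  have hm0 : 0 < m := by
    by_contra hc
    push Not at hc
    have : m * c ≤ 0 := mul_nonpos_of_nonpos_of_nonneg hc hc0.le
    linarith
  by_contra hm3
  have hcases : m = 1 ∨ 7 ≤ m := by
    rcases eq_or_ne m 5 with e | e
    · exact absurd (e ▸ dvd_refl (5 : ℤ)) hm5
    · omega
  rcases hcases with hm1 | hm7
  · subst hm1
    rw [one_pow, one_mul] at hdb
    rw [one_mul] at hmc
    have hd31 : 31 * a ≤ 10 * d := by
      by_contra hc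
      push Not at hc
      have h1 : (10 * d) ^ 2 < (31 * a) ^ 2 := pow_lt_pow_left₀ hc (by linarith) two_ne_zero
      rw [mul_pow, mul_pow, ha2] at h1
      linarith [mul_le_mul_of_nonneg_left hP2 hMpos.le]
    have hs : 21 * a ≤ 10 * |2 * s + 1| := by
      have h1 : d ≤ a + |2 * s + 1| := by
        rw [hd, ha, show 2 * (X - s) = (2 * X + 1) - (2 * s + 1) by ring]
        exact abs_sub _ _
      linarith
    have hs2 : 143 * a ≤ 10 * |14 * s + 16| := by
      rcases abs_cases (2 * s + 1) with ⟨e, -⟩ | ⟨e, -⟩ <;> rw [e] at hs <;>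
          linarith [le_abs_self (14 * s + 16), neg_le_abs (14 * s + 16)]
    have hsq2 : (143 * a) ^ 2 ≤ (10 * |14 * s + 16|) ^ 2 := pow_le_pow_left₀ (by linarith) hs2 2
    rw [mul_pow, mul_pow, ha2, sq_abs] at hsq2
    linarith [mul_le_mul_of_nonneg_left hP2 hMpos.le]
  · have hd55 : 10000 * d ≤ 5534 * a := by
      by_contra hc
      push Not at hc
      have h1 : (5534 * a) ^ 2 < (10000 * d) ^ 2 := pow_lt_pow_left₀ hc (by linarith) two_ne_zero
      have h49 : (49 : ℤ) ≤ m ^ 2 := (pow_le_pow_left₀ (by norm_num) hm7 2 : (7 : ℤ) ^ 2 ≤ m ^ 2)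
      have h2 : 49 * d ^ 2 ≤ m ^ 2 * d ^ 2 := mul_le_mul_of_nonneg_right h49 (sq_nonneg _)
      rw [mul_pow, mul_pow, ha2] at h1
      linarith [mul_pos hMpos hP0]
    have hc7 : 7 * c ≤ 15 * M := by
      have := mul_le_mul_of_nonneg_right hm7 hc0.le
      linarith
    have htri : a - d ≤ |2 * s + 1| := by
      have : a ≤ |2 * s + 1| + d := by
        rw [hd, ha, show 2 * X + 1 = (2 * s + 1) + 2 * (X - s) by ring]
        exact abs_add_le _ _
      linarith
    have hs : 4466 * a ≤ 10000 * |2 * s + 1| := by linarith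
    rcases lt_or_ge P 4 with hP4 | hP4
    · have hPe : P = 2 := by omega
      rw [hPe] at ha2 hXY
      have huu : u = 1 ∨ u = -2 := by
        have hdvd : u ∣ 2 := ⟨w, by rw [← hPe, hP]⟩
        have h1 : u ≤ 2 := Int.le_of_dvd two_pos hdvd
        have h2 : -u ≤ 2 := Int.le_of_dvd two_pos (neg_dvd.mpr hdvd)
        have hP' : u * w = 2 := by rw [← hPe, hP]
        obtain ⟨l, hl⟩ : ∃ l, u = l := ⟨u, rfl⟩
        have hlo : -2 ≤ u := by linarith
        interval_cases u <;> omega
      rcases huu with hu' | hu'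
      · -- the positive solution
        rw [hu', mul_one] at hu
        have hapos : a = 2 * X + 1 := abs_of_nonneg (by linarith)
        have hdd := le_abs_self (2 * (X - s))
        rw [← hd] at hdd
        have hs' : 31262 * a ≤ 10000 * (14 * s + 16) := by
          have : 4466 * a ≤ 10000 * (2 * s + 1) := by linarith
          linarith
        have hsq2 : (31262 * a) ^ 2 ≤ (10000 * (14 * s + 16)) ^ 2 := pow_le_pow_left₀ (by linarith) hs' 2
        rw [mul_pow, mul_pow, ha2] at hsq2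
        linarith
      · -- the negative solution
        subst hu'
        have hw1 : w = -1 := by
          have : -2 * w = 2 := by linarith
          omega
        subst hw1
        have h17 : 17 ≤ n₃ := by omega
        have h17' : 17 ≤ n₂ := by linarith
        have hb := hb2 h17' h17
        have ha67 : 67 ≤ a := by
          rw [ha, abs_of_neg (by linarith)]
          linarith
        have hs' : 791 * a ≤ 10 * |374 * s + 476| := by
          rcases abs_cases (2 * s + 1) with ⟨e, -⟩ | ⟨e, -⟩ <;> rw [e] at hs <;>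
          linarith [le_abs_self (374 * s + 476), neg_le_abs (374 * s + 476)]
        have hsq2 : (791 * a) ^ 2 ≤ (10 * |374 * s + 476|) ^ 2 := pow_le_pow_left₀ (by linarith) hs' 2
        rw [mul_pow, mul_pow, ha2, sq_abs] at hsq2
        linarith
    · have ha43 : 43 ≤ a := by
        by_contra hc
        push Not at hc
        have : a ^ 2 ≤ 42 ^ 2 := pow_le_pow_left₀ ha0 (by omega) 2
        linarith [mul_le_mul_of_nonneg_left hP4 hMpos.le]
      have hs' : 291 * a ≤ 100 * |14 * s + 16| := by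
        rcases abs_cases (2 * s + 1) with ⟨e, -⟩ | ⟨e, -⟩ <;> rw [e] at hs <;>
          linarith [le_abs_self (14 * s + 16), neg_le_abs (14 * s + 16)]
      have hsq2 : (291 * a) ^ 2 ≤ (100 * |14 * s + 16|) ^ 2 := pow_le_pow_left₀ (by linarith) hs' 2
      rw [mul_pow, mul_pow, ha2, sq_abs] at hsq2
      linarith [mul_le_mul_of_nonneg_left hP4 hMpos.le]

end Cfsg.Agent.SSCThree
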