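import Mathlib.GroupTheory.Sylow
import Mathlib.GroupTheory.Index
import Mathlib.GroupTheory.PGroup
import Mathlib.GroupTheory.GroupAction.Quotient

/-!
# Self-centralising subgroups with small automiser

A subgroup `A` containing the centraliser of each of its non-trivial elements, with automiser of order
two or four.
-/

set_option autoImplicit false
set_option linter.unusedSectionVars false
set_option linter.style.haveILetI false

namespace Cfsg.Agent.SSCThree

open Subgroup

universe u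

variable {G : Type u} [Group G] [Finite G]

/-- A strongly self-centralising subgroup with automiser of order `e`. -/
structure SSC (A : Subgroup G) (e : ℕ) : Prop where
  cent : ∀ a ∈ A, a ≠ 1 → centralizer ({a} : Set G) = A
  rel : A.relIndex (normalizer (A : Set G)) = e
  e_cases : e = 2 ∨ e = 4
  big : 5 ≤ Nat.card A

namespace SSC

variable {A B : Subgroup G} {e f : ℕ} (hA : SSC A e)
include hA

theorem mem_of_comm {a x : G} (ha : a ∈ A) (ha1 : a ≠ 1) (h : x * a = a * x) : x ∈ A :=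
  hA.cent a ha ha1 ▸ mem_centralizer_singleton_iff.mpr h

theorem comm {a b : G} (ha : a ∈ A) (hb : b ∈ A) : a * b = b * a := by
  rcases eq_or_ne a 1 with rfl | ha1
  · simp
  · have hb' : b ∈ centralizer ({a} : Set G) := (hA.cent a ha ha1).symm ▸ hb
    exact (mem_centralizer_singleton_iff.mp hb').symm

theorem ne_bot : A ≠ ⊥ := by
  intro h
  have := hA.big
  rw [h, card_bot] at this
  omega

theorem exists_ne_one : ∃ a ∈ A, a ≠ 1 := (bot_or_exists_ne_one A).resolve_left hA.ne_bot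

/-- An element carrying one non-trivial element into `A` normalises `A`. -/
theorem mem_normalizer_of_conj {a g : G} (ha : a ∈ A) (ha1 : a ≠ 1) (hg : g * a * g⁻¹ ∈ A) :
    g ∈ normalizer (A : Set G) := by
  have hg1 : g * a * g⁻¹ ≠ 1 := fun h => ha1 (conj_eq_one_iff.mp h)
  rw [mem_normalizer_iff]
  intro x
  constructor
  · intro hx
    refine hA.mem_of_comm hg hg1 ?_
    calc g * x * g⁻¹ * (g * a * g⁻¹) = g * (x * a) * g⁻¹ := by group
      _ = g * (a * x) * g⁻¹ := by rw [hA.comm hx ha]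
      _ = g * a * g⁻¹ * (g * x * g⁻¹) := by group
  · intro hx
    refine hA.mem_of_comm ha ha1 ?_
    have h := hA.comm hx hg
    calc x * a = g⁻¹ * ((g * x * g⁻¹) * (g * a * g⁻¹)) * g := by group
      _ = g⁻¹ * ((g * a * g⁻¹) * (g * x * g⁻¹)) * g := by rw [h]
      _ = a * x := by group

theorem conj_mem {g x : G} (hg : g ∈ normalizer (A : Set G)) (hx : x ∈ A) : g * x * g⁻¹ ∈ A :=
  ((mem_normalizer_iff.mp hg) x).mp hx

/-- A non-trivial element of `A` is not conjugate into a second such subgroup which is not conjugate to `A`. -/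
theorem not_mem_of_not_conj (hB : SSC B f)
    (hnc : ∀ g : G, A.map (MulAut.conj g).toMonoidHom ≠ B) {a g : G} (ha : a ∈ A) (ha1 : a ≠ 1) :
    g * a * g⁻¹ ∉ B := by
  intro hb
  have hg1 : g * a * g⁻¹ ≠ 1 := fun h => ha1 (conj_eq_one_iff.mp h)
  refine hnc g (le_antisymm ?_ ?_)
  · rintro _ ⟨x, hx, rfl⟩
    refine hB.mem_of_comm hb hg1 ?_
    show g * x * g⁻¹ * (g * a * g⁻¹) = g * a * g⁻¹ * (g * x * g⁻¹)
    calc g * x * g⁻¹ * (g * a * g⁻¹) = g * (x * a) * g⁻¹ := by group
      _ = g * (a * x) * g⁻¹ := by rw [hA.comm hx ha]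
      _ = _ := by group
  · intro y hy
    refine ⟨g⁻¹ * y * g, hA.mem_of_comm ha ha1 ?_, by simp [MulAut.conj_apply, mul_assoc]⟩
    have h := hB.comm hy hb
    calc g⁻¹ * y * g * a = g⁻¹ * (y * (g * a * g⁻¹)) * g := by group
      _ = g⁻¹ * ((g * a * g⁻¹) * y) * g := by rw [h]
      _ = a * (g⁻¹ * y * g) := by group

omit hA in
theorem e_pos (hA : SSC A e) : 0 < e := by rcases hA.e_cases with h | h <;> omega

theorem card_normalizer : Nat.card (normalizer (A : Set G)) = e * Nat.card A := by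
  rw [← hA.rel, relIndex, ← (A.subgroupOf (normalizer (A : Set G))).index_mul_card,
    Nat.card_congr (subgroupOfEquivOfLe le_normalizer).toEquiv]

/-- Conjugation by an element acting without fixed point: the map `a ↦ [g, a]` on `A`. -/
theorem comm_map_surj {g : G} (hg : g ∈ normalizer (A : Set G)) (hgA : g ∉ A) {b : G} (hb : b ∈ A) :
    ∃ a ∈ A, g * a * g⁻¹ * a⁻¹ = b := by
  let T : A → A := fun a => ⟨g * (a : G) * g⁻¹ * (a : G)⁻¹, mul_mem (hA.conj_mem hg a.2) (inv_mem a.2)⟩
  have hinj : Function.Injective T := by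
    intro x y h
    have h' : g * (x : G) * g⁻¹ * (x : G)⁻¹ = g * (y : G) * g⁻¹ * (y : G)⁻¹ := congrArg Subtype.val h
    by_contra hne
    have hd : (y : G)⁻¹ * x ∈ A := mul_mem (inv_mem y.2) x.2
    have hd1 : (y : G)⁻¹ * x ≠ 1 := fun h => hne (Subtype.ext (inv_mul_eq_one.mp h).symm)
    refine hgA (hA.mem_of_comm hd hd1 ?_)
    have e1 : g * (x : G) * g⁻¹ = g * (y : G) * g⁻¹ * ((y : G)⁻¹ * x) := by
      rw [← mul_assoc, ← h']
      group
    calc g * ((y : G)⁻¹ * x) = (g * (y : G) * g⁻¹)⁻¹ * (g * (x : G) * g⁻¹) * g := by group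
      _ = (y : G)⁻¹ * x * g := by rw [e1]; group
  obtain ⟨a, ha⟩ := Finite.surjective_of_injective hinj ⟨b, hb⟩
  exact ⟨a, a.2, congrArg Subtype.val ha⟩

theorem inverts_of_sq {g : G} (hg : g ∈ normalizer (A : Set G)) (hgA : g ∉ A) (hg2 : g * g ∈ A)
    {a : G} (ha : a ∈ A) : g * a * g⁻¹ = a⁻¹ := by
  by_contra hne
  have hc : g * a * g⁻¹ * a ∈ A := mul_mem (hA.conj_mem hg ha) ha
  have hc1 : g * a * g⁻¹ * a ≠ 1 := fun h => hne (mul_eq_one_iff_eq_inv.mp h)
  refine hgA (hA.mem_of_comm hc hc1 ?_)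
  have h2 : g * (g * a * g⁻¹) * g⁻¹ = a := by
    calc g * (g * a * g⁻¹) * g⁻¹ = (g * g) * a * (g * g)⁻¹ := by group
      _ = a := by rw [hA.comm hg2 ha]; group
  calc g * (g * a * g⁻¹ * a) = (g * (g * a * g⁻¹) * g⁻¹) * (g * a * g⁻¹) * g := by group
    _ = a * (g * a * g⁻¹) * g := by rw [h2]
    _ = g * a * g⁻¹ * a * g := by rw [hA.comm ha (hA.conj_mem hg ha)]

theorem odd_card : Odd (Nat.card A) := by
  rw [Nat.odd_iff]
  by_contra hcon
  have h2 : 2 ∣ Nat.card A := by omega
  haveI : Fact (Nat.Prime 2) := ⟨Nat.prime_two⟩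
  obtain ⟨⟨z, hz⟩, hzo⟩ := exists_prime_orderOf_dvd_card' (G := A) 2 h2
  rw [← Subgroup.orderOf_coe] at hzo
  change orderOf z = 2 at hzo
  have hAN : A ≤ normalizer (A : Set G) := le_normalizer
  set N := normalizer (A : Set G)
  have h2e : 2 ∣ (A.subgroupOf N).index := by
    have : (A.subgroupOf N).index = e := hA.rel
    rw [this]; rcases hA.e_cases with h | h <;> simp [h]
  haveI : (A.subgroupOf N).Normal :=
    ⟨fun n hn g => mem_subgroupOf.mpr (hA.conj_mem g.2 (mem_subgroupOf.mp hn))⟩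
  obtain ⟨q, hq⟩ := exists_prime_orderOf_dvd_card' (G := N ⧸ A.subgroupOf N) 2 h2e
  obtain ⟨⟨g, hg⟩, rfl⟩ := QuotientGroup.mk_surjective q
  have hgA : g ∉ A := by
    intro h
    rw [(QuotientGroup.eq_one_iff (⟨g, hg⟩ : N)).mpr (mem_subgroupOf.mpr h), orderOf_one] at hq
    omega
  have hg2 : g * g ∈ A := by
    have h := pow_orderOf_eq_one ((⟨g, hg⟩ : N) : N ⧸ A.subgroupOf N)
    rw [hq, pow_two, ← QuotientGroup.mk_mul, QuotientGroup.eq_one_iff] at h
    exact mem_subgroupOf.mp h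
  have hi := hA.inverts_of_sq hg hgA hg2 hz
  have hz1 : z ≠ 1 := fun h => by rw [h, orderOf_one] at hzo; omega
  rw [inv_eq_of_mul_eq_one_right (show z * z = 1 by rw [← pow_two, ← hzo, pow_orderOf_eq_one])] at hi
  exact hgA (hA.mem_of_comm hz hz1 (mul_inv_eq_iff_eq_mul.mp hi))

theorem pow_card {a : G} (ha : a ∈ A) : a ^ Nat.card A = 1 := by
  exact congrArg Subtype.val (pow_card_eq_one' (G := A) (x := ⟨a, ha⟩))

theorem exists_gen : ∃ g ∈ normalizer (A : Set G), g ^ e = 1 ∧ ∀ k, 0 < k → k < e → g ^ k ∉ A := by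
  set N := normalizer (A : Set G)
  haveI : (A.subgroupOf N).Normal :=
    ⟨fun n hn g => mem_subgroupOf.mpr (hA.conj_mem g.2 (mem_subgroupOf.mp hn))⟩
  have hidx : (A.subgroupOf N).index = e := hA.rel
  have hpow : ∀ g ∈ N, g ^ e ∈ A := fun g hg => by
    have := (A.subgroupOf N).pow_index_mem (⟨g, hg⟩ : N)
    rw [hidx] at this
    exact mem_subgroupOf.mp this
  have hn := hA.odd_card
  -- some element of the normaliser has order `e` modulo `A`
  obtain ⟨g, hg, hgk⟩ : ∃ g ∈ N, ∀ k, 0 < k → k < e → g ^ k ∉ A := by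
    rcases hA.e_cases with rfl | rfl
    · obtain ⟨g, hgA⟩ : ∃ g : N, g ∉ A.subgroupOf N := by
        by_contra! h
        have : A.subgroupOf N = ⊤ := eq_top_iff.mpr fun x _ => h x
        rw [this, index_top] at hidx
        omega
      exact ⟨g, g.2, fun k h0 hk => by
        rw [show k = 1 by omega, pow_one]; exact fun h => hgA (mem_subgroupOf.mpr h)⟩
    · by_contra hcon
      push Not at hcon
      have hsq : ∀ g ∈ N, g * g ∈ A := fun g hg => by
        obtain ⟨k, h0, hk, hkA⟩ := hcon g hg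
        have h4 := hpow g hg
        interval_cases k
        · rw [pow_one] at hkA; exact mul_mem hkA hkA
        · rwa [pow_two] at hkA
        · have : g = (g ^ 3)⁻¹ * g ^ 4 := by group
          rw [this]
          exact mul_mem (mul_mem (inv_mem hkA) h4) (mul_mem (inv_mem hkA) h4)
      obtain ⟨a, ha, ha1⟩ := hA.exists_ne_one
      have hinv : ∀ g ∈ N, g ∉ A → g * a * g⁻¹ = a⁻¹ := fun g hg hgA =>
        hA.inverts_of_sq hg hgA (hsq g hg) ha
      have hsame : ∀ g : N, ∀ g' : N, g ∉ A.subgroupOf N → g' ∉ A.subgroupOf N →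
          (g : N ⧸ A.subgroupOf N) = g' := by
        intro g g' hgA hg'A
        rw [QuotientGroup.eq, mem_subgroupOf]
        refine hA.mem_of_comm ha ha1 ?_
        have e1 := hinv g g.2 fun h => hgA (mem_subgroupOf.mpr h)
        have e2 := hinv g' g'.2 fun h => hg'A (mem_subgroupOf.mpr h)
        show ((g : G)⁻¹ * (g' : G)) * a = a * ((g : G)⁻¹ * (g' : G))
        calc ((g : G)⁻¹ * (g' : G)) * a = (g : G)⁻¹ * ((g' : G) * a * (g' : G)⁻¹) * g' := by group
          _ = (g : G)⁻¹ * ((g : G) * a * (g : G)⁻¹) * g' := by rw [e2, e1]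
          _ = a * ((g : G)⁻¹ * (g' : G)) := by group
      classical
      haveI := Fintype.ofFinite (N ⧸ A.subgroupOf N)
      have h4 : Fintype.card (N ⧸ A.subgroupOf N) = 4 := by
        rw [← Nat.card_eq_fintype_card]; exact hidx
      obtain ⟨p, q, r, hpq, hpr, hqr⟩ := Fintype.two_lt_card_iff.mp
        (show 2 < Fintype.card (N ⧸ A.subgroupOf N) by omega)
      obtain ⟨p, rfl⟩ := QuotientGroup.mk_surjective p
      obtain ⟨q, rfl⟩ := QuotientGroup.mk_surjective q
      obtain ⟨r, rfl⟩ := QuotientGroup.mk_surjective r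
      by_cases hp : p ∈ A.subgroupOf N
      · have hq : q ∉ A.subgroupOf N := fun h =>
          hpq (((QuotientGroup.eq_one_iff p).mpr hp).trans ((QuotientGroup.eq_one_iff q).mpr h).symm)
        have hr : r ∉ A.subgroupOf N := fun h =>
          hpr (((QuotientGroup.eq_one_iff p).mpr hp).trans ((QuotientGroup.eq_one_iff r).mpr h).symm)
        exact hqr (hsame q r hq hr)
      · by_cases hq : q ∈ A.subgroupOf N
        · have hr : r ∉ A.subgroupOf N := fun h =>
            hqr (((QuotientGroup.eq_one_iff q).mpr hq).trans ((QuotientGroup.eq_one_iff r).mpr h).symm)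
          exact hpr (hsame p r hp hr)
        · exact hpq (hsame p q hp hq)
  refine ⟨g ^ Nat.card A, pow_mem hg _, ?_, fun k h0 hk hmem => ?_⟩
  · rw [← pow_mul, mul_comm, pow_mul]
    exact hA.pow_card (hpow g hg)
  · rw [← pow_mul] at hmem
    have h4 := hpow g hg
    set r := (Nat.card A * k) % e with hr
    have hmod : g ^ r ∈ A := by
      have h : g ^ (Nat.card A * k) = (g ^ e) ^ ((Nat.card A * k) / e) * g ^ r := by
        rw [← pow_mul, ← pow_add, hr, Nat.div_add_mod]
      rw [h] at hmem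
      exact (mul_mem_cancel_left (pow_mem h4 _)).mp hmem
    refine hgk r ?_ (Nat.mod_lt _ hA.e_pos) hmod
    obtain ⟨m, hm⟩ := hn
    rw [hm] at hr
    rcases hA.e_cases with rfl | rfl
    · interval_cases k; omega
    · interval_cases k <;> omega

/-- A chosen element of order `e` generating the automiser. -/
noncomputable def gen : G := hA.exists_gen.choose

theorem gen_mem : hA.gen ∈ normalizer (A : Set G) := hA.exists_gen.choose_spec.1

theorem gen_pow : hA.gen ^ e = 1 := hA.exists_gen.choose_spec.2.1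

theorem gen_pow_not_mem {k : ℕ} (h0 : 0 < k) (hk : k < e) : hA.gen ^ k ∉ A :=
  hA.exists_gen.choose_spec.2.2 k h0 hk

theorem normal_form_bij : Function.Bijective
    (fun p : A × Fin e => (⟨(p.1 : G) * hA.gen ^ (p.2 : ℕ),
      mul_mem (le_normalizer p.1.2) (pow_mem hA.gen_mem _)⟩ : normalizer (A : Set G))) := by
  rw [Nat.bijective_iff_injective_and_card]
  refine ⟨?_, by simp [hA.card_normalizer, mul_comm]⟩
  have key : ∀ p q : A × Fin e, (q.2 : ℕ) ≤ p.2 →
      (p.1 : G) * hA.gen ^ (p.2 : ℕ) = (q.1 : G) * hA.gen ^ (q.2 : ℕ) → p = q := by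
    intro p q hle h
    have hd : hA.gen ^ ((p.2 : ℕ) - q.2) ∈ A := by
      have : hA.gen ^ ((p.2 : ℕ) - q.2) = (p.1 : G)⁻¹ * q.1 := by
        rw [eq_inv_mul_iff_mul_eq]
        apply mul_right_cancel (b := hA.gen ^ (q.2 : ℕ))
        rw [mul_assoc, ← pow_add, Nat.sub_add_cancel hle, h]
      rw [this]
      exact mul_mem (inv_mem p.1.2) q.1.2
    have h0 : (p.2 : ℕ) = q.2 := by
      by_contra hne
      exact hA.gen_pow_not_mem (by omega) (by omega) hd
    rw [h0] at h
    exact Prod.ext (Subtype.ext (mul_right_cancel h)) (Fin.ext h0)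
  intro p q h
  have h' := congrArg Subtype.val h
  rcases le_total (q.2 : ℕ) p.2 with hle | hle
  exacts [key p q hle h', (key q p hle h'.symm).symm]

theorem exists_normal_form {x : G} (hx : x ∈ normalizer (A : Set G)) :
    ∃ a ∈ A, ∃ k < e, x = a * hA.gen ^ k := by
  obtain ⟨⟨a, k⟩, h⟩ := hA.normal_form_bij.2 ⟨x, hx⟩
  exact ⟨a, a.2, k, k.2, (congrArg Subtype.val h).symm⟩

/-- The involution of the automiser. -/
noncomputable def invol : G := hA.gen ^ (e / 2)

theorem invol_mem : hA.invol ∈ normalizer (A : Set G) := pow_mem hA.gen_mem _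

theorem invol_not_mem : hA.invol ∉ A :=
  hA.gen_pow_not_mem (by rcases hA.e_cases with h | h <;> omega) (by rcases hA.e_cases with h | h <;> omega)

theorem invol_sq : hA.invol * hA.invol = 1 := by
  rw [invol, ← pow_add, show e / 2 + e / 2 = e by rcases hA.e_cases with h | h <;> omega, hA.gen_pow]

theorem orderOf_invol : orderOf hA.invol = 2 :=
  orderOf_eq_prime (by rw [pow_two, hA.invol_sq]) (fun h => hA.invol_not_mem (h ▸ one_mem A))

theorem invol_inverts {a : G} (ha : a ∈ A) : hA.invol * a * hA.invol⁻¹ = a⁻¹ :=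
  hA.inverts_of_sq hA.invol_mem hA.invol_not_mem (hA.invol_sq ▸ one_mem A) ha

theorem invol_cases {u : G} (hu : u ∈ normalizer (A : Set G)) (hu2 : u * u = 1) :
    u = 1 ∨ ∃ a ∈ A, u = a * hA.invol := by
  obtain ⟨a, ha, k, hk, rfl⟩ := hA.exists_normal_form hu
  have hk' : hA.gen ^ k * hA.gen ^ k ∈ A := by
    have h1 : hA.gen ^ k * hA.gen ^ k =
        (a * (hA.gen ^ k * a * (hA.gen ^ k)⁻¹))⁻¹ * ((a * hA.gen ^ k) * (a * hA.gen ^ k)) := by group
    rw [h1, hu2, mul_one]
    exact inv_mem (mul_mem ha (hA.conj_mem (pow_mem hA.gen_mem _) ha))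
  rcases Nat.eq_zero_or_pos k with rfl | hk0
  · left
    rw [pow_zero, mul_one] at hu2 ⊢
    obtain ⟨m, hm⟩ := hA.odd_card
    have := hA.pow_card ha
    rw [hm, pow_succ, pow_mul, pow_two, hu2, one_pow, one_mul] at this
    exact this
  · refine Or.inr ⟨a, ha, ?_⟩
    rw [invol]
    congr 2
    rw [← pow_add] at hk'
    rcases hA.e_cases with rfl | rfl
    · omega
    · by_contra hne
      have h4 := hA.gen_pow
      interval_cases k
      · exact hA.gen_pow_not_mem (k := 2) (by omega) (by omega) hk'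
      · omega
      · refine hA.gen_pow_not_mem (k := 2) (by omega) (by omega) ?_
        rwa [show 3 + 3 = 4 + 2 from rfl, pow_add, h4, one_mul] at hk'

theorem invol_conj {a : G} (ha : a ∈ A) : IsConj hA.invol (a * hA.invol) := by
  obtain ⟨m, hm⟩ := hA.odd_card
  set b := a ^ (m + 1) with hb
  have hbA : b ∈ A := pow_mem ha _
  have hb2 : b * b = a := by
    have := hA.pow_card ha
    rw [hm] at this
    rw [hb, ← pow_add, show m + 1 + (m + 1) = (2 * m + 1) + 1 by ring, pow_succ, this, one_mul]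
  refine isConj_iff.mpr ⟨b, ?_⟩
  have h := hA.invol_inverts (inv_mem hbA)
  rw [inv_inv] at h
  calc b * hA.invol * b⁻¹ = b * (hA.invol * b⁻¹ * hA.invol⁻¹) * hA.invol := by group
    _ = a * hA.invol := by rw [h, hb2]

/-- Conjugation by the generator is free on the non-trivial elements. -/
theorem free {a : G} (ha : a ∈ A) (ha1 : a ≠ 1) {k : ℕ} (hk : k < e)
    (h : hA.gen ^ k * a * (hA.gen ^ k)⁻¹ = a) : k = 0 := by
  by_contra hk0
  exact hA.gen_pow_not_mem (by omega) hk (hA.mem_of_comm ha ha1 (mul_inv_eq_iff_eq_mul.mp h))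

/-- The element `x` is conjugate to a non-trivial element of `A`. -/
def InConj (A : Subgroup G) (x : G) : Prop := ∃ g : G, ∃ a ∈ A, a ≠ 1 ∧ g * a * g⁻¹ = x

/-- Prime divisors of `|A|`: elements of that order are conjugate into `A`. -/
theorem inConj_of_prime {p : ℕ} (hp : p.Prime) (hpA : p ∣ Nat.card A) {x : G} (hx : orderOf x = p) :
    InConj A x := by
  haveI := Fact.mk hp
  obtain ⟨⟨a, ha⟩, hao⟩ := exists_prime_orderOf_dvd_card' (G := A) p hpA
  rw [← Subgroup.orderOf_coe] at hao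
  change orderOf a = p at hao
  have ha1 : a ≠ 1 := fun h => by rw [h, orderOf_one] at hao; exact hp.one_lt.ne hao
  obtain ⟨P, hP⟩ := IsPGroup.exists_le_sylow (P := zpowers a)
    (IsPGroup.of_card (n := 1) (by rw [Nat.card_zpowers, hao, pow_one]))
  haveI : Nontrivial (P : Subgroup G) := ⟨⟨⟨a, hP (mem_zpowers a)⟩, 1, fun h => ha1 (congrArg Subtype.val h)⟩⟩
  haveI := IsPGroup.center_nontrivial P.isPGroup'
  obtain ⟨⟨⟨z, hzP⟩, hz⟩, hz1⟩ := exists_ne (1 : center (P : Subgroup G))
  have hz1' : z ≠ 1 := fun h => hz1 (Subtype.ext (Subtype.ext h))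
  have hzA : z ∈ A := hA.mem_of_comm ha ha1 (congrArg Subtype.val
    ((mem_center_iff.mp hz) ⟨a, hP (mem_zpowers a)⟩)).symm
  have hPA : (P : Subgroup G) ≤ A := fun w hw => hA.mem_of_comm hzA hz1'
    (congrArg Subtype.val ((mem_center_iff.mp hz) ⟨w, hw⟩))
  obtain ⟨Q, hQ⟩ := IsPGroup.exists_le_sylow (P := zpowers x)
    (IsPGroup.of_card (n := 1) (by rw [Nat.card_zpowers, hx, pow_one]))
  obtain ⟨g, hg⟩ := MulAction.exists_smul_eq G P Q
  have hxQ : x ∈ (Q : Subgroup G) := hQ (mem_zpowers x)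
  rw [← hg, Sylow.coe_subgroup_smul, Subgroup.mem_smul_pointwise_iff_exists] at hxQ
  obtain ⟨w, hw, rfl⟩ := hxQ
  refine ⟨g, w, hPA hw, fun h => ?_, rfl⟩
  rw [h] at hx
  simp at hx
  exact hp.one_lt.ne hx

theorem centralizer_of_inConj {x : G} (hx : InConj A x) :
    Nat.card (centralizer ({x} : Set G)) = Nat.card A := by
  obtain ⟨g, a, ha, ha1, rfl⟩ := hx
  refine (Nat.card_congr (((MulAut.conj g).toEquiv).subtypeEquiv fun y => ?_)).symm
  show y ∈ A ↔ g * y * g⁻¹ ∈ centralizer ({g * a * g⁻¹} : Set G)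
  rw [mem_centralizer_singleton_iff]
  constructor
  · intro hy
    calc g * y * g⁻¹ * (g * a * g⁻¹) = g * (y * a) * g⁻¹ := by group
      _ = g * (a * y) * g⁻¹ := by rw [hA.comm hy ha]
      _ = _ := by group
  · intro h
    refine hA.mem_of_comm ha ha1 ?_
    calc y * a = g⁻¹ * (g * y * g⁻¹ * (g * a * g⁻¹)) * g := by group
      _ = g⁻¹ * (g * a * g⁻¹ * (g * y * g⁻¹)) * g := by rw [h]
      _ = a * y := by group

/-- `|A|` is prime to its index. -/
theorem coprime_index : (Nat.card A).Coprime A.index := by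
  by_contra hc
  obtain ⟨p, hp, hpA, hpi⟩ := Nat.Prime.not_coprime_iff_dvd.mp hc
  haveI := Fact.mk hp
  obtain ⟨⟨a, ha⟩, hao⟩ := exists_prime_orderOf_dvd_card' (G := A) p hpA
  rw [← Subgroup.orderOf_coe] at hao
  change orderOf a = p at hao
  have ha1 : a ≠ 1 := fun h => by rw [h, orderOf_one] at hao; exact hp.one_lt.ne hao
  obtain ⟨P, hP⟩ := IsPGroup.exists_le_sylow (P := zpowers a)
    (IsPGroup.of_card (n := 1) (by rw [Nat.card_zpowers, hao, pow_one]))
  haveI : Nontrivial (P : Subgroup G) := ⟨⟨⟨a, hP (mem_zpowers a)⟩, 1, fun h => ha1 (congrArg Subtype.val h)⟩⟩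
  haveI := IsPGroup.center_nontrivial P.isPGroup'
  obtain ⟨⟨⟨z, hzP⟩, hz⟩, hz1⟩ := exists_ne (1 : center (P : Subgroup G))
  have hz1' : z ≠ 1 := fun h => hz1 (Subtype.ext (Subtype.ext h))
  have hzA : z ∈ A := hA.mem_of_comm ha ha1 (congrArg Subtype.val
    ((mem_center_iff.mp hz) ⟨a, hP (mem_zpowers a)⟩)).symm
  have hPA : (P : Subgroup G) ≤ A := fun w hw => hA.mem_of_comm hzA hz1'
    (congrArg Subtype.val ((mem_center_iff.mp hz) ⟨w, hw⟩))
  exact P.not_dvd_index (hpi.trans (index_dvd_of_le hPA))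

end SSC

end Cfsg.Agent.SSCThree
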