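import Mathlib.GroupTheory.Sylow
import Mathlib.GroupTheory.Complement
import Mathlib.GroupTheory.PGroup
import Cfsg.Agent.Lib.Char.Burnside
import Cfsg.Agent.Lib.Solvable.Fitting
import Cfsg.Agent.Lib.Signalizer.Basic

/-!
# Small centralisers: groups of order `2 ^ d * 3 ^ n`
-/

set_option autoImplicit false
set_option linter.unusedSectionVars false
set_option linter.style.haveILetI false

namespace Cfsg.Agent.SSCThree

open Subgroup
open scoped Classical

universe u

/-- `2 ^ d - 1` is a power of three only for `d ≤ 2`. -/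
theorem two_pow_sub_one {d i : ℕ} (h : 2 ^ d - 1 ∣ 3 ^ i) : d ≤ 2 := by
  by_contra hd
  obtain ⟨j, -, hj⟩ := (Nat.dvd_prime_pow Nat.prime_three).mp h
  have h8 : (8 : ℕ) ∣ 2 ^ d := ⟨2 ^ (d - 3), by
    rw [show (8 : ℕ) = 2 ^ 3 from rfl, ← pow_add]; congr 1; omega⟩
  have hmod : ∀ j : ℕ, 3 ^ j % 8 = 1 ∨ 3 ^ j % 8 = 3 := by
    intro j
    induction j with
    | zero => simp
    | succ j ih => rw [pow_succ]; omega
  have := hmod j
  have : 1 ≤ 2 ^ d := Nat.one_le_two_pow
  omega

/-- `r ^ f - 1` is a power of two only for `f = 1` and for nine. -/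
theorem prime_pow_sub_one {r f j : ℕ} (hr : r.Prime) (h2 : r ≠ 2) (hf : 1 ≤ f) (h : r ^ f = 2 ^ j + 1) :
    f = 1 ∨ (r = 3 ∧ f = 2) := by
  rcases Nat.even_or_odd f with ⟨g, rfl⟩ | hodd
  · right
    have hg : 1 ≤ g := by omega
    have hr3 : 3 ≤ r := by have := hr.two_le; omega
    have hge : 3 ≤ r ^ g := le_trans hr3 (Nat.le_self_pow (by omega) r)
    have hmul : (r ^ g - 1) * (r ^ g + 1) = 2 ^ j := by
      have e : r ^ (g + g) = r ^ g * r ^ g := pow_add r g g
      rw [e] at h
      obtain ⟨z, hz⟩ : ∃ z, r ^ g = z + 1 := ⟨r ^ g - 1, by omega⟩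
      rw [hz] at h ⊢
      simp only [Nat.add_sub_cancel]
      linarith [h]
    obtain ⟨a, -, ha⟩ := (Nat.dvd_prime_pow Nat.prime_two).mp (hmul ▸ Dvd.intro _ rfl : r ^ g - 1 ∣ 2 ^ j)
    obtain ⟨b, -, hb⟩ := (Nat.dvd_prime_pow Nat.prime_two).mp (hmul ▸ Dvd.intro_left _ rfl : r ^ g + 1 ∣ 2 ^ j)
    have hab : a < b := (Nat.pow_lt_pow_iff_right (by norm_num)).mp (show 2 ^ a < 2 ^ b by omega)
    have ha1 : a ≤ 1 := by
      by_contra hc
      have h4a : 4 ∣ 2 ^ a := ⟨2 ^ (a - 2), by rw [show (4 : ℕ) = 2 ^ 2 from rfl, ← pow_add]; congr 1; omega⟩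
      have h4b : 4 ∣ 2 ^ b := ⟨2 ^ (b - 2), by rw [show (4 : ℕ) = 2 ^ 2 from rfl, ← pow_add]; congr 1; omega⟩
      omega
    have : r ^ g = 3 := by
      interval_cases a <;> simp only [pow_zero, pow_one] at ha <;> omega
    obtain rfl : r = 3 := by
      have := Nat.le_self_pow (show g ≠ 0 by omega) r
      omega
    refine ⟨rfl, ?_⟩
    have := (Nat.pow_eq_self_iff (show 1 < 3 by norm_num)).mp this
    omega
  · left
    by_contra hf1
    have hr3 : 3 ≤ r := by have := hr.two_le; omega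
    have hgeo := Nat.geomSum_eq hr.two_le f
    set s := ∑ k ∈ Finset.range f, r ^ k with hs
    have hsodd : Odd s := by
      rw [hs, Finset.odd_sum_iff_odd_card_odd]
      rw [Finset.filter_true_of_mem fun k _ => (hr.odd_of_ne_two h2).pow, Finset.card_range]
      exact hodd
    have hmul : (r - 1) * s = 2 ^ j := by
      rw [hgeo, Nat.mul_div_cancel' (Nat.sub_one_dvd_pow_sub_one r f), h, Nat.add_sub_cancel]
    obtain ⟨a, -, ha⟩ := (Nat.dvd_prime_pow Nat.prime_two).mp (hmul ▸ Dvd.intro_left _ rfl : s ∣ 2 ^ j)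
    have hs1 : s = 1 := by
      rcases Nat.eq_zero_or_pos a with rfl | ha0
      · simpa using ha
      · obtain ⟨m, hm⟩ := hsodd
        have : 2 ∣ 2 ^ a := dvd_pow_self 2 (by omega)
        omega
    have : 2 ≤ s := by
      rw [hs]
      calc 2 = ∑ _k ∈ Finset.range 2, 1 := by simp
        _ ≤ ∑ k ∈ Finset.range 2, r ^ k := Finset.sum_le_sum fun k _ => Nat.one_le_pow _ _ (by omega)
        _ ≤ _ := Finset.sum_le_sum_of_subset (by
          intro k hk; simp only [Finset.mem_range] at *; omega)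
    omega

variable {X : Type u} [Group X] [Finite X]

/-- The class of an element times its centraliser. -/
theorem card_class_mul (x : X) :
    Nat.card {z : X // IsConj x z} * Nat.card (centralizer ({x} : Set X)) = Nat.card X := by
  rw [← (centralizer ({x} : Set X)).index_mul_card]
  congr 1
  rw [Subgroup.index]
  refine (Nat.card_congr (Equiv.ofBijective
    (Quotient.lift (fun g : X => (⟨g * x * g⁻¹, isConj_iff.mpr ⟨g, rfl⟩⟩ : {z : X // IsConj x z}))
      (fun a b h => ?_)) ⟨?_, ?_⟩)).symm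
  · have h' : a⁻¹ * b ∈ centralizer ({x} : Set X) := QuotientGroup.leftRel_apply.mp h
    rw [mem_centralizer_singleton_iff] at h'
    refine Subtype.ext ?_
    show a * x * a⁻¹ = b * x * b⁻¹
    calc a * x * a⁻¹ = a * (x * (a⁻¹ * b)) * b⁻¹ := by group
      _ = a * ((a⁻¹ * b) * x) * b⁻¹ := by rw [h']
      _ = b * x * b⁻¹ := by group
  · intro p q
    refine Quotient.inductionOn₂ p q fun a b h => ?_
    refine Quotient.sound (QuotientGroup.leftRel_apply.mpr ?_)
    have h' : a * x * a⁻¹ = b * x * b⁻¹ := congrArg Subtype.val h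
    rw [mem_centralizer_singleton_iff]
    calc a⁻¹ * b * x = a⁻¹ * (b * x * b⁻¹) * b := by group
      _ = a⁻¹ * (a * x * a⁻¹) * b := by rw [h']
      _ = x * (a⁻¹ * b) := by group
  · rintro ⟨z, hz⟩
    obtain ⟨g, rfl⟩ := isConj_iff.mp hz
    exact ⟨Quotient.mk'' g, rfl⟩

/-- Fusion inside an abelian Sylow subgroup: the number of conjugates of an element. -/
theorem fusion_count {p : ℕ} [Fact p.Prime] (P : Sylow p X) (hab : ∀ a ∈ P, ∀ b ∈ P, a * b = b * a)
    {y : X} (hy : y ∈ P) {K : Subgroup X} (hKN : K ≤ normalizer (P : Set X))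
    (hK : ∀ k ∈ K, k * y = y * k) :
    Nat.card {z : (P : Subgroup X) // IsConj y (z : X)} * Nat.card K ∣ Nat.card X := by
  haveI : IsMulCommutative (P : Subgroup X) := ⟨⟨fun a b => Subtype.ext (hab a a.2 b b.2)⟩⟩
  set N := normalizer (P : Set X)
  set yN : N := ⟨y, le_normalizer hy⟩
  have key : Nat.card {z : (P : Subgroup X) // IsConj y (z : X)} = Nat.card {z : N // IsConj yN z} := by
    refine Nat.card_congr (Equiv.ofBijective (fun z => ⟨⟨(z.1 : X), le_normalizer z.1.2⟩, ?_⟩) ⟨?_, ?_⟩)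
    · obtain ⟨g, hg⟩ := isConj_iff.mp z.2
      obtain ⟨n, hn, hne⟩ := P.conj_eq_normalizer_conj_of_mem y g⁻¹ hy (by rw [inv_inv, hg]; exact z.1.2)
      rw [inv_inv, hg] at hne
      refine isConj_iff.mpr ⟨⟨n⁻¹, inv_mem hn⟩, Subtype.ext ?_⟩
      show n⁻¹ * y * n⁻¹⁻¹ = (z.1 : X)
      rw [inv_inv, hne]
    · intro a b h
      exact Subtype.ext (Subtype.ext (congrArg (fun w : {z : N // IsConj yN z} => (w.1 : X)) h))
    · rintro ⟨z, hz⟩
      obtain ⟨⟨n, hn⟩, hne⟩ := isConj_iff.mp hz
      have hne' : n * y * n⁻¹ = (z : X) := congrArg Subtype.val hne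
      have hzP : (z : X) ∈ (P : Subgroup X) := hne' ▸ ((mem_normalizer_iff.mp hn) y).mp hy
      exact ⟨⟨⟨z, hzP⟩, isConj_iff.mpr ⟨n, hne'⟩⟩, rfl⟩
  rw [key]
  refine dvd_trans (mul_dvd_mul_left _ ?_) ((card_class_mul yN).dvd.trans (card_subgroup_dvd_card N))
  rw [← Nat.card_congr (subgroupOfEquivOfLe hKN).toEquiv]
  refine card_dvd_of_le fun k hk => ?_
  rw [mem_centralizer_singleton_iff]
  exact Subtype.ext (hK k (mem_subgroupOf.mp hk))

theorem pow_four {w : X} {k : ℕ} (h4 : ∀ w : X, w ^ 4 = 1 → w * w = 1) (hw : w ^ 2 ^ k = 1) :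
    w * w = 1 := by
  induction k generalizing w with
  | zero => simp only [pow_zero, pow_one] at hw; rw [hw, one_mul]
  | succ k ih =>
    refine h4 w ?_
    have h := ih (w := w * w) (by rw [← pow_two, ← pow_mul, ← pow_succ']; exact hw)
    rw [show (4 : ℕ) = 2 + 2 from rfl, pow_add, pow_two]
    exact h

/-! ### A Sylow four group with one class of involutions -/

theorem four_lemma {b : ℕ} (hcard : Nat.card X = 4 * 3 ^ b) (h4 : ∀ w : X, w ^ 4 = 1 → w * w = 1)
    (hab : ∀ R : Sylow 3 X, ∀ x ∈ R, ∀ y ∈ R, x * y = y * x)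
    (hconj : ∀ u v : X, orderOf u = 2 → orderOf v = 2 → IsConj u v) {t : X} (ht : orderOf t = 2) :
    Nat.card (centralizer ({t} : Set X)) * 3 = Nat.card X ∧ Nat.card {z : X // orderOf z = 2} = 3 ∧
      ∀ g g' : X, g * t = t * g → g' * t = t * g' → g * g' = g' * g := by
  haveI : Fact (Nat.Prime 2) := ⟨Nat.prime_two⟩
  haveI : Fact (Nat.Prime 3) := ⟨Nat.prime_three⟩
  have hfact3 : (Nat.card X).factorization 3 = b := by
    rw [hcard, Nat.factorization_mul (by norm_num) (by positivity), Nat.factorization_pow]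
    simp [Nat.prime_three.factorization, Nat.factorization_eq_zero_of_not_dvd (show ¬ 3 ∣ 4 by norm_num)]
  have hfact2 : (Nat.card X).factorization 2 = 2 := by
    rw [hcard, show (4 : ℕ) = 2 ^ 2 by norm_num, Nat.factorization_mul (by norm_num) (by positivity),
      Nat.factorization_pow, Nat.factorization_pow]
    simp [Nat.prime_two.factorization, Nat.prime_three.factorization]
  obtain ⟨W, hW⟩ := IsPGroup.exists_le_sylow (P := zpowers t)
    (IsPGroup.of_card (n := 1) (by rw [Nat.card_zpowers, ht, pow_one]))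
  have htW : t ∈ (W : Subgroup X) := hW (mem_zpowers t)
  have cW : Nat.card (W : Subgroup X) = 4 := by rw [W.card_eq_multiplicity, hfact2]; rfl
  obtain ⟨R⟩ := (inferInstance : Nonempty (Sylow 3 X))
  have cR : Nat.card (R : Subgroup X) = 3 ^ b := by rw [R.card_eq_multiplicity, hfact3]
  have hsq : ∀ w ∈ (W : Subgroup X), w * w = 1 := fun w hw => by
    obtain ⟨k, hk⟩ := W.isPGroup' ⟨w, hw⟩
    exact pow_four h4 (k := k) (congrArg Subtype.val hk)
  have hWc : ∀ a ∈ (W : Subgroup X), ∀ c ∈ (W : Subgroup X), a * c = c * a := fun a ha c hc => by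
    have h1 := hsq _ (mul_mem ha hc)
    have h2 := hsq _ ha
    have h3 := hsq _ hc
    calc a * c = (a * c) * ((a * c) * (a * c))⁻¹ := by rw [h1, inv_one, mul_one]
      _ = c⁻¹ * a⁻¹ := by group
      _ = c * a := by rw [inv_eq_of_mul_eq_one_left h2, inv_eq_of_mul_eq_one_left h3]
  have ht1 : t ≠ 1 := fun h => by rw [h, orderOf_one] at ht; omega
  obtain ⟨t₂, ht₂W, ht₂1, ht₂t⟩ : ∃ t₂ ∈ (W : Subgroup X), t₂ ≠ 1 ∧ t₂ ≠ t := by
    by_contra! h
    haveI := Fintype.ofFinite (W : Subgroup X)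
    have h3 : ∀ w : (W : Subgroup X), w ∈ ({1, ⟨t, htW⟩} : Finset (W : Subgroup X)) := fun w => by
      rcases eq_or_ne (w : X) 1 with e | e
      · exact Finset.mem_insert.mpr (Or.inl (Subtype.ext e))
      · exact Finset.mem_insert_of_mem (Finset.mem_singleton.mpr (Subtype.ext (h w w.2 e)))
    have := (Finset.card_le_card (s := Finset.univ) (fun w _ => h3 w)).trans Finset.card_le_two
    rw [Finset.card_univ, ← Nat.card_eq_fintype_card, cW] at this
    omega
  have inv2 : ∀ w ∈ (W : Subgroup X), w ≠ 1 → orderOf w = 2 := fun w hw h =>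
    orderOf_eq_prime (by rw [pow_two, hsq w hw]) h
  set t₃ := t * t₂ with ht₃
  have ht₃W : t₃ ∈ (W : Subgroup X) := mul_mem htW ht₂W
  have ht₃1 : t₃ ≠ 1 := fun h => ht₂t (by
    rw [ht₃, mul_eq_one_iff_inv_eq, inv_eq_of_mul_eq_one_left (hsq t htW)] at h
    exact h.symm)
  have hcop : (Nat.card (R : Subgroup X)).Coprime (Nat.card (W : Subgroup X)) := by
    rw [cR, cW]; exact Nat.Coprime.pow_left _ (by norm_num)
  have hcompl := Subgroup.isComplement'_of_coprime
    (by rw [cR, cW, hcard, mul_comm] : Nat.card (R : Subgroup X) * Nat.card (W : Subgroup X) = Nat.card X) hcop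
  -- a normal subgroup above `R` contains every involution
  have habove : ∀ M : Subgroup X, M.Normal → (R : Subgroup X) ≤ M → ∀ z, orderOf z = 2 → z ∈ M := by
    intro M hM hRM
    have h3 : t₃ ∈ M := by
      obtain ⟨g, hg⟩ := isConj_iff.mp (hconj t t₂ ht (inv2 t₂ ht₂W ht₂1))
      obtain ⟨⟨⟨r, hr⟩, ⟨w, hw⟩⟩, hrw⟩ := hcompl.2 g
      change r * w = g at hrw
      have e : t₃ = t * r * t⁻¹ * r⁻¹ := by
        have hwt : w * t * w⁻¹ = t := by rw [hWc w hw t htW, mul_inv_cancel_right]
        calc t₃ = t * (g * t * g⁻¹) := by rw [ht₃, hg]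
          _ = t * (r * (w * t * w⁻¹) * r⁻¹) := by rw [← hrw]; group
          _ = t * r * t * r⁻¹ := by rw [hwt]; group
          _ = _ := by rw [inv_eq_of_mul_eq_one_left (hsq t htW)]
      rw [e]
      exact mul_mem (hM.conj_mem r (hRM hr) t) (inv_mem (hRM hr))
    intro z hz
    obtain ⟨g, rfl⟩ := isConj_iff.mp (hconj t₃ z (inv2 _ ht₃W ht₃1) hz)
    exact hM.conj_mem t₃ h3 g
  have hR : ¬ (R : Subgroup X).Normal := fun hn => by
    have := habove _ hn le_rfl t ht
    obtain ⟨k, hk⟩ := R.isPGroup' ⟨t, this⟩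
    have h2 : orderOf t ∣ 3 ^ k := orderOf_dvd_of_pow_eq_one (congrArg Subtype.val hk)
    rw [ht] at h2
    exact absurd (Nat.prime_two.dvd_of_dvd_pow h2) (by norm_num)
  have hn3 : Nat.card (Sylow 3 X) = 4 := by
    have h1 : Nat.card (Sylow 3 X) ≡ 1 [MOD 3] := card_sylow_modEq_one 3 X
    have h2 : Nat.card (Sylow 3 X) ∣ (R : Subgroup X).index := R.card_dvd_index
    have hi : (R : Subgroup X).index = 4 := by
      have h3 := (R : Subgroup X).card_mul_index
      rw [cR, hcard, mul_comm 4] at h3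
      exact Nat.eq_of_mul_eq_mul_left (by positivity) h3
    rw [hi] at h2
    have hle := Nat.le_of_dvd (by norm_num) h2
    have hne : Nat.card (Sylow 3 X) ≠ 1 := fun h => hR <| by
      haveI : Subsingleton (Sylow 3 X) := (Nat.card_eq_one_iff_unique.mp h).1
      exact R.normal_of_subsingleton
    unfold Nat.ModEq at h1
    interval_cases Nat.card (Sylow 3 X) <;> omega
  -- the kernel of the action on the Sylow subgroups
  set φ := MulAction.toPermHom X (Sylow 3 X)
  set I := φ.ker with hI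
  have hIR : ∀ P : Sylow 3 X, I ≤ normalizer (P : Set X) := fun P x hx => by
    have := DFunLike.congr_fun (MonoidHom.mem_ker.mp hx) P
    rw [← P.stabilizer_eq_normalizer]
    exact this
  have hidx : I.index ∣ 24 := by
    have h := card_subgroup_dvd_card φ.range
    rw [Nat.card_perm, hn3] at h
    rw [hI, Subgroup.index_ker]
    exact h
  have h4I : 4 ∣ I.index := by
    obtain ⟨j, hj⟩ := relIndex_dvd_index_of_normal I (normalizer (R : Set X)) |>.trans dvd_rfl
    have hle : I ≤ normalizer (R : Set X) := hIR R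
    have := relIndex_mul_index hle
    rw [← R.card_eq_index_normalizer, hn3] at this
    exact ⟨_, by rw [← this, mul_comm]⟩
  obtain ⟨i, hi⟩ : ∃ i, I.index = 4 * 3 ^ i ∧ i ≤ 1 := by
    have h1 : I.index ∣ 4 * 3 ^ b := hcard ▸ I.index_dvd_card
    obtain ⟨k, hk⟩ := h4I
    rw [hk] at h1 hidx
    obtain ⟨i, -, rfl⟩ := (Nat.dvd_prime_pow Nat.prime_three).mp ((mul_dvd_mul_iff_left (by norm_num)).mp h1)
    refine ⟨i, hk, ?_⟩
    by_contra hc
    have h9 : 9 ∣ 4 * 3 ^ i := Dvd.dvd.mul_left ⟨3 ^ (i - 2), by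
      rw [show (9 : ℕ) = 3 ^ 2 from rfl, ← pow_add]; congr 1; omega⟩ 4
    exact absurd (h9.trans hidx) (by norm_num)
  have hIi : Nat.card I * (4 * 3 ^ i) = 4 * 3 ^ b := by rw [← hi.1, I.card_mul_index, hcard]
  have hIcard : Nat.card I * 3 ^ i = 3 ^ b := by
    refine Nat.eq_of_mul_eq_mul_left (show 0 < 4 by norm_num) ?_
    linarith
  have hIp : IsPGroup 3 I := by
    obtain ⟨k, -, hk⟩ := (Nat.dvd_prime_pow Nat.prime_three).mp (hIcard ▸ Dvd.intro _ rfl : Nat.card I ∣ 3 ^ b)
    exact IsPGroup.of_card hk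
  have hIle : ∀ P : Sylow 3 X, I ≤ (P : Subgroup X) := fun P => hIp.le_sylow_of_normal P
  have hi1 : i = 1 := by
    by_contra hne
    have h0 : i = 0 := by omega
    rw [h0, pow_zero, mul_one, ← cR] at hIcard
    have : I = (R : Subgroup X) := eq_of_le_of_card_ge (hIle R) hIcard.ge
    exact hR (this ▸ inferInstance)
  rw [hi1, pow_one] at hIcard
  -- the kernel is centralised by every involution
  have hIc : ∀ z, orderOf z = 2 → ∀ k ∈ I, z * k = k * z := by
    intro z hz k hk
    have hM : (centralizer (I : Set X)).Normal := inferInstance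
    have := habove _ hM (fun r hr => mem_centralizer_iff.mpr fun k hk => hab R k (hIle R hk) r hr) z hz
    exact (mem_centralizer_iff.mp this k hk).symm
  have hIW : Disjoint I (W : Subgroup X) :=
    (IsPGroup.disjoint_of_ne 3 2 (by norm_num) I _ hIp W.isPGroup')
  have hle : (Nat.card I) * 4 ∣ Nat.card (centralizer ({t} : Set X)) := by
    rw [← cW]
    refine (Nat.Coprime.mul_dvd_of_dvd_of_dvd ?_ (card_dvd_of_le ?_) (card_dvd_of_le ?_))
    · exact IsPGroup.coprime_card_of_ne 3 2 (by norm_num) I _ hIp W.isPGroup'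
    · exact fun k hk => mem_centralizer_singleton_iff.mpr (hIc t ht k hk).symm
    · exact fun w hw => mem_centralizer_singleton_iff.mpr (hWc w hw t htW)
  have hclass := card_class_mul t
  set k := Nat.card {z : X // IsConj t z}
  have hk3 : k = 3 := by
    obtain ⟨q, hq⟩ := hle
    have h3 : k * q = 3 := by
      refine Nat.eq_of_mul_eq_mul_left (show 0 < Nat.card I * 4 by
        have : 0 < Nat.card I := Nat.card_pos
        omega) ?_
      calc Nat.card I * 4 * (k * q) = k * (Nat.card I * 4 * q) := by ring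
        _ = Nat.card X := by rw [← hq, hclass]
        _ = 4 * (Nat.card I * 3) := by rw [hIcard, hcard]
        _ = _ := by ring
    rcases (Nat.dvd_prime Nat.prime_three).mp (Dvd.intro _ h3) with h | h
    · exfalso
      haveI : Subsingleton {z : X // IsConj t z} := (Nat.card_eq_one_iff_unique.mp h).1
      exact ht₂t (congrArg Subtype.val (Subsingleton.elim
        (⟨t₂, hconj _ _ ht (inv2 _ ht₂W ht₂1)⟩ : {z : X // IsConj t z}) ⟨t, IsConj.refl t⟩))
    · exact h
  rw [hk3] at hclass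
  refine ⟨by rw [mul_comm]; exact hclass, ?_, ?_⟩
  · rw [← hk3]
    exact Nat.card_congr (Equiv.subtypeEquivRight fun z =>
      ⟨fun h => hconj t z ht h, fun h => by
        obtain ⟨g, rfl⟩ := isConj_iff.mp h
        rw [← ht]
        exact orderOf_injective (MulAut.conj g).toMonoidHom (MulEquiv.injective _) t⟩)
  · -- the centraliser is the product of the kernel and the four group
    have hcc : Nat.card (centralizer ({t} : Set X)) = Nat.card I * 4 := by
      have : 3 * Nat.card (centralizer ({t} : Set X)) = 3 * (Nat.card I * 4) := by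
        rw [hclass, hcard, ← hIcard]; ring
      omega
    haveI : I.Normal := inferInstance
    have hsup : I ⊔ (W : Subgroup X) = centralizer ({t} : Set X) := by
      refine eq_of_le_of_card_ge (sup_le ?_ ?_) ?_
      · exact fun k hk => mem_centralizer_singleton_iff.mpr (hIc t ht k hk).symm
      · exact fun w hw => mem_centralizer_singleton_iff.mpr (hWc w hw t htW)
      · rw [hcc, ← cW]
        exact Nat.le_of_dvd Nat.card_pos ((IsPGroup.coprime_card_of_ne 3 2 (by norm_num) I _ hIp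
          W.isPGroup').mul_dvd_of_dvd_of_dvd (card_dvd_of_le le_sup_left) (card_dvd_of_le le_sup_right))
    intro g g' hg hg'
    have hcomm : ∀ k ∈ I, ∀ w ∈ (W : Subgroup X), w * k = k * w := fun k hk w hw => by
      rcases eq_or_ne w 1 with rfl | h
      · simp
      · exact hIc w (inv2 w hw h) k hk
    have hg1 : g ∈ ((I ⊔ (W : Subgroup X) : Subgroup X) : Set X) :=
      hsup.symm ▸ mem_centralizer_singleton_iff.mpr hg
    have hg2 : g' ∈ ((I ⊔ (W : Subgroup X) : Subgroup X) : Set X) :=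
      hsup.symm ▸ mem_centralizer_singleton_iff.mpr hg'
    rw [Subgroup.normal_mul] at hg1 hg2
    obtain ⟨k, hk, w, hw, rfl⟩ := hg1
    obtain ⟨k', hk', w', hw', rfl⟩ := hg2
    calc k * w * (k' * w') = k * (w * k') * w' := by group
      _ = (k * k') * (w * w') := by rw [hcomm k' hk' w hw]; group
      _ = (k' * k) * (w' * w) := by rw [hab R k (hIle R hk) k' (hIle R hk'), hWc w hw w' hw']
      _ = k' * (k * w') * w := by group
      _ = _ := by rw [← hcomm k hk w' hw']; group

end Cfsg.Agent.SSCThree
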