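import Cfsg.Agent.Lib.SSCThree.Cols
import Cfsg.Agent.Lib.SSCThree.Groups
import Cfsg.Agent.Lib.Char.PiPart

/-!
# Classes outside the three subgroups and their centralisers
-/

set_option autoImplicit false
set_option linter.unusedSectionVars false
set_option linter.style.haveILetI false

namespace Cfsg.Agent.SSCThree

open Subgroup Cfsg.Agent.Char
open scoped Classical

universe u

section general

variable {G : Type u} [Group G]

theorem mul_eq_mul_of_comm_inv {a b : G} (h : a * b = b * a) : Commute a b := h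

/-- Commuting elements of coprime orders are moved together. -/
theorem split_conj {m n : ℕ} (hmn : Nat.Coprime m n) {a a' b b' : G} (ha : a ^ m = 1) (ha' : a' ^ m = 1)
    (hb : b ^ n = 1) (hb' : b' ^ n = 1) (hc : a * b = b * a) (hc' : a' * b' = b' * a')
    (h : IsConj (a * b) (a' * b')) : ∃ g : G, g * a * g⁻¹ = a' ∧ g * b * g⁻¹ = b' := by
  obtain ⟨g, hg⟩ := isConj_iff.mp h
  have e1 : (g * (a * b) * g⁻¹) ^ hallExp hmn = g * a * g⁻¹ := by
    rw [conj_pow, pow_hallExp_eq hmn rfl hc ha hb]
  have e2 : (g * (a * b) * g⁻¹) ^ hallExp hmn.symm = g * b * g⁻¹ := by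
    rw [conj_pow, pow_hallExp_eq hmn.symm hc hc.symm hb ha]
  rw [hg, pow_hallExp_eq hmn rfl hc' ha' hb'] at e1
  rw [hg, pow_hallExp_eq hmn.symm hc' hc'.symm hb' ha'] at e2
  exact ⟨g, e1.symm, e2.symm⟩

/-- The centraliser of a product of commuting elements of coprime orders. -/
theorem centralizer_mul_eq {m n : ℕ} (hmn : Nat.Coprime m n) {a b : G} (ha : a ^ m = 1) (hb : b ^ n = 1)
    (hc : a * b = b * a) :
    centralizer ({a * b} : Set G) = centralizer ({a} : Set G) ⊓ centralizer ({b} : Set G) := by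
  ext x
  rw [mem_inf, mem_centralizer_singleton_iff, mem_centralizer_singleton_iff, mem_centralizer_singleton_iff]
  constructor
  · intro h
    have h1 := (show Commute x (a * b) from h).pow_right (hallExp hmn)
    have h2 := (show Commute x (a * b) from h).pow_right (hallExp hmn.symm)
    rw [pow_hallExp_eq hmn rfl hc ha hb] at h1
    rw [pow_hallExp_eq hmn.symm hc hc.symm hb ha] at h2
    exact ⟨h1.eq, h2.eq⟩
  · rintro ⟨h1, h2⟩
    exact ((show Commute x a from h1).mul_right h2).eq

variable [Finite G]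

/-- The centraliser inside a subgroup. -/
theorem card_centralizer_sub (H : Subgroup G) (x : H) :
    Nat.card (centralizer ({x} : Set H)) = Nat.card ↥(H ⊓ centralizer ({(x : G)} : Set G)) := by
  refine Nat.card_congr
    { toFun := fun z => ⟨((z : H) : G), mem_inf.mpr ⟨z.1.2, mem_centralizer_singleton_iff.mpr
        (congrArg Subtype.val (mem_centralizer_singleton_iff.mp z.2))⟩⟩
      invFun := fun z => ⟨⟨(z : G), (mem_inf.mp z.2).1⟩, mem_centralizer_singleton_iff.mpr
        (Subtype.ext (mem_centralizer_singleton_iff.mp (mem_inf.mp z.2).2))⟩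
      left_inv := fun z => rfl
      right_inv := fun z => rfl }

/-- A Sylow subgroup in the centraliser of each of its elements. -/
theorem pow_dvd_centralizer {r b : ℕ} [Fact r.Prime] (hb : r ^ b ∣ Nat.card G)
    (hab : ∀ P : Sylow r G, IsMulCommutative ↥(P : Subgroup G)) {x : G} {k : ℕ} (hx : x ^ r ^ k = 1) :
    r ^ b ∣ Nat.card (centralizer ({x} : Set G)) := by
  obtain ⟨P, hP⟩ := IsPGroup.exists_le_sylow (P := zpowers x) (show IsPGroup r (zpowers x) by
    rintro ⟨z, hz⟩
    obtain ⟨i, rfl⟩ := mem_zpowers_iff.mp hz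
    refine ⟨k, Subtype.ext ?_⟩
    show (x ^ i) ^ r ^ k = 1
    rw [← zpow_natCast, ← zpow_mul, mul_comm, zpow_mul, zpow_natCast, hx, one_zpow])
  haveI := hab P
  refine (P.pow_dvd_card_of_pow_dvd_card hb).trans (card_dvd_of_le fun z hz => ?_)
  exact mem_centralizer_singleton_iff.mpr (congrArg Subtype.val
    (IsMulCommutative.is_comm.comm (⟨z, hz⟩ : (P : Subgroup G)) ⟨x, hP (mem_zpowers x)⟩))

/-- A subgroup of prime-power order is commutative when the Sylow subgroups are. -/
theorem comm_of_sylow {r : ℕ} [Fact r.Prime] (hab : ∀ P : Sylow r G, IsMulCommutative ↥(P : Subgroup G))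
    {H : Subgroup G} (R : Sylow r H) (x : H) (hx : x ∈ R) (y : H) (hy : y ∈ R) : x * y = y * x := by
  obtain ⟨P, hP⟩ := IsPGroup.exists_le_sylow (P := (R : Subgroup H).map H.subtype) (R.isPGroup'.map _)
  haveI := hab P
  have h := IsMulCommutative.is_comm.comm
    (⟨(x : G), hP ⟨x, hx, rfl⟩⟩ : (P : Subgroup G)) ⟨(y : G), hP ⟨y, hy, rfl⟩⟩
  exact Subtype.ext (congrArg Subtype.val h :)

theorem exists_orderOf_two_pow {x : G} {k : ℕ} (h : x ^ 2 ^ k = 1) : ∃ j, orderOf x = 2 ^ j :=
  let ⟨j, _, hj⟩ := (Nat.dvd_prime_pow Nat.prime_two).mp (orderOf_dvd_of_pow_eq_one h)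
  ⟨j, hj⟩

/-- The square roots of an element of odd order. -/
theorem roots_odd {y : G} (hy : Odd (orderOf y)) :
    Nat.card {s : G // s * s = y} = Nat.card {u : G // u * y = y * u ∧ u * u = 1} := by
  obtain ⟨k, hk⟩ := hy
  have hy2 : y ^ (k + 1) * y ^ (k + 1) = y := by
    rw [← pow_add, show k + 1 + (k + 1) = orderOf y + 1 by omega, pow_succ, pow_orderOf_eq_one, one_mul]
  have comm : ∀ s, s * s = y → Commute s y := fun s hs => by
    rw [← hs]
    exact (Commute.refl s).mul_right (Commute.refl s)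
  refine Nat.card_congr
    { toFun := fun s => ⟨s.1 * (y ^ (k + 1))⁻¹, ?_, ?_⟩
      invFun := fun u => ⟨u.1 * y ^ (k + 1), ?_⟩
      left_inv := fun s => Subtype.ext (inv_mul_cancel_right _ _)
      right_inv := fun u => Subtype.ext (mul_inv_cancel_right _ _) }
  · exact ((comm _ s.2).mul_left ((Commute.refl y).pow_left _).inv_left).eq
  · have h := ((comm _ s.2).pow_right (k + 1)).inv_right
    calc s.1 * (y ^ (k + 1))⁻¹ * (s.1 * (y ^ (k + 1))⁻¹)
        = s.1 * ((y ^ (k + 1))⁻¹ * s.1) * (y ^ (k + 1))⁻¹ := by group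
      _ = s.1 * (s.1 * (y ^ (k + 1))⁻¹) * (y ^ (k + 1))⁻¹ := by rw [h.eq]
      _ = (s.1 * s.1) * (y ^ (k + 1) * y ^ (k + 1))⁻¹ := by group
      _ = 1 := by rw [s.2, hy2, mul_inv_cancel]
  · have h := (show Commute u.1 y from u.2.1).pow_right (k + 1)
    calc u.1 * y ^ (k + 1) * (u.1 * y ^ (k + 1)) = u.1 * (y ^ (k + 1) * u.1) * y ^ (k + 1) := by group
      _ = u.1 * (u.1 * y ^ (k + 1)) * y ^ (k + 1) := by rw [h.eq]
      _ = (u.1 * u.1) * (y ^ (k + 1) * y ^ (k + 1)) := by group
      _ = y := by rw [u.2.2, one_mul, hy2]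

end general

variable {G : Type u} [Group G] [Fintype G]

namespace Sys

variable (S : Sys G)

theorem col_of_invol {t : G} (ht : orderOf t = 2) : ∃ v : Cfsg.IrrCharacter G → ℤ,
    (∀ χ : Cfsg.IrrCharacter G, (χ : G → ℂ) t = v χ) ∧ S.Adm v := by
  refine S.exists_col (S.off_of_comm_invol ht rfl) fun k hk => ?_
  rw [ht] at hk
  rw [← pow_mod_orderOf, ht, Nat.odd_iff.mp (Nat.coprime_two_right.mp hk), pow_one]

/-- All involutions are conjugate. -/
theorem one_class [IsSimpleGroup G] {t : G} (ht : orderOf t = 2) : IsConj t S.hA.invol := by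
  by_contra hn
  obtain ⟨v, hv, -⟩ := S.col_of_invol ht
  have h := S.pair_formula ht hv
  rw [if_neg hn, mul_zero, zero_mul] at h
  have hX : S.Xd = S.X v := by
    rcases mul_eq_zero.mp h with h0 | h0
    · exact absurd h0 (by exact_mod_cast Nat.card_pos.ne')
    · have := pow_eq_zero_iff (n := 2) two_ne_zero |>.mp h0
      linarith
  have hval : (S.V.chi : G → ℂ) t = (S.V.chi : G → ℂ) 1 := by
    rw [hv, ← dg_cast]
    have : S.V.F1.ε * dg S.V.chi = S.V.F1.ε * v S.V.chi := hX
    rcases S.V.F1.eps with e | e <;> rw [e] at this <;> (congr 1; linarith)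
  obtain ⟨K, hK, hmem, -⟩ := IsCharacter.exists_kernel (IsIrrCharacter.isCharacter S.V.chi.2)
  rcases hK.eq_bot_or_eq_top with hbot | htop
  · have := (hmem t).2 hval
    rw [hbot, Subgroup.mem_bot] at this
    rw [this, orderOf_one] at ht
    omega
  · have hall : ∀ a : G, (S.V.chi : G → ℂ) a = (S.V.chi : G → ℂ) 1 := fun a =>
      (hmem a).1 (htop ▸ Subgroup.mem_top a)
    have h1 := classInner_self_irr S.V.chi.2
    simp only [Cfsg.classInner, hall, ← dg_cast, map_intCast, Finset.sum_const, Finset.card_univ,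
      nsmul_eq_mul, ← Nat.card_eq_fintype_card] at h1
    rw [inv_mul_cancel_left₀ (Nat.cast_ne_zero.2 Nat.card_pos.ne')] at h1
    have h2 : dg S.V.chi * dg S.V.chi = 1 := by exact_mod_cast h1
    have h3 : dg S.V.chi = 1 := by nlinarith [dg_pos S.V.chi]
    refine S.V.chi_ne_o (Subtype.ext (funext fun a => ?_))
    rw [hall a, ← dg_cast, h3, Int.cast_one]
    rfl

include S in
theorem conj_invol [IsSimpleGroup G] {t u : G} (ht : orderOf t = 2) (hu : orderOf u = 2) : IsConj t u :=
  (S.one_class ht).trans (S.one_class hu).symm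

include S in
/-- The centraliser of an involution has odd index. -/
theorem odd_index [IsSimpleGroup G] {t : G} (ht : orderOf t = 2) :
    Odd (centralizer ({t} : Set G)).index := by
  haveI : Fact (Nat.Prime 2) := ⟨Nat.prime_two⟩
  obtain ⟨P, hP⟩ := IsPGroup.exists_le_sylow (P := zpowers t)
    (IsPGroup.of_card (n := 1) (by rw [Nat.card_zpowers, ht, pow_one]))
  have ht1 : t ≠ 1 := fun h => by rw [h, orderOf_one] at ht; omega
  haveI : Nontrivial (P : Subgroup G) :=
    ⟨⟨⟨t, hP (mem_zpowers t)⟩, 1, fun h => ht1 (congrArg Subtype.val h)⟩⟩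
  haveI := IsPGroup.center_nontrivial P.isPGroup'
  have h2 : 2 ∣ Nat.card (center (P : Subgroup G)) := by
    obtain ⟨k, hk⟩ := IsPGroup.iff_card.mp (P.isPGroup'.to_subgroup (center (P : Subgroup G)))
    rcases Nat.eq_zero_or_pos k with rfl | h0
    · have h1 : 1 < Nat.card (center (P : Subgroup G)) := Finite.one_lt_card
      rw [hk, pow_zero] at h1
      omega
    · exact hk ▸ dvd_pow_self 2 (by omega)
  obtain ⟨⟨⟨u, huP⟩, hu⟩, huo⟩ := exists_prime_orderOf_dvd_card' (G := center (P : Subgroup G)) 2 h2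
  rw [Subgroup.orderOf_mk, Subgroup.orderOf_mk] at huo
  have hPC : (P : Subgroup G) ≤ centralizer ({u} : Set G) := fun z hz =>
    mem_centralizer_singleton_iff.mpr (congrArg Subtype.val ((mem_center_iff.mp hu) ⟨z, hz⟩))
  have hodd : ¬ 2 ∣ (centralizer ({u} : Set G)).index := fun h =>
    P.not_dvd_index (h.trans (index_dvd_of_le hPC))
  have hc := card_centralizer_of_isConj (S.conj_invol ht huo)
  have e1 := (centralizer ({t} : Set G)).card_mul_index
  have e2 := (centralizer ({u} : Set G)).card_mul_index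
  rw [hc, ← e2] at e1
  rw [Nat.eq_of_mul_eq_mul_left Nat.card_pos e1, Nat.odd_iff]
  omega

theorem off_of_dvd_h {x : G} (hx : orderOf x ∣ S.h) : S.Off x := by
  have key : ∀ (A : Subgroup G) (e : ℕ), SSC A e → (Nat.card A).Coprime S.h → ¬ SSC.InConj A x := by
    rintro A e hA hcop ⟨g, a, ha, ha1, rfl⟩
    refine ha1 (orderOf_eq_one_iff.mp (Nat.eq_one_of_dvd_coprimes hcop (Subgroup.orderOf_dvd_natCard _ ha) ?_))
    have e : orderOf (g * a * g⁻¹) = orderOf a :=
      orderOf_injective (MulAut.conj g).toMonoidHom (MulEquiv.injective _) a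
    rwa [e] at hx
  exact ⟨key _ _ S.hA S.cop_n₁_h, key _ _ S.hB S.cop_n₂_h, key _ _ S.hC S.cop_n₃_h⟩

theorem orderOf_dvd_h {x : G} (hx : S.Off x) : orderOf x ∣ S.h := by
  rcases eq_or_ne x 1 with rfl | h1
  · simp
  · exact (Subgroup.orderOf_dvd_natCard _
      (mem_centralizer_singleton_iff.mpr rfl)).trans (S.centralizer_dvd_h hx h1)

/-- Pairwise non-conjugate outside elements are at most as many as the outside classes. -/
theorem card_le_extra {k : ℕ} (x : Fin k → G) (hx : ∀ i, x i ≠ 1 ∧ S.Off (x i))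
    (hne : ∀ i j, i < j → ¬ IsConj (x i) (x j)) : k ≤ S.extra.card := by
  have hinj : Function.Injective fun i => ConjClasses.mk (x i) := by
    intro i j h
    have h' := ConjClasses.mk_eq_mk_iff_isConj.mp h
    rcases lt_trichotomy i j with hl | he | hg
    · exact absurd h' (hne i j hl)
    · exact he
    · exact absurd h'.symm (hne j i hg)
  have h := Finset.card_le_card_of_injOn (s := (Finset.univ : Finset (Fin k))) (t := S.extra)
    (fun i => ConjClasses.mk (x i)) (fun i _ => S.mem_extra.mpr (hx i)) hinj.injOn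
  simpa using h

/-- A full list of outside classes. -/
theorem conj_of_full {k : ℕ} (x : Fin k → G) (hx : ∀ i, x i ≠ 1 ∧ S.Off (x i))
    (hne : ∀ i j, i < j → ¬ IsConj (x i) (x j)) (hk : S.extra.card ≤ k) {z : G} (hz : z ≠ 1)
    (hzo : S.Off z) : ∃ i, IsConj (x i) z := by
  by_contra! hc
  have h := S.card_le_extra (Fin.snoc x z) ?_ ?_
  · omega
  · refine Fin.lastCases ?_ ?_
    · simp [hz, hzo]
    · intro i; simpa using hx i
  · intro i
    refine Fin.lastCases ?_ ?_ i
    · intro j hj
      exact absurd (Fin.le_last j) (not_le.mpr hj)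
    · intro i j
      refine Fin.lastCases ?_ ?_ j
      · intro _; simpa using hc i
      · intro j hij; simpa using hne i j (Fin.castSucc_lt_castSucc_iff.mp hij)

theorem extra_sum {k : ℕ} (x : Fin k → G) (hx : ∀ i, x i ≠ 1 ∧ S.Off (x i))
    (hne : ∀ i j, i < j → ¬ IsConj (x i) (x j)) (hk : S.extra.card ≤ k) :
    ∑ i, (1 : ℚ) / Nat.card (centralizer ({x i} : Set G)) + 1 / Nat.card G = S.mass := by
  have hinj : Function.Injective fun i => ConjClasses.mk (x i) := by
    intro i j h
    have h' := ConjClasses.mk_eq_mk_iff_isConj.mp h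
    rcases lt_trichotomy i j with hl | he | hg
    · exact absurd h' (hne i j hl)
    · exact he
    · exact absurd h'.symm (hne j i hg)
  have heq : Finset.univ.image (fun i => ConjClasses.mk (x i)) = S.extra := by
    refine Finset.eq_of_subset_of_card_le (fun c hc => ?_) ?_
    · obtain ⟨i, -, rfl⟩ := Finset.mem_image.mp hc
      exact S.mem_extra.mpr (hx i)
    · rw [Finset.card_image_of_injective _ hinj, Finset.card_univ, Fintype.card_fin]
      exact hk
  rw [← S.class_equation, ← heq, Finset.sum_image hinj.injOn, add_comm]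
  simp only [cen_mk]

/-- A list contains no more reciprocal mass than the outside classes. -/
theorem sum_le_mass {k : ℕ} (x : Fin k → G) (hx : ∀ i, x i ≠ 1 ∧ S.Off (x i))
    (hne : ∀ i j, i < j → ¬ IsConj (x i) (x j)) :
    ∑ i, (1 : ℚ) / Nat.card (centralizer ({x i} : Set G)) < S.mass := by
  have hinj : Function.Injective fun i => ConjClasses.mk (x i) := by
    intro i j h
    have h' := ConjClasses.mk_eq_mk_iff_isConj.mp h
    rcases lt_trichotomy i j with hl | he | hg
    · exact absurd h' (hne i j hl)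
    · exact he
    · exact absurd h'.symm (hne j i hg)
  have hle : ∑ i, (1 : ℚ) / Nat.card (centralizer ({x i} : Set G)) ≤
      ∑ c ∈ S.extra, (1 : ℚ) / cen c := by
    refine le_trans (le_of_eq ?_) (Finset.sum_le_sum_of_subset_of_nonneg
      (s := Finset.univ.image fun i => ConjClasses.mk (x i)) (fun c hc => ?_) fun c _ _ => by positivity)
    · rw [Finset.sum_image hinj.injOn]
      simp only [cen_mk]
    · obtain ⟨i, -, rfl⟩ := Finset.mem_image.mp hc
      exact S.mem_extra.mpr (hx i)
  have hpos : (0 : ℚ) < 1 / Nat.card G := by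
    have : (0 : ℚ) < Nat.card G := by exact_mod_cast Nat.card_pos
    positivity
  have := S.class_equation
  linarith

end Sys

end Cfsg.Agent.SSCThree
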