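import Cfsg.Agent.Lib.SSCThree.Sys
import Cfsg.Agent.Lib.Blocks.Congr
import Cfsg.Agent.Lib.Blocks.SubsectionRow
import Cfsg.Agent.Lib.Char.GlaubermanMod

/-!
# Congruences between integral character values
-/

set_option autoImplicit false
set_option linter.unusedSectionVars false
set_option linter.style.haveILetI false

namespace Cfsg.Agent.SSCThree

open scoped Classical

universe u

variable {G : Type u} [Group G] [Fintype G]

/-- Integral values at `x * y` and at `y` are congruent modulo the prime order of `x`. -/
theorem int_congr {p : ℕ} [Fact p.Prime] (χ : Cfsg.IrrCharacter G) {x y : G} (hc : Commute x y)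
    (hx : orderOf x = p) (hy : ¬ p ∣ orderOf y) {v w : ℤ} (hv : (χ : G → ℂ) (x * y) = v)
    (hw : (χ : G → ℂ) y = w) : (p : ℤ) ∣ v - w := by
  obtain ⟨M, hM⟩ := GlaubermanMod.exists_isPModular p
  haveI := hM.2.1.isPrime
  have h := Blocks.char_congr_regular hM (Char.IsIrrCharacter.isCharacter χ.2) hc (k := 1)
    (by rw [hx, pow_one]) hy
  rw [hv, hw, ← Int.cast_sub] at h
  exact (Blocks.intCast_memLocalIdeal_iff hM _).mp h

end Cfsg.Agent.SSCThree
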