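import Mathlib.Tactic

/-!
# Small integral columns
-/

set_option autoImplicit false

namespace Cfsg.Agent.SSCThree

theorem le_sq_self' (a : ℤ) : a ≤ a ^ 2 := by nlinarith [sq_nonneg (2 * a - 1)]

theorem sq_abs_le {a : ℤ} {c : ℤ} {m : ℕ} (h : a ^ 2 ≤ c) (hm : c < ((m : ℤ) + 1) ^ 2) :
    -(m : ℤ) ≤ a ∧ a ≤ m := by
  constructor <;> by_contra hc <;> push Not at hc <;> nlinarith [m.cast_nonneg (α := ℤ)]

/-- Twelve is not the norm of a root-free column in the generic shape. -/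
theorem searchA12 {X P Q T₂ T₃ K₂ K₃ s e ω μ : ℤ} (h2 : T₂ = 1 - X + P + Q) (h3 : T₃ = 1 - X - P - Q)
    (hK2 : 3 ≤ K₂) (hK3 : 3 ≤ K₃) (hne : K₂ ≠ K₃) (hω : ω = 1 ∨ ω = -1) (hμ : μ = 0 ∨ μ = 1 ∨ μ = -1)
    (hs : 0 ≤ s) (he : -s ≤ e ∧ e ≤ s)
    (hn : 1 + 2 * (1 + X) ^ 2 + K₂ * T₂ ^ 2 + K₃ * T₃ ^ 2 + X ^ 2 + P ^ 2 + Q ^ 2 + s = 12)
    (hr : 1 + ω * (X + 2 * (1 + X) - K₂ * T₂ - K₃ * T₃) + μ * (P - Q) + e = 0) : False := by
  have a2 : 3 * T₂ ^ 2 ≤ K₂ * T₂ ^ 2 := mul_le_mul_of_nonneg_right hK2 (sq_nonneg _)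
  have a3 : 3 * T₃ ^ 2 ≤ K₃ * T₃ ^ 2 := mul_le_mul_of_nonneg_right hK3 (sq_nonneg _)
  have hsum : T₂ + T₃ = 2 - 2 * X := by linarith
  have hE : -(P ^ 2 + Q ^ 2 + s) ≤ μ * (P - Q) + e ∧ μ * (P - Q) + e ≤ P ^ 2 + Q ^ 2 + s := by
    have := le_sq_self' P
    have := le_sq_self' (-P)
    have := le_sq_self' Q
    have := le_sq_self' (-Q)
    rcases hμ with rfl | rfl | rfl <;> constructor <;> linarith
  have hX : 0 ≤ X ∧ X ≤ 1 := by
    constructor <;> by_contra hc <;> push Not at hc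
    · nlinarith [sq_nonneg (T₂ - T₃)]
    · nlinarith
  obtain ⟨hX0, hX1⟩ := hX
  interval_cases X
  · -- two values with sum two
    have hT : T₂ = 1 := by
      by_contra h
      rcases lt_or_gt_of_ne h with h' | h'
      · nlinarith
      · nlinarith
    have hT3 : T₃ = 1 := by linarith
    subst hT hT3
    have : 7 ≤ K₂ + K₃ := by omega
    rcases hω with rfl | rfl <;> norm_num at hr hn <;> linarith
  · have hT : T₂ = 0 := by
      by_contra h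
      rcases lt_or_gt_of_ne h with h' | h' <;> nlinarith
    have hT3 : T₃ = 0 := by linarith
    subst hT hT3
    rcases hω with rfl | rfl <;> norm_num at hr hn <;> linarith

/-- Ten as a root-free norm in the generic shape. -/
theorem searchA10 {X P Q T₂ T₃ K₁ K₂ K₃ o e ω μ : ℤ} (h2 : T₂ = 1 - X + P + Q) (h3 : T₃ = 1 - X - P - Q)
    (hK1 : 3 ≤ K₁) (hK2 : 2 ≤ K₂) (hK3 : 2 ≤ K₃) (hne : K₂ ≠ K₃) (hcop : K₁ = 4 → K₂ ≠ 2 ∧ K₃ ≠ 2)
    (hω : ω = 1 ∨ ω = -1) (hμ : μ = 0 ∨ μ = 1 ∨ μ = -1) (he : -o ^ 2 ≤ e ∧ e ≤ o ^ 2)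
    (hn : 1 + K₁ * (1 + X) ^ 2 + K₂ * T₂ ^ 2 + K₃ * T₃ ^ 2 + X ^ 2 + P ^ 2 + Q ^ 2 + o ^ 2 = 10)
    (hr : 1 + ω * (X + K₁ * (1 + X) - K₂ * T₂ - K₃ * T₃) + μ * (P - Q) + e = 0) :
    K₁ = 3 ∧ ((K₂ = 2 ∧ K₃ = 3) ∨ (K₂ = 3 ∧ K₃ = 2)) := by
  have a1 : 3 * (1 + X) ^ 2 ≤ K₁ * (1 + X) ^ 2 := mul_le_mul_of_nonneg_right hK1 (sq_nonneg _)
  have a2 : 2 * T₂ ^ 2 ≤ K₂ * T₂ ^ 2 := mul_le_mul_of_nonneg_right hK2 (sq_nonneg _)
  have a3 : 2 * T₃ ^ 2 ≤ K₃ * T₃ ^ 2 := mul_le_mul_of_nonneg_right hK3 (sq_nonneg _)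
  have hsum : T₂ + T₃ = 2 - 2 * X := by linarith
  have hX : X = 0 := by
    by_contra hc
    rcases lt_or_gt_of_ne hc with h | h
    · nlinarith [sq_nonneg (T₂ - T₃), sq_nonneg o]
    · nlinarith [sq_nonneg o]
  subst hX
  have hT : T₂ = 1 := by
    by_contra h
    rcases lt_or_gt_of_ne h with h' | h' <;> nlinarith [sq_nonneg o]
  have hT3 : T₃ = 1 := by linarith
  subst hT hT3
  norm_num at hn hr a1
  have hPQ : Q = -P := by linarith
  subst hPQ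
  have := sq_nonneg P
  have := sq_nonneg o
  have hK : K₁ + K₂ + K₃ ≤ 9 := by linarith [sq_nonneg (-P)]
  have hcases : K₁ = 3 ∧ ((K₂ = 2 ∧ K₃ = 3) ∨ (K₂ = 3 ∧ K₃ = 2) ∨ (K₂ = 2 ∧ K₃ = 4) ∨ (K₂ = 4 ∧ K₃ = 2)) := by
    omega
  obtain ⟨rfl, h | h | h | h⟩ := hcases <;> obtain ⟨rfl, rfl⟩ := h
  · exact ⟨rfl, Or.inl ⟨rfl, rfl⟩⟩
  · exact ⟨rfl, Or.inr ⟨rfl, rfl⟩⟩
  all_goals
    exfalso
    have hP : P = 0 := by nlinarith
    have ho : o = 0 := by nlinarith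
    subst hP ho
    norm_num at he hr
    rcases hω with rfl | rfl <;> omega

/-! ### The third shape: columns of norms twelve and thirty-six -/

/-- The integers from `-m` to `m`. -/
def sym (m : ℕ) : List ℤ := (List.range (2 * m + 1)).map fun i : ℕ => (i : ℤ) - m

theorem mem_sym {m : ℕ} {a : ℤ} (h : -(m : ℤ) ≤ a ∧ a ≤ m) : a ∈ sym m := by
  simp only [sym, List.mem_map, List.mem_range]
  exact ⟨(a + m).toNat, by omega, by omega⟩

/-- Admissible cofactors. -/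
def cofs : List ℤ := (List.range 34).map fun i : ℕ => (i : ℤ) + 3

theorem mem_cofs {a : ℤ} (h : 3 ≤ a ∧ a ≤ 36) : a ∈ cofs := by
  simp only [cofs, List.mem_map, List.mem_range]
  exact ⟨(a - 3).toNat, by omega, by omega⟩

/-- The indicator test. -/
def chkSigns (X P Q T₂ T₃ o p Y P' Q' U₂ U₃ u v K₂ K₃ : ℤ) : Bool :=
  [1, -1].all fun w => [1, -1].all fun mu => [(0 : ℤ), 1, -1].all fun a => [(0 : ℤ), 1, -1].all fun b =>
    !((1 + w * (X + 2 * (1 + X) + P + K₃ * T₃) + mu * (Q + K₂ * T₂) + a * o + b * p == 0) &&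
      (1 + w * (Y + 2 * (1 + Y) + P' + K₃ * U₃) + mu * (Q' + K₂ * U₂) + a * u + b * v == 4))

/-- The values on the two further characters. -/
def chkOthers (two : Bool) (X P Q T₂ T₃ Y P' Q' U₂ U₃ K₂ K₃ : ℤ) : Bool :=
  (sym 3).all fun o => (sym 3).all fun p =>
    !(decide (1 + 2 * (1 + X) * (1 + X) + X * X + P * P + Q * Q + K₂ * (T₂ * T₂) + K₃ * (T₃ * T₃) + o * o +
        p * p = 12) && (two || (p == 0))) ||
    (sym 6).all fun u => !((o - u) % 2 == 0 && !(u % 3 == 0)) || (sym 6).all fun v =>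
      !((p - v) % 2 == 0 && (if two then !(v % 3 == 0) else v == 0) &&
        decide (1 + 2 * (1 + Y) * (1 + Y) + Y * Y + P' * P' + Q' * Q' + K₂ * (U₂ * U₂) + K₃ * (U₃ * U₃) +
          u * u + v * v = 36) &&
        decide (1 + 2 * (1 + X) * (1 + Y) + X * Y + P * P' + Q * Q' + K₂ * (T₂ * U₂) + K₃ * (T₃ * U₃) +
          o * u + p * v = 0)) ||
      chkSigns X P Q T₂ T₃ o p Y P' Q' U₂ U₃ u v K₂ K₃

/-- The cofactors. -/
def chkCofs (two : Bool) (X P Q T₂ T₃ Y P' Q' U₂ U₃ : ℤ) : Bool :=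
  cofs.all fun K₂ =>
    !(decide (1 + 2 * (1 + X) * (1 + X) + X * X + P * P + Q * Q + K₂ * (T₂ * T₂) + 3 * (T₃ * T₃) ≤ 12) &&
      decide (1 + 2 * (1 + Y) * (1 + Y) + Y * Y + P' * P' + Q' * Q' + K₂ * (U₂ * U₂) + 3 * (U₃ * U₃) ≤ 36) &&
      (!(T₂ == 0 && U₂ == 0) || K₂ == 3)) ||
    cofs.all fun K₃ =>
      !(decide (1 + 2 * (1 + X) * (1 + X) + X * X + P * P + Q * Q + K₂ * (T₂ * T₂) + K₃ * (T₃ * T₃) ≤ 12) &&
        decide (1 + 2 * (1 + Y) * (1 + Y) + Y * Y + P' * P' + Q' * Q' + K₂ * (U₂ * U₂) + K₃ * (U₃ * U₃) ≤ 36) &&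
        (!(T₃ == 0 && U₃ == 0) || K₃ == 3)) ||
      chkOthers two X P Q T₂ T₃ Y P' Q' U₂ U₃ K₂ K₃

/-- The whole test. -/
def chk (two : Bool) : Bool :=
  (sym 3).all fun X => (sym 3).all fun P => (sym 3).all fun Q =>
    !decide (1 + 2 * (1 + X) * (1 + X) + X * X + P * P + Q * Q + 3 * ((1 - X + P + Q) * (1 - X + P + Q)) +
      3 * ((3 + 2 * X - P) * (3 + 2 * X - P)) ≤ 12) ||
    (sym 6).all fun Y => !((X - Y) % 2 == 0) || (sym 6).all fun P' => !((P - P') % 2 == 0) ||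
      (sym 6).all fun Q' => !((Q - Q') % 2 == 0) ||
        chkCofs two X P Q (1 - X + P + Q) (3 + 2 * X - P) Y P' Q' (1 - Y + P' + Q') (3 + 2 * Y - P')

theorem chk_true : chk true = true := by decide +kernel

theorem chk_false : chk false = true := by decide +kernel

theorem searchB {two : Bool} {X P Q Y P' Q' K₂ K₃ o p u v w mu a b : ℤ} (hK2 : 3 ≤ K₂) (hK3 : 3 ≤ K₃)
    (hw : w = 1 ∨ w = -1) (hmu : mu = 1 ∨ mu = -1) (ha : a = 0 ∨ a = 1 ∨ a = -1)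
    (hb : b = 0 ∨ b = 1 ∨ b = -1)
    (hone : two = false → p = 0 ∧ v = 0)
    (pX : (X - Y) % 2 = 0) (pP : (P - P') % 2 = 0) (pQ : (Q - Q') % 2 = 0) (po : (o - u) % 2 = 0)
    (pp : (p - v) % 2 = 0) (mu3 : u % 3 ≠ 0) (mv3 : two = true → v % 3 ≠ 0)
    (hx : 1 + 2 * ((1 + X) * (1 + X)) + X * X + P * P + Q * Q + K₂ * ((1 - X + P + Q) * (1 - X + P + Q)) +
      K₃ * ((3 + 2 * X - P) * (3 + 2 * X - P)) + o * o + p * p = 12)
    (hy : 1 + 2 * ((1 + Y) * (1 + Y)) + Y * Y + P' * P' + Q' * Q' +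
      K₂ * ((1 - Y + P' + Q') * (1 - Y + P' + Q')) + K₃ * ((3 + 2 * Y - P') * (3 + 2 * Y - P')) +
      u * u + v * v = 36)
    (ho : 1 + 2 * ((1 + X) * (1 + Y)) + X * Y + P * P' + Q * Q' +
      K₂ * ((1 - X + P + Q) * (1 - Y + P' + Q')) + K₃ * ((3 + 2 * X - P) * (3 + 2 * Y - P')) +
      o * u + p * v = 0)
    (rx : 1 + w * (X + 2 * (1 + X) + P + K₃ * (3 + 2 * X - P)) + mu * (Q + K₂ * (1 - X + P + Q)) +
      a * o + b * p = 0)
    (ry : 1 + w * (Y + 2 * (1 + Y) + P' + K₃ * (3 + 2 * Y - P')) + mu * (Q' + K₂ * (1 - Y + P' + Q')) +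
      a * u + b * v = 4) : False := by
  generalize hT2 : 1 - X + P + Q = T₂ at hx ho rx
  generalize hT3 : 3 + 2 * X - P = T₃ at hx ho rx
  generalize hU2 : 1 - Y + P' + Q' = U₂ at hy ho ry
  generalize hU3 : 3 + 2 * Y - P' = U₃ at hy ho ry
  -- normalise the cofactors
  obtain ⟨L₂, hL2, hL2n, e1, e2, e3, e4, e5⟩ : ∃ L : ℤ, (3 ≤ L ∧ L ≤ 36) ∧
      (T₂ = 0 ∧ U₂ = 0 → L = 3) ∧ K₂ * (T₂ * T₂) = L * (T₂ * T₂) ∧ K₂ * (U₂ * U₂) = L * (U₂ * U₂) ∧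
      K₂ * (T₂ * U₂) = L * (T₂ * U₂) ∧ K₂ * T₂ = L * T₂ ∧ K₂ * U₂ = L * U₂ := by
    by_cases h : T₂ = 0 ∧ U₂ = 0
    · exact ⟨3, by norm_num, fun _ => rfl, by simp [h.1], by simp [h.2], by simp [h.1], by simp [h.1],
        by simp [h.2]⟩
    · refine ⟨K₂, ⟨hK2, ?_⟩, fun h' => absurd h' h, rfl, rfl, rfl, rfl, rfl⟩
      have p3 : 0 ≤ K₃ * (T₃ * T₃) := mul_nonneg (by linarith) (mul_self_nonneg _)
      have p4 : 0 ≤ K₃ * (U₃ * U₃) := mul_nonneg (by linarith) (mul_self_nonneg _)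
      have p5 : 0 ≤ K₂ * (T₂ * T₂) := mul_nonneg (by linarith) (mul_self_nonneg _)
      rcases not_and_or.mp h with h' | h'
      · have := mul_le_mul_of_nonneg_left (show (1 : ℤ) ≤ T₂ * T₂ from mul_self_pos.mpr h')
          (show 0 ≤ K₂ by linarith)
        linarith [mul_self_nonneg (1 + X), mul_self_nonneg X, mul_self_nonneg P, mul_self_nonneg Q,
          mul_self_nonneg o, mul_self_nonneg p]
      · have := mul_le_mul_of_nonneg_left (show (1 : ℤ) ≤ U₂ * U₂ from mul_self_pos.mpr h')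
          (show 0 ≤ K₂ by linarith)
        linarith [mul_self_nonneg (1 + Y), mul_self_nonneg Y, mul_self_nonneg P', mul_self_nonneg Q',
          mul_self_nonneg u, mul_self_nonneg v]
  obtain ⟨L₃, hL3, hL3n, f1, f2, f3, f4, f5⟩ : ∃ L : ℤ, (3 ≤ L ∧ L ≤ 36) ∧
      (T₃ = 0 ∧ U₃ = 0 → L = 3) ∧ K₃ * (T₃ * T₃) = L * (T₃ * T₃) ∧ K₃ * (U₃ * U₃) = L * (U₃ * U₃) ∧
      K₃ * (T₃ * U₃) = L * (T₃ * U₃) ∧ K₃ * T₃ = L * T₃ ∧ K₃ * U₃ = L * U₃ := by
    by_cases h : T₃ = 0 ∧ U₃ = 0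
    · exact ⟨3, by norm_num, fun _ => rfl, by simp [h.1], by simp [h.2], by simp [h.1], by simp [h.1],
        by simp [h.2]⟩
    · refine ⟨K₃, ⟨hK3, ?_⟩, fun h' => absurd h' h, rfl, rfl, rfl, rfl, rfl⟩
      have p3 : 0 ≤ K₂ * (T₂ * T₂) := mul_nonneg (by linarith) (mul_self_nonneg _)
      have p4 : 0 ≤ K₂ * (U₂ * U₂) := mul_nonneg (by linarith) (mul_self_nonneg _)
      rcases not_and_or.mp h with h' | h'
      · have := mul_le_mul_of_nonneg_left (show (1 : ℤ) ≤ T₃ * T₃ from mul_self_pos.mpr h')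
          (show 0 ≤ K₃ by linarith)
        linarith [mul_self_nonneg (1 + X), mul_self_nonneg X, mul_self_nonneg P, mul_self_nonneg Q,
          mul_self_nonneg o, mul_self_nonneg p]
      · have := mul_le_mul_of_nonneg_left (show (1 : ℤ) ≤ U₃ * U₃ from mul_self_pos.mpr h')
          (show 0 ≤ K₃ by linarith)
        linarith [mul_self_nonneg (1 + Y), mul_self_nonneg Y, mul_self_nonneg P', mul_self_nonneg Q',
          mul_self_nonneg u, mul_self_nonneg v]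
  rw [e1, f1] at hx
  rw [e2, f2] at hy
  rw [e3, f3] at ho
  rw [e4, f4] at rx
  rw [e5, f5] at ry
  have q1 := mul_self_nonneg (1 + X)
  have q2 := mul_self_nonneg X
  have q3 := mul_self_nonneg P
  have q4 := mul_self_nonneg Q
  have q5 := mul_self_nonneg o
  have q6 := mul_self_nonneg p
  have r1 := mul_self_nonneg (1 + Y)
  have r2 := mul_self_nonneg Y
  have r3 := mul_self_nonneg P'
  have r4 := mul_self_nonneg Q'
  have r5 := mul_self_nonneg u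
  have r6 := mul_self_nonneg v
  have g2 : 3 * (T₂ * T₂) ≤ L₂ * (T₂ * T₂) := mul_le_mul_of_nonneg_right hL2.1 (mul_self_nonneg _)
  have g3 : 3 * (T₃ * T₃) ≤ L₃ * (T₃ * T₃) := mul_le_mul_of_nonneg_right hL3.1 (mul_self_nonneg _)
  have g2' : 3 * (U₂ * U₂) ≤ L₂ * (U₂ * U₂) := mul_le_mul_of_nonneg_right hL2.1 (mul_self_nonneg _)
  have g3' : 3 * (U₃ * U₃) ≤ L₃ * (U₃ * U₃) := mul_le_mul_of_nonneg_right hL3.1 (mul_self_nonneg _)
  have t2 := mul_self_nonneg T₂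
  have t3 := mul_self_nonneg T₃
  have t4 := mul_self_nonneg U₂
  have t5 := mul_self_nonneg U₃
  have bd : ∀ z : ℤ, z * z ≤ 12 → -((3 : ℕ) : ℤ) ≤ z ∧ z ≤ (3 : ℕ) := fun z hz =>
    sq_abs_le (c := 12) (by rw [pow_two]; exact hz) (by norm_num)
  have bd' : ∀ z : ℤ, z * z ≤ 36 → -((6 : ℕ) : ℤ) ≤ z ∧ z ≤ (6 : ℕ) := fun z hz =>
    sq_abs_le (c := 36) (by rw [pow_two]; exact hz) (by norm_num)
  have hall : chk two = true := by
    cases two
    exacts [chk_false, chk_true]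
  simp only [chk, chkCofs, chkOthers, chkSigns, List.all_eq_true, Bool.or_eq_true, Bool.not_eq_true',
    Bool.and_eq_true, decide_eq_true_eq, decide_eq_false_iff_not, beq_iff_eq] at hall
  have h1 := (hall X (mem_sym (bd X (by linarith))) P (mem_sym (bd P (by linarith))) Q
    (mem_sym (bd Q (by linarith)))).resolve_left (by rw [hT2, hT3]; intro hc; exact hc (by linarith))
  have h2 := (h1 Y (mem_sym (bd' Y (by linarith)))).resolve_left (by simp [pX])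
  have h3 := (h2 P' (mem_sym (bd' P' (by linarith)))).resolve_left (by simp [pP])
  have h4 := (h3 Q' (mem_sym (bd' Q' (by linarith)))).resolve_left (by simp [pQ])
  rw [hT2, hT3, hU2, hU3] at h4
  have h5 := (h4 L₂ (mem_cofs hL2)).resolve_left (by
    simp only [Bool.and_eq_false_iff, decide_eq_false_iff_not, Bool.or_eq_false_iff, not_or, not_and,
      not_not, Bool.not_eq_false', beq_eq_false_iff_ne, beq_iff_eq, Bool.and_eq_true, ne_eq]
    exact ⟨⟨by linarith, by linarith⟩, fun hz => hL2n hz⟩)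
  have h6 := (h5 L₃ (mem_cofs hL3)).resolve_left (by
    simp only [Bool.and_eq_false_iff, decide_eq_false_iff_not, Bool.or_eq_false_iff, not_or, not_and,
      not_not, Bool.not_eq_false', beq_eq_false_iff_ne, beq_iff_eq, Bool.and_eq_true, ne_eq]
    exact ⟨⟨by linarith, by linarith⟩, fun hz => hL3n hz⟩)
  have h7 := (h6 o (mem_sym (bd o (by linarith))) p (mem_sym (bd p (by linarith)))).resolve_left (by
    cases two
    · obtain ⟨rfl, -⟩ := hone rfl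
      simp; linarith
    · simp; linarith)
  have h8 := (h7 u (mem_sym (bd' u (by linarith)))).resolve_left (by simp [po, mu3])
  have h9 := (h8 v (mem_sym (bd' v (by linarith)))).resolve_left (by
    cases two
    · obtain ⟨rfl, rfl⟩ := hone rfl
      simp; exact ⟨by linarith, by linarith⟩
    · simp [pp, mv3 rfl]; exact ⟨by linarith, by linarith⟩)
  have hwm : w ∈ [(1 : ℤ), -1] := by rcases hw with rfl | rfl <;> simp
  have hmm : mu ∈ [(1 : ℤ), -1] := by rcases hmu with rfl | rfl <;> simp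
  have ham : a ∈ [(0 : ℤ), 1, -1] := by rcases ha with rfl | rfl | rfl <;> simp
  have hbm : b ∈ [(0 : ℤ), 1, -1] := by rcases hb with rfl | rfl | rfl <;> simp
  have := h9 w hwm mu hmm a ham b hbm
  rw [rx, ry] at this
  simp at this

end Cfsg.Agent.SSCThree
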