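import Cfsg.Agent.Lib.SSCThree.Shapes
import Cfsg.Agent.Lib.SSCThree.Arith
import Cfsg.Agent.Lib.SSCThree.Search
import Cfsg.Agent.Lib.SSCThree.Eigen
import Cfsg.Agent.Lib.SSCThree.Classes

/-!
# Consequences of the integral columns
-/

set_option autoImplicit false
set_option linter.unusedSectionVars false
set_option linter.style.haveILetI false

namespace Cfsg.Agent.SSCThree

open Finset Cfsg.Agent.Char
open scoped Classical

universe u

variable {G : Type u} [Group G] [Fintype G]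

noncomputable local instance (priority := 10000) decEqIrrData : DecidableEq (Cfsg.IrrCharacter G) :=
  fun a b => Classical.propDecidable (a = b)

theorem ten_arith {n₁ n₂ n₃ h : ℕ} (h1 : n₁ = 7) (hn : (n₂ = 9 ∧ n₃ = 13) ∨ (n₂ = 13 ∧ n₃ = 9))
    (h2 : 2 ∣ h) (h5 : 5 ∣ h) (g1 : h * (n₂ * n₃) % n₁ = 2 % n₁) (g2 : h * (n₁ * n₃) % n₂ = 4 % n₂)
    (g3 : h * (n₁ * n₂) % n₃ = 4 % n₃) (hle : h ≤ 3 * (n₁ * n₂ * n₃)) : False := by
  obtain ⟨q, hq⟩ : 10 ∣ h := Nat.Coprime.mul_dvd_of_dvd_of_dvd (by norm_num) h2 h5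
  rcases hn with ⟨rfl, rfl⟩ | ⟨rfl, rfl⟩ <;> subst h1 hq
  all_goals
    have hb : q < 246 := by
      clear g1 g2 g3
      omega
    revert g1 g2 g3
    clear hle h2 h5
    revert q
    decide +kernel

namespace Sys

variable (S : Sys G)

theorem others_deg {χ : Cfsg.IrrCharacter G} (h : χ ∈ S.others) : dg χ = S.N := by
  obtain ⟨j, hj⟩ := S.others_dvd h
  have hN : (0 : ℤ) < S.N := by exact_mod_cast S.N_pos
  have hne : χ ≠ principal G := (S.mem_others.mp h).1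
  have hle : dg χ ^ 2 + 1 ≤ ((S.N * S.h : ℕ) : ℤ) := by
    rw [← S.sum_dg_sq]
    refine le_trans (le_of_eq ?_) (Finset.sum_le_sum_of_subset_of_nonneg (subset_univ {χ, principal G})
      fun _ _ _ => sq_nonneg _)
    rw [sum_pair hne, dg_principal, one_pow]
  have hh : ((S.N * S.h : ℕ) : ℤ) ≤ 3 * (S.N : ℤ) ^ 2 := by
    have := Nat.mul_le_mul_left S.N S.h_le
    zify at this ⊢
    linarith
  have hj0 : 0 < j := by
    by_contra hc
    push Not at hc
    have := mul_nonpos_of_nonneg_of_nonpos hN.le hc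
    linarith [dg_pos χ]
  have hj1 : j = 1 := by
    by_contra hc
    have h4 : (2 : ℤ) ^ 2 ≤ j ^ 2 := pow_le_pow_left₀ (by norm_num) (by omega) 2
    have h5 := mul_le_mul_of_nonneg_left h4 (sq_nonneg (S.N : ℤ))
    rw [hj, mul_pow] at hle
    linarith [pow_pos hN 2]
  rw [hj, hj1, mul_one]

theorem dg_one (χ : Cfsg.IrrCharacter G) : (χ : G → ℂ) 1 = ((dg χ : ℤ) : ℂ) := (dg_cast χ).symm

theorem X_dvd : S.Xd ∣ (Nat.card G : ℤ) := by
  have h := dg_dvd S.V.chi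
  rcases S.V.F1.eps with e | e <;> simp only [Xd, X, e] <;> simpa using h

theorem Y_dvd : (1 + S.Xd) ∣ (Nat.card G : ℤ) := by
  rw [Xd, ← S.fam1_val S.adm_dg]
  have h := dg_dvd (S.V.F1.μ S.V.F1.z)
  rcases S.V.F1.eps with e | e <;> simp only [e] <;> simpa using h

theorem card_eq_Nh : (Nat.card G : ℤ) = S.n₁ * (S.n₂ * S.n₃) * S.h := by
  have h := S.N_mul_h
  rw [← h, N]
  push_cast
  ring

theorem pair_square {κ : ℤ} (hκ : S.Xd * (1 + S.Xd) = (S.n₂ : ℤ) * S.n₃ * κ) {t : G}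
    (ht : orderOf t = 2) {v : Cfsg.IrrCharacter G → ℤ} (hv : ∀ χ : Cfsg.IrrCharacter G, (χ : G → ℂ) t = v χ)
    (htA : IsConj t S.hA.invol) {m : ℤ}
    (hm : (S.h : ℤ) = m * Nat.card (Subgroup.centralizer ({t} : Set G))) :
    (m * (S.Xd - S.X v)) ^ 2 = (S.h : ℤ) * κ := by
  have h := S.pair_formula ht hv
  rw [if_pos htA, S.card_eq_Nh, hκ] at h
  have hh : (S.h : ℤ) ≠ 0 := by exact_mod_cast S.h_pos.ne'
  have hn : (S.n₁ : ℤ) * (S.n₂ * S.n₃) ≠ 0 := by
    have := S.n₁_ge; have := S.n₂_ge; have := S.n₃_ge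
    positivity
  refine mul_left_cancel₀ hh (mul_left_cancel₀ hn ?_)
  set c : ℤ := (Nat.card (Subgroup.centralizer ({t} : Set G)) : ℤ)
  rw [hm] at h ⊢
  linear_combination m ^ 2 * h

theorem M_facts : (117 : ℤ) ≤ (S.n₂ : ℤ) * S.n₃ ∧ (S.n₂ : ℤ) % 4 = 1 ∧ (S.n₃ : ℤ) % 4 = 1 := by
  have := S.n₂_ge; have := S.n₃_ge; have := S.n₂_ne_n₃; have := S.n₂_mod; have := S.n₃_mod
  refine ⟨?_, by omega, by omega⟩
  rcases le_or_gt 13 S.n₂ with h | h
  · have : 13 * 9 ≤ S.n₂ * S.n₃ := Nat.mul_le_mul h (by omega)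
    exact_mod_cast this
  · have : 9 * 13 ≤ S.n₂ * S.n₃ := Nat.mul_le_mul (by omega) (by omega)
    exact_mod_cast this

/-- The generic shape has at most one further character. -/
theorem shapeA_others (h : S.V.ShapeA) : S.others.card ≤ 1 := by
  by_contra hc
  have hl : S.others.card = 2 := by have := S.others_le_two; omega
  obtain ⟨v, hv, -⟩ := S.col_of_invol S.hA.orderOf_invol
  obtain ⟨hM, m2, m3⟩ := S.M_facts
  have c23 : IsCoprime (S.n₂ : ℤ) (S.n₃ : ℤ) := Nat.Coprime.isCoprime S.cop23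
  obtain ⟨κ, hκ⟩ := c23.mul_dvd (S.Xd_mod₂ h.k2) (S.Xd_mod₃ h.k3)
  obtain ⟨m, hm⟩ := S.centralizer_dvd_h (S.off_of_comm_invol S.hA.orderOf_invol rfl)
    (fun h0 => by have := S.hA.orderOf_invol; rw [h0, orderOf_one] at this; omega)
  have hsq := S.pair_square (κ := κ * S.Xd) (by rw [hκ]; ring) S.hA.orderOf_invol hv (IsConj.refl _)
    (m := (m : ℤ)) (by rw [hm]; push_cast; ring)
  have hG := S.card_eq_Nh
  have hb := S.others_bound
  rw [hl] at hb
  have hchi : S.Xd ^ 2 ≤ ∑ χ ∈ S.named, dg χ ^ 2 := by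
    obtain ⟨p, q, -, -, -, hn, -⟩ := S.named_A h
    refine le_trans (le_of_eq ?_) (Finset.single_le_sum (f := fun χ => dg χ ^ 2) (fun _ _ => sq_nonneg _)
      (show S.V.chi ∈ S.named by rw [hn]; exact mem_insert_self _ _))
    simp only [Xd, X, mul_pow, S.V.eps_sq, one_mul]
  have hfam : (1 + S.Xd) ^ 2 = dg (S.V.F1.μ S.V.F1.z) ^ 2 := by
    rw [Xd, ← S.fam1_val S.adm_dg, mul_pow, S.V.eps_sq, one_mul]
  have hK1 := S.K1_eq
  have hK : (((S.n₁ : ℤ)) - 1) / 2 = (S.V.F1.K : ℤ) := by omega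
  rw [← hfam] at hb
  have hN : (S.N : ℤ) = S.n₁ * (S.n₂ * S.n₃) := by rw [N]; push_cast; ring
  rw [hN] at hb
  push_cast at hb
  refine arith_A (n := S.n₁) (M := (S.n₂ : ℤ) * S.n₃) (h := S.h) (X := S.Xd) (κ := κ)
    (D := S.Xd - S.X v) (m := m) ?_ ?_ hM ?_ hκ S.XY_pos S.Xd_mod₁ ?_ ?_ ?_ ?_ hsq ?_
  · exact_mod_cast S.n₁_ge
  · have := Nat.odd_iff.mp S.n₁_odd; omega
  · rw [Int.mul_emod, m2, m3]; rfl
  · rw [← hG]; exact S.X_dvd
  · rw [← hG]; exact S.Y_dvd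
  · rw [← hN]; exact_mod_cast S.h_le
  · rw [hK]; linarith
  · have h1 := S.congr₁
    have h2 : ((S.n₁ : ℤ)) ∣ ((S.h * (S.n₂ * S.n₃) : ℕ) : ℤ) - ((2 : ℕ) : ℤ) := Nat.modEq_iff_dvd.mp h1.symm
    push_cast at h2
    exact h2

/-- In the third shape with two further characters the centraliser of an involution has index three. -/
theorem shapeB_index [IsSimpleGroup G] (h : S.V.ShapeB) (hl : S.others.card = 2) {t : G}
    (ht : orderOf t = 2) : S.h = 3 * Nat.card (Subgroup.centralizer ({t} : Set G)) := by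
  obtain ⟨v, hv, hva⟩ := S.col_of_invol ht
  obtain ⟨hM, m2, m3⟩ := S.M_facts
  have hoff := S.off_of_comm_invol (x := t) ht rfl
  have ht1 : t ≠ 1 := fun h0 => by rw [h0, orderOf_one] at ht; omega
  obtain ⟨m, hm⟩ := S.centralizer_dvd_h hoff ht1
  obtain ⟨w, hw⟩ := S.Xd_mod₂ h.k2
  obtain ⟨u, hu⟩ := S.Xd_mod₃' (by rw [h.k3]; rcases S.V.F1.eps with e | e <;> rw [e] <;> norm_num)
  have hn1 : S.n₁ = 5 := by have := S.K1_eq; rw [h.K1] at this; omega
  set c := Nat.card (Subgroup.centralizer ({t} : Set G)) with hc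
  have hc0 : 0 < c := Nat.card_pos
  have hsq := S.pair_square (κ := u * w) (by rw [hu] at hw ⊢; rw [hw]; ring) ht hv (S.one_class ht)
    (m := (m : ℤ)) (by rw [hm]; push_cast; ring)
  have hlow := S.others_lt_h
  rw [hl] at hlow
  have hodd : Odd m := by
    have hi := S.odd_index ht
    have e : (Subgroup.centralizer ({t} : Set G)).index = S.N * m := by
      refine Nat.eq_of_mul_eq_mul_left hc0 ?_
      rw [hc, Subgroup.card_mul_index, ← S.N_mul_h, hm]
      ring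
    rw [e, Nat.odd_mul] at hi
    exact hi.2
  have hm5 : ¬ (5 : ℤ) ∣ (m : ℤ) := by
    intro h5
    have h5' : 5 ∣ m := by exact_mod_cast h5
    have := S.cop_n₁_h
    rw [hn1, Nat.Prime.coprime_iff_not_dvd (by norm_num)] at this
    exact this (hm ▸ h5'.mul_left _)
  obtain ⟨ω, μ, α, β, r, q, -, -, -, -, hT, hI, -⟩ := S.shapeB_data h
  obtain ⟨hT2, hT3⟩ := hT v hva
  have hnorm := col_norm hv
  rw [hI v v hva hva, ← hc] at hnorm
  have hso : 0 ≤ ∑ χ ∈ S.others, v χ * v χ := Finset.sum_nonneg fun _ _ => mul_self_nonneg _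
  have hK2e := S.K2_eq
  have hK3e := S.K3_eq
  have hn2 := S.n₂_ge
  have hn3 := S.n₃_ge
  set s := S.X v
  set R := α * v r
  set Q := β * v q
  rw [hT2, hT3] at hnorm
  have a2 := mul_le_mul_of_nonneg_right (show (2 : ℤ) ≤ S.V.F2.K by omega) (mul_self_nonneg (1 - s + R + Q))
  have a3 := mul_le_mul_of_nonneg_right (show (2 : ℤ) ≤ S.V.F3.K by omega) (mul_self_nonneg (3 + 2 * s - R))
  have b1 := bound_one R (Q) (3 + 2 * s) (1 - s)
  have b2 := bound_two R (Q) (3 + 2 * s) (1 - s)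
  have hmz : (m : ℤ) = 3 := by
    refine arith_B (n₂ := S.n₂) (n₃ := S.n₃) (h := S.h) (c := c) (X := S.Xd) (u := u) (w := w) (s := s)
      (by exact_mod_cast hn2) (by exact_mod_cast hn3) hM m2 m3 hu hw S.XY_pos ?_ ?_ ?_ ?_ ?_ ?_ ?_ ?_ hm5
      hsq ?_ ?_
    · have := S.Xd_mod₁; rw [hn1] at this; exact_mod_cast this
    · have := S.X_dvd; rw [S.card_eq_Nh, hn1] at this; exact_mod_cast this
    · have := S.Y_dvd; rw [S.card_eq_Nh, hn1] at this; exact_mod_cast this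
    · have := S.h_le
      rw [N, hn1] at this
      zify at this
      linarith
    · rw [N, hn1] at hlow
      zify at hlow
      linarith
    · rw [hm]; push_cast; ring
    · exact_mod_cast hc0
    · rw [Nat.odd_iff] at hodd; omega
    · linarith
    · intro h17 h17'
      have a2' := mul_le_mul_of_nonneg_right (show (4 : ℤ) ≤ S.V.F2.K by omega)
        (mul_self_nonneg (1 - s + R + Q))
      have a3' := mul_le_mul_of_nonneg_right (show (4 : ℤ) ≤ S.V.F3.K by omega)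
        (mul_self_nonneg (3 + 2 * s - R))
      linarith
  have : m = 3 := by exact_mod_cast hmz
  rw [hm, this, mul_comm]

theorem parity {t y : G} (ht : orderOf t = 2) (hy : orderOf y = 3) (hc : t * y = y * t)
    {v w : Cfsg.IrrCharacter G → ℤ} (hv : ∀ χ : Cfsg.IrrCharacter G, (χ : G → ℂ) (t * y) = v χ)
    (hw : ∀ χ : Cfsg.IrrCharacter G, (χ : G → ℂ) y = w χ) (χ : Cfsg.IrrCharacter G) :
    (2 : ℤ) ∣ v χ - w χ := by
  haveI : Fact (Nat.Prime 2) := ⟨Nat.prime_two⟩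
  exact int_congr χ hc ht (by rw [hy]; norm_num) (hv χ) (hw χ)

theorem mod_three {y : G} (hy : orderOf y = 3) (h3 : 3 ∣ S.h)
    {w : Cfsg.IrrCharacter G → ℤ} (hw : ∀ χ : Cfsg.IrrCharacter G, (χ : G → ℂ) y = w χ)
    {χ : Cfsg.IrrCharacter G} (hχ : χ ∈ S.others) : w χ % 3 ≠ 0 := by
  haveI : Fact (Nat.Prime 3) := ⟨Nat.prime_three⟩
  have h := int_congr (p := 3) χ (x := y) (y := 1) (Commute.one_right y) hy (by simp)
    (v := w χ) (w := dg χ) (by rw [mul_one]; exact hw χ) (dg_one χ)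
  rw [S.others_deg hχ] at h
  have hN : ¬ 3 ∣ S.N := fun h' =>
    absurd (Nat.eq_one_of_dvd_coprimes S.cop_N_h h' h3) (by norm_num)
  omega

theorem sum_nu_le (v : Cfsg.IrrCharacter G → ℤ) (s : Finset (Cfsg.IrrCharacter G)) :
    -(∑ χ ∈ s, v χ ^ 2) ≤ ∑ χ ∈ s, ZassSuz.nuZ χ * v χ ∧
      ∑ χ ∈ s, ZassSuz.nuZ χ * v χ ≤ ∑ χ ∈ s, v χ ^ 2 := by
  rw [← Finset.sum_neg_distrib]
  constructor <;> refine Finset.sum_le_sum fun χ _ => ?_
  · have := le_sq_self' (v χ)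
    have := le_sq_self' (-v χ)
    rcases ZassSuz.nuZ_abs χ with e | e | e <;> rw [e] <;> linarith
  · have := le_sq_self' (v χ)
    have := le_sq_self' (-v χ)
    rcases ZassSuz.nuZ_abs χ with e | e | e <;> rw [e] <;> linarith

theorem nu_cases (χ : Cfsg.IrrCharacter G) :
    ZassSuz.nuZ χ = 0 ∨ ZassSuz.nuZ χ = 1 ∨ ZassSuz.nuZ χ = -1 := by
  rcases ZassSuz.nuZ_abs χ with e | e | e <;> simp [e]

/-- Centralisers of orders twelve and thirty-six do not occur. -/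
theorem no_twelve (hsh : S.V.ShapeA ∨ S.V.ShapeB) (hn1 : S.n₁ = 5) (hl : 1 ≤ S.others.card)
    {t y : G} (ht : orderOf t = 2) (hy : orderOf y = 3) (hc : t * y = y * t)
    (hq1 : ∀ k : ℕ, k.Coprime (orderOf (t * y)) → IsConj (t * y) ((t * y) ^ k))
    (hq2 : ∀ k : ℕ, k.Coprime (orderOf y) → IsConj y (y ^ k))
    (hC1 : Nat.card (Subgroup.centralizer ({t * y} : Set G)) = 12)
    (hC2 : Nat.card (Subgroup.centralizer ({y} : Set G)) = 36)
    (hR1 : Nat.card {s : G // s * s = t * y} = 0) (hR2 : Nat.card {s : G // s * s = y} = 4) : False := by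
  have hord : orderOf (t * y) = 6 := by
    rw [Commute.orderOf_mul_eq_mul_orderOf_of_coprime hc (by rw [ht, hy]; norm_num), ht, hy]
  have hty : S.Off (t * y) := S.off_of_even (by rw [hord]; norm_num)
  have hyo : S.Off y := S.off_of_comm_invol ht hc.symm
  have hy1 : y ≠ 1 := fun h0 => by rw [h0, orderOf_one] at hy; omega
  have h3h : 3 ∣ S.h := by
    have h := S.centralizer_dvd_h hyo hy1
    rw [hC2] at h
    exact (by norm_num : 3 ∣ 36).trans h
  have hK1 : S.V.F1.K = 2 := by have := S.K1_eq; omega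
  have hK : (3 : ℤ) ≤ S.V.F2.K ∧ (3 : ℤ) ≤ S.V.F3.K ∧ (S.V.F2.K : ℤ) ≠ S.V.F3.K := by
    have h3 : ∀ a, a ∣ S.N → ¬ 3 ∣ a := fun a ha h' =>
      absurd (Nat.eq_one_of_dvd_coprimes S.cop_N_h (h'.trans ha) h3h) (by norm_num)
    have e2 := h3 S.n₂ (Dvd.intro_left _ rfl |>.mul_right _)
    have e3 := h3 S.n₃ (Dvd.intro_left _ rfl)
    have := S.n₂_ge; have := S.n₃_ge; have := S.n₂_ne_n₃
    have := S.K2_eq; have := S.K3_eq
    omega
  obtain ⟨hK2, hK3, hKne⟩ := hK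
  obtain ⟨v, hv, hva⟩ := S.exists_col hty hq1
  have hn := col_norm hv
  rw [hC1] at hn
  have hr := col_roots hv
  rw [hR1] at hr
  push_cast at hn hr
  rcases hsh with h | h
  · obtain ⟨ω, μ, α, β, p, q, hω, hμ, -, -, hT, hI, hF⟩ := S.shapeA_data h
    obtain ⟨hT2, hT3⟩ := hT v hva
    rw [hI v v hva hva, hK1] at hn
    rw [hF v hva, hK1] at hr
    push_cast at hn hr
    refine searchA12 (X := S.X v) (P := α * v p) (Q := β * v q) (T₂ := S.T₂ v) (T₃ := S.T₃ v)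
      (K₂ := S.V.F2.K) (K₃ := S.V.F3.K) (s := ∑ χ ∈ S.others, v χ ^ 2)
      (e := ∑ χ ∈ S.others, ZassSuz.nuZ χ * v χ) (ω := ω) (μ := μ) hT2 hT3 hK2 hK3 hKne hω hμ
      (Finset.sum_nonneg fun _ _ => sq_nonneg _) (sum_nu_le v _) ?_ hr
    simp only [pow_two]
    linarith
  obtain ⟨w, hw, hwa⟩ := S.exists_col hyo hq2
  have hn' := col_norm hw
  rw [hC2] at hn'
  have hr' := col_roots hw
  rw [hR2] at hr'
  have ho := col_orth (fun h' => by
    obtain ⟨g, hg⟩ := isConj_iff.mp h'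
    have e : orderOf (g * (t * y) * g⁻¹) = orderOf (t * y) :=
      orderOf_injective (MulAut.conj g).toMonoidHom (MulEquiv.injective _) (t * y)
    rw [hg] at e
    omega) hv hw
  push_cast at hn' hr'
  obtain ⟨ω, μ, α, β, r, q, hω, hμ, hα, hβ, hT, hI, hF⟩ := S.shapeB_data h
  obtain ⟨hT2, hT3⟩ := hT v hva
  obtain ⟨hU2, hU3⟩ := hT w hwa
  rw [hI v v hva hva, hT2, hT3] at hn
  rw [hI w w hwa hwa, hU2, hU3] at hn'
  rw [hI v w hva hwa, hT2, hT3, hU2, hU3] at ho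
  rw [hF v hva, hT2, hT3] at hr
  rw [hF w hwa, hU2, hU3] at hr'
  have par := parity ht hy hc hv hw
  have m3 : ∀ χ ∈ S.others, w χ % 3 ≠ 0 := fun χ hχ => S.mod_three hy h3h hw hχ
  have pX : (S.X v - S.X w) % 2 = 0 := by
    have := par S.V.chi
    unfold X
    rcases S.V.F1.eps with e | e <;> rw [e] <;> omega
  have pR : (α * v r - α * w r) % 2 = 0 := by
    have := par r
    rcases hα with e | e <;> rw [e] <;> omega
  have pQ : (β * v q - β * w q) % 2 = 0 := by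
    have := par q
    rcases hβ with e | e <;> rw [e] <;> omega
  rcases (show S.others.card = 1 ∨ S.others.card = 2 by have := S.others_le_two; omega) with hl1 | hl2
  · obtain ⟨χ, hχ⟩ := Finset.card_eq_one.mp hl1
    simp only [hχ, Finset.sum_singleton] at hn hn' ho hr hr'
    have := par χ
    refine searchB (two := false) (X := S.X v) (P := α * v r) (Q := β * v q) (Y := S.X w)
      (P' := α * w r) (Q' := β * w q) (o := v χ) (p := 0) (u := w χ) (v := 0) (w := ω) (mu := μ)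
      (a := ZassSuz.nuZ χ) (b := 0) hK2 hK3 hω hμ (nu_cases χ) (Or.inl rfl) (fun _ => ⟨rfl, rfl⟩)
      pX pR pQ (by omega) (by norm_num) (m3 χ (by rw [hχ]; exact mem_singleton_self _))
      (fun h0 => absurd h0 (by simp)) ?_ ?_ ?_ ?_ ?_ <;> linarith
  · obtain ⟨χ, χ', hne, hχ⟩ := Finset.card_eq_two.mp hl2
    simp only [hχ, sum_pair hne] at hn hn' ho hr hr'
    have := par χ
    have := par χ'
    refine searchB (two := true) (X := S.X v) (P := α * v r) (Q := β * v q) (Y := S.X w)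
      (P' := α * w r) (Q' := β * w q) (o := v χ) (p := v χ') (u := w χ) (v := w χ') (w := ω) (mu := μ)
      (a := ZassSuz.nuZ χ) (b := ZassSuz.nuZ χ') hK2 hK3 hω hμ (nu_cases χ) (nu_cases χ')
      (fun h0 => absurd h0 (by simp)) pX pR pQ (by omega) (by omega)
      (m3 χ (by rw [hχ]; exact mem_insert_self _ _))
      (fun _ => m3 χ' (by rw [hχ]; exact mem_insert_of_mem (mem_singleton_self _))) ?_ ?_ ?_ ?_ ?_ <;>
      linarith

/-- A centraliser of order ten does not occur in the generic shape. -/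
theorem no_ten (h : S.V.ShapeA) (hl : S.others.card = 1) (h5 : 5 ∣ S.h) (h2 : 2 ∣ S.h) {x : G}
    (hx : S.Off x) (hq : ∀ k : ℕ, k.Coprime (orderOf x) → IsConj x (x ^ k))
    (hC : Nat.card (Subgroup.centralizer ({x} : Set G)) = 10)
    (hR : Nat.card {s : G // s * s = x} = 0) : False := by
  obtain ⟨v, hv, hva⟩ := S.exists_col hx hq
  have hn := col_norm hv
  rw [hC] at hn
  have hr := col_roots hv
  rw [hR] at hr
  push_cast at hn hr
  obtain ⟨ω, μ, α, β, p, q, hω, hμ, -, -, hT, hI, hF⟩ := S.shapeA_data h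
  obtain ⟨hT2, hT3⟩ := hT v hva
  obtain ⟨χ, hχ⟩ := Finset.card_eq_one.mp hl
  rw [hI v v hva hva] at hn
  rw [hF v hva] at hr
  simp only [hχ, Finset.sum_singleton] at hn hr
  have hn1 : S.n₁ ≠ 5 := fun e => by
    have := Nat.eq_one_of_dvd_coprimes S.cop_n₁_h (dvd_of_eq e.symm) h5
    omega
  have := S.n₁_ge
  have e1 := S.K1_eq
  have e2 := S.K2_eq
  have e3 := S.K3_eq
  have := S.n₂_ge; have := S.n₃_ge; have := S.n₂_ne_n₃
  have hcop : (S.V.F1.K : ℤ) = 4 → (S.V.F2.K : ℤ) ≠ 2 ∧ (S.V.F3.K : ℤ) ≠ 2 := by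
    intro h4
    constructor <;> intro h' <;> [have hh := S.cop12; have hh := S.cop13] <;>
      rw [show S.n₁ = 9 by omega] at hh <;> [rw [show S.n₂ = 9 by omega] at hh; rw [show S.n₃ = 9 by omega] at hh] <;>
      norm_num at hh
  obtain ⟨k1, hk⟩ := searchA10 (X := S.X v) (P := α * v p) (Q := β * v q) (T₂ := S.T₂ v) (T₃ := S.T₃ v)
    (K₁ := S.V.F1.K) (K₂ := S.V.F2.K) (K₃ := S.V.F3.K) (o := v χ) (e := ZassSuz.nuZ χ * v χ)
    (ω := ω) (μ := μ) hT2 hT3 (by omega) (by omega) (by omega) (by omega) hcop hω hμ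
    (by simpa using sum_nu_le v {χ}) (by simp only [pow_two]; linarith) hr
  have hn7 : S.n₁ = 7 := by omega
  refine ten_arith (n₁ := S.n₁) (n₂ := S.n₂) (n₃ := S.n₃) (h := S.h) hn7 ?_ h2 h5 S.congr₁ S.congr₂
    S.congr₃ S.h_le
  rcases hk with ⟨k2, k3⟩ | ⟨k2, k3⟩
  · exact Or.inl ⟨by omega, by omega⟩
  · exact Or.inr ⟨by omega, by omega⟩

end Sys

end Cfsg.Agent.SSCThree
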