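import Cfsg.Agent.Lib.SSCThree.Vectors

/-!
# The three possible shapes of the coefficient vectors
-/

set_option autoImplicit false
set_option linter.unusedSectionVars false

namespace Cfsg.Agent.SSCThree

open scoped Classical
open Finset

universe u

namespace VSys

variable {ι : Type u} [Fintype ι] {o : ι} {ν d : ι → ℤ} (V : VSys o ν d)

/-- The character attached to the first subgroup outside its family. -/
noncomputable def chi : ι := V.first.choose

theorem supp1 : V.F1.supp = {V.chi} := V.first.choose_spec.1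

theorem a1 : V.F1.a = 0 := V.first.choose_spec.2.1

theorem q1_chi : V.F1.q V.chi = V.F1.ε := V.first.choose_spec.2.2.1

theorem nu_chi : ν V.chi = ν (V.F1.μ V.F1.z) := V.first.choose_spec.2.2.2

theorem chi_swap : V.swap.chi = V.chi := by
  have h := V.swap.supp1
  rw [show V.swap.F1 = V.F1 from rfl, V.supp1] at h
  exact (Finset.singleton_injective h).symm

theorem chi_ne_o : V.chi ≠ o :=
  (V.F1.mem_supp.mp (V.supp1 ▸ mem_singleton_self _)).2.1

theorem chi_not_mem1 : V.chi ∉ V.F1.mem :=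
  (V.F1.mem_supp.mp (V.supp1 ▸ mem_singleton_self _)).2.2

theorem chi_not_mem2 : V.chi ∉ V.F2.mem := by
  intro h
  obtain ⟨i, hi⟩ := V.F2.mem_mem.mp h
  have hne : V.F1.q (V.F1.μ V.F1.z) ≠ 0 := by
    rw [show V.F1.q (V.F1.μ V.F1.z) = V.F1.a - V.F1.ε from V.F1.q_zero, V.a1]
    rcases V.F1.eps with h | h <;> rw [h] <;> norm_num
  have hall : ∀ j, V.F2.μ j = V.chi := by
    intro j
    have hq : V.F1.q (V.F2.μ j) ≠ 0 := by
      rw [V.c21 j, ← V.c21 i, hi, V.q1_chi]
      rcases V.F1.eps with h | h <;> rw [h] <;> norm_num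
    have hm : V.F2.μ j ∈ V.F1.supp := V.F1.mem_supp.mpr ⟨hq, V.F2.ne_o j, fun hm => by
      obtain ⟨k, hk⟩ := V.F1.mem_mem.mp hm
      exact V.dis12 k j hk⟩
    rw [V.supp1, mem_singleton] at hm
    exact hm
  have h2 := V.F2.two_le
  have := congrArg Fin.val (V.F2.inj ((hall ⟨0, by omega⟩).trans (hall ⟨1, by omega⟩).symm))
  simp at this

/-- The value of the second vector on the first family. -/
noncomputable def k : ℤ := V.F2.q (V.F1.μ V.F1.z)

/-- The value of the second vector on the first extra character. -/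
noncomputable def c : ℤ := V.F2.q V.chi

/-- The support of the second vector outside both families and the first extra character. -/
noncomputable def rest : Finset ι := V.F2.supp \ (insert V.chi V.F1.mem)

theorem mem_rest {χ : ι} :
    χ ∈ V.rest ↔ V.F2.q χ ≠ 0 ∧ χ ≠ o ∧ χ ∉ V.F2.mem ∧ χ ≠ V.chi ∧ χ ∉ V.F1.mem := by
  simp only [rest, mem_sdiff, mem_insert, VFam.mem_supp, not_or]
  tauto

theorem split_supp (g : ι → ℤ) :
    ∑ χ ∈ V.F2.supp, V.F2.q χ * g χ =
      V.k * ∑ χ ∈ V.F1.mem, g χ + V.c * g V.chi + ∑ χ ∈ V.rest, V.F2.q χ * g χ := by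
  have h : ∑ χ ∈ V.F2.supp, V.F2.q χ * g χ =
      ∑ χ ∈ V.rest ∪ insert V.chi V.F1.mem, V.F2.q χ * g χ := by
    rw [rest, sdiff_union_self_eq_union]
    refine Finset.sum_subset subset_union_left fun χ h hs => ?_
    rw [mem_union, or_iff_right hs, mem_insert] at h
    rw [V.F2.q_eq_zero ?_ ?_ hs, zero_mul]
    · rcases h with rfl | h
      · exact V.chi_ne_o
      · exact fun h' => V.F1.o_not_mem (h' ▸ h)
    · rcases h with rfl | h
      · exact V.chi_not_mem2
      · intro hm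
        obtain ⟨i, rfl⟩ := V.F1.mem_mem.mp h
        obtain ⟨j, hj⟩ := V.F2.mem_mem.mp hm
        exact V.dis12 i j hj.symm
  rw [h, sum_union (show Disjoint V.rest (insert V.chi V.F1.mem) from
      disjoint_left.mpr fun x h1 h2 => (mem_sdiff.mp h1).2 h2),
    sum_insert V.chi_not_mem1, add_comm]
  congr 1
  rw [add_comm]
  congr 1
  rw [mul_sum]
  refine Finset.sum_congr rfl fun χ hχ => ?_
  obtain ⟨i, rfl⟩ := V.F1.mem_mem.mp hχ
  rw [V.c12 i]
  rfl

theorem k_eq : V.k = V.c + V.F1.ε := by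
  have h := V.F1.split V.F2.q
  rw [V.o12, V.F2.q_o, V.F1.sum_q_mem (c := V.k) V.c12, V.supp1, sum_singleton, V.q1_chi, V.a1] at h
  simp only [mul_zero, zero_sub] at h
  rcases V.F1.eps with e | e <;> rw [e] at h ⊢ <;> unfold c <;> linarith

theorem norm2 : ((V.F2.K : ℤ) - 1) * V.F2.a ^ 2 + (V.F2.a - V.F2.ε) ^ 2 + (V.F1.K * V.k ^ 2 + V.c ^ 2) +
    ∑ χ ∈ V.rest, V.F2.q χ ^ 2 = 4 := by
  have h := V.split_supp V.F2.q
  simp only [← pow_two] at h
  rw [V.F1.sum_mem_const (c := V.k) V.c12] at h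
  have h2 := V.F2.norm_split
  rw [h] at h2
  push_cast at h2
  rw [show V.F2.q V.chi = V.c from rfl] at h2
  linarith

theorem nu2 : (V.F2.K * V.F2.a - V.F2.ε) * ν (V.F2.μ V.F2.z) +
    (V.k * V.F1.K + V.c) * ν (V.F1.μ V.F1.z) + ∑ χ ∈ V.rest, V.F2.q χ * ν χ = 0 := by
  have h := V.F2.nu_split V.nu_o
  rw [V.split_supp, V.F1.sum_mem_const (c := ν (V.F1.μ V.F1.z)) V.F1.nu_eq, V.nu_chi] at h
  linarith

theorem deg2 : 1 + (V.F2.K * V.F2.a - V.F2.ε) * d (V.F2.μ V.F2.z) +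
    (V.k * V.F1.K * d (V.F1.μ V.F1.z) + V.c * d V.chi) + ∑ χ ∈ V.rest, V.F2.q χ * d χ = 0 := by
  have h := V.F2.d_split V.d_o
  rw [V.split_supp, V.F1.sum_mem_const (c := d (V.F1.μ V.F1.z)) V.F1.d_eq] at h
  linarith

theorem two_le_K1 : (2 : ℤ) ≤ V.F1.K := by exact_mod_cast V.F1.two_le

theorem eps_sq : V.F1.ε ^ 2 = 1 := by rcases V.F1.eps with e | e <;> rw [e] <;> norm_num

theorem fam_sq_pos : 1 ≤ ((V.F2.K : ℤ) - 1) * V.F2.a ^ 2 + (V.F2.a - V.F2.ε) ^ 2 := by
  rcases eq_or_ne V.F2.a 0 with h | h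
  · rw [h]; rcases V.F2.eps with e | e <;> rw [e] <;> norm_num
  · have h2 : (2 : ℤ) ≤ V.F2.K := by exact_mod_cast V.F2.two_le
    have := sq_pos_of_ne_zero h
    nlinarith [sq_nonneg (V.F2.a - V.F2.ε)]

theorem card_rest_le : (V.rest.card : ℤ) ≤ ∑ χ ∈ V.rest, V.F2.q χ ^ 2 := by
  rw [← Nat.smul_one_eq_cast, ← Finset.sum_const]
  exact Finset.sum_le_sum fun χ h => V.F2.supp_sq_one (mem_sdiff.mp h).1

theorem kc_cases : (V.k = 0 ∧ V.c = -V.F1.ε) ∨ (V.k = V.F1.ε ∧ V.c = 0) := by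
  have hn := V.norm2
  have hf := V.fam_sq_pos
  have hr : 0 ≤ ∑ χ ∈ V.rest, V.F2.q χ ^ 2 := Finset.sum_nonneg fun _ _ => sq_nonneg _
  have hK := V.two_le_K1
  have hk := V.k_eq
  have hke : V.F1.K * V.k ^ 2 + V.c ^ 2 ≤ 3 := by linarith
  have h1 : 2 * V.k ^ 2 ≤ V.F1.K * V.k ^ 2 := mul_le_mul_of_nonneg_right hK (sq_nonneg _)
  have hc : V.c ^ 2 ≤ 3 := by nlinarith [sq_nonneg V.k]
  have hk' : V.k ^ 2 ≤ 3 := by nlinarith [sq_nonneg V.c]
  rcases unit_or_zero hc with e | e | e <;> rcases V.F1.eps with e' | e' <;> rw [e, e'] at hk <;>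
    rw [e, e', hk] <;> norm_num <;> rw [hk] at hk' <;> norm_num at hk'

theorem kc_one : 1 ≤ V.F1.K * V.k ^ 2 + V.c ^ 2 := by
  have hK := V.two_le_K1
  rcases V.kc_cases with ⟨h1, h2⟩ | ⟨h1, h2⟩ <;> rw [h1, h2] <;> simp [V.eps_sq] <;> linarith

/-- Members of the third family in the support. -/
theorem card_third (h : V.F2.q (V.F3.μ V.F3.z) ≠ 0) : V.F3.mem ⊆ V.rest := by
  intro χ hχ
  obtain ⟨j, rfl⟩ := V.F3.mem_mem.mp hχ
  refine V.mem_rest.mpr ⟨by rw [V.c32 j]; exact h, V.F3.ne_o j, fun hm => ?_, fun he => ?_, fun hm => ?_⟩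
  · obtain ⟨i, hi⟩ := V.F2.mem_mem.mp hm
    exact V.dis23 i j hi
  · exact V.swap.chi_not_mem2 (V.chi_swap.symm ▸ he ▸ V.F3.μ_mem j)
  · obtain ⟨i, hi⟩ := V.F1.mem_mem.mp hm
    exact V.dis13 i j hi

theorem orth23 : 1 + (V.F2.K * V.F2.a - V.F2.ε) * V.swap.F2.q (V.F2.μ V.F2.z) +
    (V.k * (V.F1.K * V.swap.k) + V.c * V.swap.c) + ∑ χ ∈ V.rest, V.F2.q χ * V.F3.q χ = 0 := by
  have h := V.F2.split V.F3.q
  rw [V.o23, V.F3.q_o, V.F2.sum_q_mem (c := V.F3.q (V.F2.μ V.F2.z)) V.c23, V.split_supp,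
    V.F1.sum_mem_const (c := V.swap.k) V.c13] at h
  have e : V.swap.c = V.F3.q V.chi := by rw [c, chi_swap]; rfl
  rw [e]
  show 1 + (V.F2.K * V.F2.a - V.F2.ε) * V.F3.q (V.F2.μ V.F2.z) + _ + _ = 0
  linarith

theorem a2_zero : V.F2.a = 0 := by
  by_contra ha
  have hn := V.norm2
  have hν := V.nu2
  have hd := V.deg2
  have hkc := V.kc_one
  have hr := V.card_rest_le
  have hK1 := V.two_le_K1
  have hK : (3 : ℤ) ≤ V.F2.K := by
    have h1 := V.F2.two_le
    have : V.F2.K ≠ 2 := fun h => ha (V.F2.a_two h)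
    exact_mod_cast (show 3 ≤ V.F2.K by omega)
  have ha2 := sq_pos_of_ne_zero ha
  have h0 := sq_nonneg (V.F2.a - V.F2.ε)
  have h2a : 2 * V.F2.a ^ 2 ≤ ((V.F2.K : ℤ) - 1) * V.F2.a ^ 2 :=
    mul_le_mul_of_nonneg_right (by linarith) (sq_nonneg _)
  have hKa : ((V.F2.K : ℤ) - 1) ≤ ((V.F2.K : ℤ) - 1) * V.F2.a ^ 2 :=
    le_mul_of_one_le_right (by linarith) ha2
  have hra : 0 ≤ ∑ χ ∈ V.rest, V.F2.q χ ^ 2 := Finset.sum_nonneg fun _ _ => sq_nonneg _
  have hae : V.F2.a = V.F2.ε := by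
    have h1 : V.F2.a ^ 2 = 1 := by omega
    rcases sq_eq_one_iff.mp h1 with e | e <;> rcases V.F2.eps with e' | e' <;> rw [e, e'] at hn ⊢ <;>
      norm_num at hn ⊢ <;> linarith
  have he : V.F2.ε ^ 2 = 1 := by rcases V.F2.eps with e | e <;> rw [e] <;> norm_num
  rw [hae, sub_self, he] at hn
  rw [hae] at hν hd
  rcases (show (V.F2.K : ℤ) = 3 ∨ (V.F2.K : ℤ) = 4 by omega) with hK' | hK' <;>
    rw [hK'] at hn hν hd
  · rcases V.kc_cases with ⟨hk, hc⟩ | ⟨hk, hc⟩ <;> rw [hk, hc] at hn hν hd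
    · -- one further character
      simp only [neg_sq, V.eps_sq] at hn
      have hcard : V.rest.card = 1 := by
        have h1 : ∑ χ ∈ V.rest, V.F2.q χ ^ 2 = 1 := by linarith
        have : V.rest.card ≠ 0 := fun h => by rw [Finset.card_eq_zero.mp h, sum_empty] at h1; omega
        omega
      obtain ⟨r, hr'⟩ := Finset.card_eq_one.mp hcard
      have h23 := V.orth23
      rw [hr', sum_singleton] at hn hν h23
      have hn3 := V.swap.norm2
      have hν3 := V.swap.nu2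
      have hf3 := V.swap.fam_sq_pos
      have hkc3 := V.swap.kc_one
      have hr3 := V.swap.card_rest_le
      have hkk : V.swap.F2.q (V.F2.μ V.F2.z) = 0 := by
        by_contra hne
        have hsub := Finset.card_le_card (V.swap.card_third hne)
        rw [show V.swap.F3 = V.F2 from rfl, V.F2.card_mem] at hsub
        have : (V.F2.K : ℤ) ≤ V.swap.rest.card := by exact_mod_cast hsub
        linarith
      rw [hkk, hae, hK', hk, hc] at h23
      simp only [mul_zero, zero_mul, add_zero, zero_add] at h23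
      have hrm : r ∈ V.rest := hr' ▸ mem_singleton_self r
      obtain ⟨hr0, hro, hr2, hrc, hr1⟩ := V.mem_rest.mp hrm
      have hγ : V.F2.q r = 1 ∨ V.F2.q r = -1 := by
        rcases unit_or_zero (show V.F2.q r ^ 2 ≤ 3 by linarith) with e | e | e
        exacts [Or.inr e, absurd e hr0, Or.inl e]
      have hr3m : r ∉ V.F3.mem := by
        intro hm
        obtain ⟨j, hj⟩ := V.F3.mem_mem.mp hm
        have hsub := Finset.card_le_card (V.card_third (by rw [← V.c32 j, hj]; exact hr0))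
        rw [V.F3.card_mem, hcard] at hsub
        have := V.F3.two_le
        omega
      have hin : V.F3.q r ≠ 0 → r ∈ V.swap.rest := fun h =>
        V.swap.mem_rest.mpr ⟨h, hro, hr3m, V.chi_swap.symm ▸ hrc, hr1⟩
      have hγ3 : V.F3.q r ^ 2 ≤ ∑ χ ∈ V.swap.rest, V.swap.F2.q χ ^ 2 := by
        rcases eq_or_ne (V.F3.q r) 0 with e | e
        · rw [e]; simpa using Finset.sum_nonneg fun χ _ => sq_nonneg (V.swap.F2.q χ)
        · exact Finset.single_le_sum (f := fun χ => V.swap.F2.q χ ^ 2) (fun _ _ => sq_nonneg _) (hin e)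
      rcases V.swap.kc_cases with ⟨hk3, hc3⟩ | ⟨hk3, hc3⟩ <;> rw [hc3] at h23
      · -- the second vector takes the value two
        have h2 : V.F2.q r * V.F3.q r = -2 := by
          have := V.eps_sq
          rw [show V.swap.F1 = V.F1 from rfl] at h23
          linear_combination h23 - this
        have : V.F3.q r ^ 2 ≤ 3 := by
          have := V.eps_sq
          rw [hk3, hc3, show V.swap.F1 = V.F1 from rfl] at hn3
          simp only [neg_sq, this] at hn3
          linarith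
        rcases unit_or_zero this with e | e | e <;> rcases hγ with e' | e' <;> rw [e, e'] at h2 <;> omega
      · -- the first family fills the third vector
        simp only [mul_zero, add_zero] at h23
        have hq3 : V.F3.q r = -V.F2.q r := by
          rcases hγ with e | e <;> rw [e] at h23 ⊢ <;> linarith
        have hq3' : V.F3.q r ≠ 0 := by rw [hq3]; simpa using hr0
        have hrest1 := hin hq3'
        have hsq3 : 1 ≤ V.F3.q r ^ 2 := sq_pos_of_ne_zero hq3'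
        rw [hk3, hc3, show V.swap.F1 = V.F1 from rfl, V.eps_sq] at hn3
        have hK3a : V.F3.a = 0 := by
          by_contra h3
          have h1 := sq_pos_of_ne_zero h3
          have h2 : (3 : ℤ) ≤ V.F3.K := by
            have h1 := V.F3.two_le
            have : V.F3.K ≠ 2 := fun h => h3 (V.F3.a_two h)
            exact_mod_cast (show 3 ≤ V.F3.K by omega)
          have h4 : 2 * V.F3.a ^ 2 ≤ ((V.F3.K : ℤ) - 1) * V.F3.a ^ 2 :=
            mul_le_mul_of_nonneg_right (by linarith) (sq_nonneg _)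
          have h5 := sq_nonneg (V.F3.a - V.F3.ε)
          rw [show V.swap.F2 = V.F3 from rfl] at hn3 hγ3
          linarith
        have he3 : V.F3.ε ^ 2 = 1 := by rcases V.F3.eps with e | e <;> rw [e] <;> norm_num
        rw [show V.swap.F2 = V.F3 from rfl, hK3a] at hn3
        rw [show V.swap.F2 = V.F3 from rfl] at hγ3 hr3
        simp only [zero_sub, neg_sq, he3] at hn3
        have hK12 : (V.F1.K : ℤ) = 2 := by linarith
        have hone : V.swap.rest = {r} := by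
          have h1 : V.swap.rest.card ≤ 1 := by omega
          exact Finset.eq_singleton_iff_unique_mem.mpr ⟨hrest1, fun x hx =>
            Finset.card_le_one.mp h1 x hx r hrest1⟩
        rw [hone, sum_singleton, show V.swap.F2 = V.F3 from rfl, hk3, hc3,
          show V.swap.F1 = V.F1 from rfl, hK12, hK3a, hq3] at hν3
        have := V.F1.nu_unit
        have := V.F2.nu_unit
        have := V.F3.nu_unit
        have hu1 : ν (V.F1.μ V.F1.z) = 1 ∨ ν (V.F1.μ V.F1.z) = -1 := V.F1.nu_unit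
        have hu2 : ν (V.F2.μ V.F2.z) = 1 ∨ ν (V.F2.μ V.F2.z) = -1 := V.F2.nu_unit
        have hu3 : ν (V.F3.μ V.F3.z) = 1 ∨ ν (V.F3.μ V.F3.z) = -1 := V.F3.nu_unit
        have hnr := V.nu_le r
        rcases hγ with e | e <;> rw [e] at hν hν3 <;>
          rcases V.F1.eps with e1 | e1 <;> rw [e1] at hν hν3 <;>
          rcases V.F2.eps with e2 | e2 <;> rw [e2] at hν <;>
          rcases V.F3.eps with e3 | e3 <;> rw [e3] at hν3 <;> omega
    · -- the first family fills the second vector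
      have h1 : V.F1.K * V.F1.ε ^ 2 = (V.F1.K : ℤ) := by rw [V.eps_sq, mul_one]
      have hemp : V.rest = ∅ := Finset.card_eq_zero.mp (by omega)
      rw [hemp, sum_empty] at hd hn
      have hK12 : (V.F1.K : ℤ) = 2 := by rw [V.eps_sq] at hn; linarith
      rw [hK12] at hd
      rcases V.F1.eps with e1 | e1 <;> rw [e1] at hd <;>
        rcases V.F2.eps with e2 | e2 <;> rw [e2] at hd <;> omega
  · have hemp : V.rest = ∅ := Finset.card_eq_zero.mp (by omega)
    rw [hemp, sum_empty] at hν hn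
    have hu1 : ν (V.F1.μ V.F1.z) = 1 ∨ ν (V.F1.μ V.F1.z) = -1 := V.F1.nu_unit
    have hu2 : ν (V.F2.μ V.F2.z) = 1 ∨ ν (V.F2.μ V.F2.z) = -1 := V.F2.nu_unit
    rcases V.kc_cases with ⟨hk, hc⟩ | ⟨hk, hc⟩ <;> rw [hk, hc] at hn hν
    · rcases V.F1.eps with e1 | e1 <;> rw [e1] at hν <;>
        rcases V.F2.eps with e2 | e2 <;> rw [e2] at hν <;> omega
    · rw [V.eps_sq] at hn
      linarith

theorem eps2_sq : V.F2.ε ^ 2 = 1 := by rcases V.F2.eps with e | e <;> rw [e] <;> norm_num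

theorem rest_unit {χ : ι} (h : χ ∈ V.rest) : V.F2.q χ = 1 ∨ V.F2.q χ = -1 := by
  have hn := V.norm2
  have hf := V.fam_sq_pos
  have hkc := V.kc_one
  have h1 : V.F2.q χ ^ 2 ≤ ∑ x ∈ V.rest, V.F2.q x ^ 2 :=
    Finset.single_le_sum (f := fun x => V.F2.q x ^ 2) (fun _ _ => sq_nonneg _) h
  rcases unit_or_zero (show V.F2.q χ ^ 2 ≤ 3 by linarith) with e | e | e
  exacts [Or.inr e, absurd e (V.mem_rest.mp h).1, Or.inl e]

theorem rest_card : (V.rest.card : ℤ) + V.F1.K * V.k ^ 2 + V.c ^ 2 = 3 := by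
  have hn := V.norm2
  rw [V.a2_zero, Finset.sum_congr rfl (g := fun _ => (1 : ℤ)) fun χ h => by
    rcases V.rest_unit h with e | e <;> rw [e] <;> norm_num, Finset.sum_const, Nat.smul_one_eq_cast] at hn
  simp only [zero_sub, neg_sq, V.eps2_sq] at hn
  linarith

theorem K1_two (hk : V.k ≠ 0) : V.F1.K = 2 ∧ V.k = V.F1.ε ∧ V.c = 0 ∧ ∃ r, V.rest = {r} := by
  obtain ⟨h, -⟩ | ⟨h, hc⟩ := V.kc_cases
  · exact absurd h hk
  have hcard := V.rest_card
  rw [h, hc, V.eps_sq] at hcard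
  have hK := V.F1.two_le
  have hK2 : V.F1.K = 2 := by
    by_contra hne
    have hK3 : (V.F1.K : ℤ) = 3 := by omega
    have hemp : V.rest = ∅ := Finset.card_eq_zero.mp (by omega)
    have hν := V.nu2
    rw [hemp, sum_empty, V.a2_zero, h, hc, hK3] at hν
    have hu1 : ν (V.F1.μ V.F1.z) = 1 ∨ ν (V.F1.μ V.F1.z) = -1 := V.F1.nu_unit
    have hu2 : ν (V.F2.μ V.F2.z) = 1 ∨ ν (V.F2.μ V.F2.z) = -1 := V.F2.nu_unit
    rcases V.F1.eps with e1 | e1 <;> rw [e1] at hν <;>
      rcases V.F2.eps with e2 | e2 <;> rw [e2] at hν <;> omega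
  exact ⟨hK2, h, hc, Finset.card_eq_one.mp (by rw [hK2] at hcard; omega)⟩

theorem third_zero (hk : V.k ≠ 0) : V.F2.q (V.F3.μ V.F3.z) = 0 := by
  by_contra h
  obtain ⟨-, -, -, r, hr⟩ := V.K1_two hk
  have h1 := Finset.card_le_card (V.card_third h)
  rw [V.F3.card_mem, hr, card_singleton] at h1
  have := V.F3.two_le
  omega

/-- The generic shape: both vectors contain the first extra character and share two more. -/
structure ShapeA : Prop where
  k2 : V.k = 0
  k3 : V.swap.k = 0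
  zero3 : V.F2.q (V.F3.μ V.F3.z) = 0
  zero2 : V.F3.q (V.F2.μ V.F2.z) = 0
  slots : ∃ p q : ι, p ≠ q ∧ V.rest = {p, q} ∧ V.swap.rest = {p, q} ∧
    V.F3.q p = -V.F2.q p ∧ V.F3.q q = -V.F2.q q

/-- The first family lies in the third vector, the third family in the second. -/
structure ShapeB' : Prop where
  k2 : V.k = 0
  k3 : V.swap.k = V.F1.ε
  K1 : V.F1.K = 2
  K3 : V.F3.K = 2
  zero2 : V.F3.q (V.F2.μ V.F2.z) = 0
  rest2 : V.rest = V.F3.mem
  slots : ∃ r : ι, V.swap.rest = {r} ∧ V.F2.q r = 0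

/-- The first family lies in the third vector, which shares one character with the second. -/
structure ShapeB : Prop where
  k2 : V.k = 0
  k3 : V.swap.k = V.F1.ε
  K1 : V.F1.K = 2
  zero3 : V.F2.q (V.F3.μ V.F3.z) = 0
  zero2 : V.F3.q (V.F2.μ V.F2.z) = 0
  slots : ∃ r q : ι, r ≠ q ∧ V.rest = {r, q} ∧ V.swap.rest = {r} ∧ V.F3.q r = -V.F2.q r ∧ V.F3.q q = 0

theorem two_rest (hk : V.k = 0) : V.c = -V.F1.ε ∧ ∃ p q, p ≠ q ∧ V.rest = {p, q} := by
  rcases V.kc_cases with ⟨-, hc⟩ | ⟨h, -⟩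
  · refine ⟨hc, Finset.card_eq_two.mp ?_⟩
    have h := V.rest_card
    rw [hk, hc, neg_sq, V.eps_sq] at h
    omega
  · rw [hk] at h
    rcases V.F1.eps with e | e <;> omega

theorem abs_sum_le {s : Finset ι} (h : s.card ≤ 1) (g : ι → ℤ) (hg : ∀ x ∈ s, g x = -1 ∨ g x = 0 ∨ g x = 1) :
    -1 ≤ ∑ x ∈ s, g x := by
  rcases Nat.le_one_iff_eq_zero_or_eq_one.mp h with e | e
  · simp [Finset.card_eq_zero.mp e]
  · obtain ⟨x, rfl⟩ := Finset.card_eq_one.mp e
    rw [sum_singleton]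
    rcases hg x (mem_singleton_self x) with h | h | h <;> omega

theorem not_both (hk2 : V.k ≠ 0) : V.swap.k = 0 := by
  by_contra hk3
  obtain ⟨hK, hk, hc, r, hr⟩ := V.K1_two hk2
  obtain ⟨-, hk', hc', r', hr'⟩ := V.swap.K1_two hk3
  have h := V.orth23
  have h2 : V.swap.F2.q (V.F2.μ V.F2.z) = 0 := V.swap.third_zero hk3
  rw [h2, hK, hk, hc, hk', hc', show V.swap.F1 = V.F1 from rfl, hr, sum_singleton] at h
  simp only [mul_zero, add_zero] at h
  have he := V.eps_sq
  have hrm : r ∈ V.rest := hr ▸ mem_singleton_self r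
  have hq : V.F3.q r = -1 ∨ V.F3.q r = 0 ∨ V.F3.q r = 1 := by
    by_cases h0 : V.F3.q r = 0
    · exact Or.inr (Or.inl h0)
    obtain ⟨hr0, hro, hr2, hrc, hr1⟩ := V.mem_rest.mp hrm
    have hm : r ∉ V.F3.mem := fun hm => by
      obtain ⟨j, hj⟩ := V.F3.mem_mem.mp hm
      exact hr0 (by rw [← hj, V.c32 j, V.third_zero hk2])
    rcases V.swap.rest_unit (V.swap.mem_rest.mpr ⟨h0, hro, hm, V.chi_swap.symm ▸ hrc, hr1⟩) with e | e
    exacts [Or.inr (Or.inr e), Or.inl e]
  push_cast at h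
  have h' : 3 + V.F2.q r * V.F3.q r = 0 := by linear_combination h - 2 * he
  rcases V.rest_unit hrm with e | e <;> rcases hq with e' | e' | e' <;> rw [e, e'] at h' <;> omega

theorem shapeB_or (hk2 : V.k = 0) (hk3 : V.swap.k ≠ 0) : V.ShapeB' ∨ V.ShapeB := by
  obtain ⟨hc2, p, q, hpq, hrest⟩ := V.two_rest hk2
  obtain ⟨hK, hk3', hc3, r, hr⟩ := V.swap.K1_two hk3
  have hz2 : V.F3.q (V.F2.μ V.F2.z) = 0 := V.swap.third_zero hk3
  have h23 := V.orth23
  rw [show V.swap.F2.q (V.F2.μ V.F2.z) = 0 from hz2, hk2, hc2, hc3] at h23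
  simp only [mul_zero, zero_mul, add_zero] at h23
  have hrm : r ∈ V.swap.rest := hr ▸ mem_singleton_self r
  obtain ⟨hr0, hro, hr3, hrc, hr1⟩ := V.swap.mem_rest.mp hrm
  rw [V.chi_swap] at hrc
  have hr2m : r ∉ V.F2.mem := fun hm => by
    obtain ⟨j, hj⟩ := V.F2.mem_mem.mp hm
    exact hr0 (by show V.F3.q r = 0; rw [← hj, V.c23 j, hz2])
  by_cases hz3 : V.F2.q (V.F3.μ V.F3.z) = 0
  · right
    have hin : ∀ x ∈ V.rest, V.F3.q x ≠ 0 → x = r := by
      intro x hx hx3
      obtain ⟨h0, ho, h2, hc, h1⟩ := V.mem_rest.mp hx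
      have hm : x ∉ V.F3.mem := fun hm => by
        obtain ⟨j, hj⟩ := V.F3.mem_mem.mp hm
        exact h0 (by rw [← hj, V.c32 j, hz3])
      have := V.swap.mem_rest.mpr ⟨hx3, ho, hm, V.chi_swap.symm ▸ hc, h1⟩
      rw [hr, mem_singleton] at this
      exact this
    have hrmem : r ∈ V.rest := by
      by_contra hn
      rw [Finset.sum_eq_zero fun x hx => ?_] at h23
      · omega
      · by_cases h : V.F3.q x = 0
        · rw [h, mul_zero]
        · exact absurd (hin x hx h ▸ hx) hn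
    rw [Finset.sum_eq_single r (fun x hx hxr => by
      by_cases h : V.F3.q x = 0
      · rw [h, mul_zero]
      · exact absurd (hin x hx h) hxr) (fun h => absurd hrmem h)] at h23
    have hq3 : V.F3.q r = -V.F2.q r := by
      rcases V.rest_unit hrmem with e | e <;> rw [e] at h23 ⊢ <;> linarith
    have hother : ∀ s, V.rest = {r, s} → r ≠ s → V.F3.q s = 0 := fun s hs hne => by
      by_contra h
      exact hne (hin s (hs ▸ mem_insert_of_mem (mem_singleton_self s)) h).symm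
    rw [hrest, mem_insert, mem_singleton] at hrmem
    refine ⟨hk2, hk3', hK, hz3, hz2, ?_⟩
    rcases hrmem with rfl | rfl
    · exact ⟨r, q, hpq, hrest, hr, hq3, hother q hrest hpq⟩
    · exact ⟨r, p, hpq.symm, by rw [hrest, pair_comm], hr, hq3,
        hother p (by rw [hrest, pair_comm]) hpq.symm⟩
  · left
    have hsub := V.card_third hz3
    have hK3 : V.F3.K = 2 := by
      have h1 := Finset.card_le_card hsub
      rw [V.F3.card_mem, hrest, card_pair hpq] at h1
      have := V.F3.two_le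
      omega
    have heq : V.rest = V.F3.mem := (Finset.eq_of_subset_of_card_le hsub
      (by rw [V.F3.card_mem, hK3, hrest, card_pair hpq])).symm
    refine ⟨hk2, hk3', hK, hK3, hz2, heq, r, hr, ?_⟩
    by_contra h
    have : r ∈ V.F3.mem := heq ▸ V.mem_rest.mpr ⟨h, hro, hr2m, hrc, hr1⟩
    exact hr3 this

theorem shapeA (hk2 : V.k = 0) (hk3 : V.swap.k = 0) : V.ShapeA := by
  obtain ⟨hc2, p, q, hpq, hrest⟩ := V.two_rest hk2
  obtain ⟨hc3, p', q', hpq', hrest'⟩ := V.swap.two_rest hk3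
  have h23 := V.orth23
  rw [hk2, hc2, hc3, show V.swap.F1 = V.F1 from rfl, V.a2_zero] at h23
  simp only [mul_zero, zero_mul, zero_sub, zero_add, neg_mul_neg, ← pow_two, V.eps_sq] at h23
  rw [show V.swap.F2 = V.F3 from rfl] at h23
  have hz : ∀ (W : VSys o ν d), W.k = 0 → W.F2.q (W.F3.μ W.F3.z) ≠ 0 → W.F3.K = 2 ∧ W.rest = W.F3.mem := by
    intro W hk h
    obtain ⟨-, a, b, hab, hr⟩ := W.two_rest hk
    have h1 := Finset.card_le_card (W.card_third h)
    rw [W.F3.card_mem, hr, card_pair hab] at h1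
    have h2 := W.F3.two_le
    exact ⟨by omega, (Finset.eq_of_subset_of_card_le (W.card_third h)
      (by rw [W.F3.card_mem, hr, card_pair hab]; omega)).symm⟩
  have hz2 : V.F3.q (V.F2.μ V.F2.z) = 0 := by
    by_contra h
    obtain ⟨hK, hreq⟩ := hz V.swap hk3 h
    have hz3 : V.F2.q (V.F3.μ V.F3.z) = 0 := by
      by_contra h'
      exact V.K_ne ((show V.F2.K = 2 from hK).trans (hz V hk2 h').1.symm)
    rw [Finset.sum_eq_zero fun x hx => ?_] at h23
    · have hm : V.F2.μ V.F2.z ∈ V.swap.rest := hreq ▸ V.F2.μ_mem _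
      rcases V.swap.rest_unit hm with e | e <;> rw [show V.swap.F2 = V.F3 from rfl] at e <;>
        rw [e] at h23 <;> rcases V.F2.eps with e' | e' <;> rw [e'] at h23 <;>
        rcases V.F1.eps with e1 | e1 <;> rw [e1] at h23 <;> norm_num at h23
    · obtain ⟨h0, ho, h2, hc, h1⟩ := V.mem_rest.mp hx
      by_contra hne
      have hm : x ∉ V.F3.mem := fun hm => by
        obtain ⟨j, hj⟩ := V.F3.mem_mem.mp hm
        exact h0 (by rw [← hj, V.c32 j, hz3])
      have : x ∈ V.swap.rest := V.swap.mem_rest.mpr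
        ⟨fun h => hne (by rw [show V.F3.q x = 0 from h, mul_zero]), ho, hm, V.chi_swap.symm ▸ hc, h1⟩
      exact h2 (show x ∈ V.swap.F3.mem from hreq ▸ this)
  have hz3 : V.F2.q (V.F3.μ V.F3.z) = 0 := by
    by_contra h
    obtain ⟨-, hreq⟩ := hz V hk2 h
    rw [hz2, mul_zero, hreq, Finset.sum_congr rfl fun x _ => mul_comm (V.F2.q x) (V.F3.q x),
      V.F3.sum_q_mem (c := V.F2.q (V.F3.μ V.F3.z)) V.c32, show V.F3.a = 0 from V.swap.a2_zero] at h23
    have hu := V.rest_unit (hreq.symm ▸ V.F3.μ_mem V.F3.z)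
    rcases V.F1.eps with e1 | e1 <;> rw [e1] at h23 <;> rcases V.F3.eps with e3 | e3 <;> rw [e3] at h23 <;>
      rcases hu with e | e <;> rw [e] at h23 <;> norm_num at h23
  rw [hz2, mul_zero, add_zero] at h23
  refine ⟨hk2, hk3, hz3, hz2, p, q, hpq, hrest, ?_⟩
  rw [hrest, sum_pair hpq] at h23
  have hp : p ∈ V.rest := hrest ▸ mem_insert_self p {q}
  have hq : q ∈ V.rest := hrest ▸ mem_insert_of_mem (mem_singleton_self q)
  have hb : ∀ x ∈ V.rest, V.F3.q x = -1 ∨ V.F3.q x = 0 ∨ V.F3.q x = 1 := by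
    intro x hx
    obtain ⟨h0, ho, h2, hc, h1⟩ := V.mem_rest.mp hx
    rcases eq_or_ne (V.F3.q x) 0 with e | e
    · exact Or.inr (Or.inl e)
    have hm : x ∉ V.F3.mem := fun hm => by
      obtain ⟨j, hj⟩ := V.F3.mem_mem.mp hm
      exact h0 (by rw [← hj, V.c32 j, hz3])
    rcases V.swap.rest_unit (V.swap.mem_rest.mpr ⟨e, ho, hm, V.chi_swap.symm ▸ hc, h1⟩) with e' | e'
    exacts [Or.inr (Or.inr e'), Or.inl e']
  have hPQ : V.F2.q p * V.F3.q p + V.F2.q q * V.F3.q q = -2 := by linarith [h23, V.eps_sq]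
  have key : V.F3.q p = -V.F2.q p ∧ V.F3.q q = -V.F2.q q := by
    rcases V.rest_unit hp with e1 | e1 <;> rcases V.rest_unit hq with e2 | e2 <;>
      rw [e1, e2] at hPQ ⊢ <;> rcases hb p hp with e3 | e3 | e3 <;> rcases hb q hq with e4 | e4 | e4 <;>
      constructor <;> omega
  refine ⟨?_, key⟩
  have hmem : ∀ x ∈ V.rest, V.F3.q x = -V.F2.q x → x ∈ V.swap.rest := by
    intro x hx he
    obtain ⟨h0, ho, h2, hc, h1⟩ := V.mem_rest.mp hx
    have hm : x ∉ V.F3.mem := fun hm => by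
      obtain ⟨j, hj⟩ := V.F3.mem_mem.mp hm
      exact h0 (by rw [← hj, V.c32 j, hz3])
    exact V.swap.mem_rest.mpr ⟨fun h => h0 (by rw [show V.F3.q x = 0 from h] at he; linarith),
      ho, hm, V.chi_swap.symm ▸ hc, h1⟩
  refine (Finset.eq_of_subset_of_card_le ?_ (by rw [hrest', card_pair hpq', card_pair hpq])).symm
  intro x hx
  rcases mem_insert.mp hx with rfl | hx
  · exact hmem _ hp key.1
  · rw [mem_singleton] at hx; exact hx ▸ hmem _ hq key.2

/-- The classification. -/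
theorem shapes : V.ShapeA ∨ V.ShapeB' ∨ V.ShapeB ∨ V.swap.ShapeB' ∨ V.swap.ShapeB := by
  by_cases hk2 : V.k = 0
  · by_cases hk3 : V.swap.k = 0
    · exact Or.inl (V.shapeA hk2 hk3)
    · rcases V.shapeB_or hk2 hk3 with h | h
      exacts [Or.inr (Or.inl h), Or.inr (Or.inr (Or.inl h))]
  · rcases V.swap.shapeB_or (V.not_both hk2) (show V.swap.swap.k ≠ 0 from hk2) with h | h
    exacts [Or.inr (Or.inr (Or.inr (Or.inl h))), Or.inr (Or.inr (Or.inr (Or.inr h)))]

end VSys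

end Cfsg.Agent.SSCThree
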