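import Cfsg.Agent.Lib.SSCThree.Sys
import Cfsg.Agent.Lib.Char.GaloisRat
import Cfsg.Agent.Lib.Char.OddIndexReal

/-!
# Columns of the character table outside the three subgroups
-/

set_option autoImplicit false
set_option linter.unusedSectionVars false
set_option linter.style.haveILetI false

namespace Cfsg.Agent.SSCThree

open Subgroup Cfsg.Agent.Char Finset
open scoped Classical ComplexConjugate

universe u

variable {G : Type u} [Group G] [Fintype G]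

noncomputable local instance (priority := 10000) decEqIrr : DecidableEq (Cfsg.IrrCharacter G) :=
  fun a b => Classical.propDecidable (a = b)

theorem nuZ_principal : ZassSuz.nuZ (principal G) = 1 := by
  have h : ZassSuz.nu (principal G) = 1 := by
    simp [ZassSuz.nu, principal, Nat.card_eq_fintype_card]
  rw [ZassSuz.nuZ, if_pos h]

/-- An element conjugate to its powers prime to its order has integral character values. -/
theorem exists_int_value {x : G} (h : ∀ k : ℕ, k.Coprime (orderOf x) → IsConj x (x ^ k))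
    (χ : Cfsg.IrrCharacter G) : ∃ v : ℤ, (χ : G → ℂ) x = v := by
  have hχ := IsIrrCharacter.isCharacter χ.2
  obtain ⟨q, hq⟩ := CharGalois.eq_rat_of_fixed (IsCharacter.isIntegral hχ x) fun σ => by
    obtain ⟨k, hk, hσ⟩ := CharGalois.exists_exponent σ.toRingHom (n := Nat.card G) Nat.card_pos.ne'
    have h1 := CharGalois.map_char hχ σ.toRingHom hσ x
    refine h1.trans ?_
    exact (isClassFunction_iff.mp (char_class χ) _ _
      (h k (hk.coprime_dvd_right (orderOf_dvd_natCard x)))).symm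
  obtain ⟨n, rfl⟩ := Char.exists_int_of_isIntegral (q := q) (hq ▸ IsCharacter.isIntegral hχ x)
  exact ⟨n, by rw [hq]; push_cast; rfl⟩

namespace Sys

variable (S : Sys G)

/-- The family of the first subgroup. -/
noncomputable def fam₁ : Fam S.A 2 :=
  (exists_fam S.hA (by have h : 5 ≤ Nat.card S.A := S.n₁_ge; omega)).some

/-- The family of the second subgroup. -/
noncomputable def fam₂ : Fam S.B 4 :=
  (exists_fam S.hB (by have h : 9 ≤ Nat.card S.B := S.n₂_ge; omega)).some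

/-- The family of the third subgroup. -/
noncomputable def fam₃ : Fam S.C 4 :=
  (exists_fam S.hC (by have h : 9 ≤ Nat.card S.C := S.n₃_ge; omega)).some

end Sys

/-- The integral data of a family. -/
noncomputable def Fam.toVFam {A : Subgroup G} {e : ℕ} (F : Fam A e) (hA : SSC A e) :
    VFam (principal G) ZassSuz.nuZ dg e where
  K := F.K
  two_le := F.two_le
  μ := F.μ
  inj := F.inj
  ne_o := F.ne_principal hA
  ε := F.ε
  eps := F.eps
  a := F.a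
  a_two := F.a_two
  q := F.q
  q_o := F.q_principal
  norm := F.norm
  q_zero := F.q_zero
  q_pos := F.q_pos
  q_nu := F.sum_q_nu hA
  q_d := F.sum_dg hA
  nu_eq := F.nu_eq hA
  nu_unit := F.nu_unit hA _
  d_eq := F.dg_eq hA

namespace Sys

variable (S : Sys G)

/-- The three families with their relations. -/
noncomputable def V : VSys (principal G) (ZassSuz.nuZ : Cfsg.IrrCharacter G → ℤ) dg where
  F1 := S.fam₁.toVFam S.hA
  F2 := S.fam₂.toVFam S.hB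
  F3 := S.fam₃.toVFam S.hC
  nu_o := nuZ_principal
  d_o := dg_principal
  d_pos := dg_pos
  nu_le := ZassSuz.nuZ_abs
  K_ne := fun h => S.n₂_ne_n₃ (by
    have h1 := S.fam₂.card_eq
    have h2 := S.fam₃.card_eq
    change S.fam₂.K = S.fam₃.K at h
    rw [h] at h1
    exact h1.symm.trans h2)
  dis12 := S.fam₁.disjoint S.hA S.hB S.AB S.fam₂
  dis13 := S.fam₁.disjoint S.hA S.hC S.AC S.fam₃
  dis23 := S.fam₂.disjoint S.hB S.hC S.BC S.fam₃
  c12 := S.fam₁.q_const S.hA S.hB S.AB S.fam₂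
  c13 := S.fam₁.q_const S.hA S.hC S.AC S.fam₃
  c21 := S.fam₂.q_const S.hB S.hA (map_conj_ne_symm S.AB) S.fam₁
  c31 := S.fam₃.q_const S.hC S.hA (map_conj_ne_symm S.AC) S.fam₁
  c23 := S.fam₂.q_const S.hB S.hC S.BC S.fam₃
  c32 := S.fam₃.q_const S.hC S.hB (map_conj_ne_symm S.BC) S.fam₂
  o12 := S.fam₁.q_orth S.hA S.hB S.AB S.fam₂
  o13 := S.fam₁.q_orth S.hA S.hC S.AC S.fam₃
  o23 := S.fam₂.q_orth S.hB S.hC S.BC S.fam₃

theorem K1_eq : S.V.F1.K * 2 + 1 = S.n₁ := S.fam₁.card_eq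
theorem K2_eq : S.V.F2.K * 4 + 1 = S.n₂ := S.fam₂.card_eq
theorem K3_eq : S.V.F3.K * 4 + 1 = S.n₃ := S.fam₃.card_eq

theorem dvd₁ {χ : Cfsg.IrrCharacter G} (h : χ ∉ S.V.F1.mem) : (S.n₁ : ℤ) ∣ dg χ - S.V.F1.q χ :=
  S.fam₁.dvd χ fun j e => h (S.V.F1.mem_mem.mpr ⟨j, e.symm⟩)

theorem dvd₂ {χ : Cfsg.IrrCharacter G} (h : χ ∉ S.V.F2.mem) : (S.n₂ : ℤ) ∣ dg χ - S.V.F2.q χ :=
  S.fam₂.dvd χ fun j e => h (S.V.F2.mem_mem.mpr ⟨j, e.symm⟩)

theorem dvd₃ {χ : Cfsg.IrrCharacter G} (h : χ ∉ S.V.F3.mem) : (S.n₃ : ℤ) ∣ dg χ - S.V.F3.q χ :=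
  S.fam₃.dvd χ fun j e => h (S.V.F3.mem_mem.mpr ⟨j, e.symm⟩)

/-- The characters with no coefficient at all. -/
noncomputable def others : Finset (Cfsg.IrrCharacter G) :=
  univ.filter fun χ => χ ≠ principal G ∧ χ ∉ S.V.F1.mem ∧ χ ∉ S.V.F2.mem ∧ χ ∉ S.V.F3.mem ∧
    S.V.F1.q χ = 0 ∧ S.V.F2.q χ = 0 ∧ S.V.F3.q χ = 0

/-- The remaining named characters. -/
noncomputable def named : Finset (Cfsg.IrrCharacter G) :=
  insert S.V.chi (S.V.rest \ S.V.F3.mem ∪ S.V.swap.rest \ S.V.F2.mem)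

theorem mem_others {χ : Cfsg.IrrCharacter G} : χ ∈ S.others ↔ χ ≠ principal G ∧ χ ∉ S.V.F1.mem ∧
    χ ∉ S.V.F2.mem ∧ χ ∉ S.V.F3.mem ∧ S.V.F1.q χ = 0 ∧ S.V.F2.q χ = 0 ∧ S.V.F3.q χ = 0 := by
  simp [others]

theorem chi_not_mem3 : S.V.chi ∉ S.V.F3.mem := by
  have := S.V.swap.chi_not_mem2
  rwa [S.V.chi_swap] at this

theorem mem_named {χ : Cfsg.IrrCharacter G} : χ ∈ S.named ↔
    χ ≠ principal G ∧ χ ∉ S.V.F1.mem ∧ χ ∉ S.V.F2.mem ∧ χ ∉ S.V.F3.mem ∧ χ ∉ S.others := by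
  constructor
  · intro h
    rcases mem_insert.mp h with rfl | h
    · refine ⟨S.V.chi_ne_o, S.V.chi_not_mem1, S.V.chi_not_mem2, S.chi_not_mem3, fun h => ?_⟩
      have h' := (S.mem_others.mp h).2.2.2.2.1
      rw [S.V.q1_chi] at h'
      rcases S.V.F1.eps with e | e <;> rw [e] at h' <;> norm_num at h'
    rcases mem_union.mp h with h | h
    · obtain ⟨hr, h3⟩ := mem_sdiff.mp h
      obtain ⟨h0, ho, h2, -, h1⟩ := S.V.mem_rest.mp hr
      exact ⟨ho, h1, h2, h3, fun h => h0 (S.mem_others.mp h).2.2.2.2.2.1⟩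
    · obtain ⟨hr, h2⟩ := mem_sdiff.mp h
      obtain ⟨h0, ho, h3, -, h1⟩ := S.V.swap.mem_rest.mp hr
      exact ⟨ho, h1, h2, h3, fun h => h0 (S.mem_others.mp h).2.2.2.2.2.2⟩
  · rintro ⟨ho, h1, h2, h3, hL⟩
    by_cases hc : χ = S.V.chi
    · exact hc ▸ mem_insert_self _ _
    refine mem_insert_of_mem ?_
    have hq1 : S.V.F1.q χ = 0 :=
      S.V.F1.q_eq_zero ho h1 (by rw [S.V.supp1, mem_singleton]; exact hc)
    rw [S.mem_others] at hL
    by_cases hq2 : S.V.F2.q χ = 0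
    · by_cases hq3 : S.V.F3.q χ = 0
      · exact absurd ⟨ho, h1, h2, h3, hq1, hq2, hq3⟩ hL
      · exact mem_union_right _ (mem_sdiff.mpr
          ⟨S.V.swap.mem_rest.mpr ⟨hq3, ho, h3, S.V.chi_swap.symm ▸ hc, h1⟩, h2⟩)
    · exact mem_union_left _ (mem_sdiff.mpr ⟨S.V.mem_rest.mpr ⟨hq2, ho, h2, hc, h1⟩, h3⟩)

theorem partition {M : Type*} [AddCommMonoid M] (g : Cfsg.IrrCharacter G → M) :
    ∑ χ, g χ = g (principal G) + ∑ χ ∈ S.V.F1.mem, g χ + ∑ χ ∈ S.V.F2.mem, g χ + ∑ χ ∈ S.V.F3.mem, g χ +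
      ∑ χ ∈ S.named, g χ + ∑ χ ∈ S.others, g χ := by
  have hd12 : Disjoint S.V.F1.mem S.V.F2.mem := disjoint_left.mpr fun x h1 h2 => by
    obtain ⟨i, rfl⟩ := S.V.F1.mem_mem.mp h1
    obtain ⟨j, hj⟩ := S.V.F2.mem_mem.mp h2
    exact S.V.dis12 i j hj.symm
  have hd13 : Disjoint S.V.F1.mem S.V.F3.mem := disjoint_left.mpr fun x h1 h2 => by
    obtain ⟨i, rfl⟩ := S.V.F1.mem_mem.mp h1
    obtain ⟨j, hj⟩ := S.V.F3.mem_mem.mp h2
    exact S.V.dis13 i j hj.symm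
  have hd23 : Disjoint S.V.F2.mem S.V.F3.mem := disjoint_left.mpr fun x h1 h2 => by
    obtain ⟨i, rfl⟩ := S.V.F2.mem_mem.mp h1
    obtain ⟨j, hj⟩ := S.V.F3.mem_mem.mp h2
    exact S.V.dis23 i j hj.symm
  have hu : (univ : Finset (Cfsg.IrrCharacter G)) =
      ((({principal G} ∪ S.V.F1.mem) ∪ S.V.F2.mem) ∪ S.V.F3.mem) ∪ S.named ∪ S.others := by
    ext χ
    simp only [mem_univ, mem_union, mem_singleton, true_iff, S.mem_named]
    tauto
  rw [hu, sum_union, sum_union, sum_union, sum_union, sum_union, sum_singleton]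
  · rw [disjoint_singleton_left]; exact S.V.F1.o_not_mem
  · exact disjoint_union_left.mpr ⟨disjoint_singleton_left.mpr S.V.F2.o_not_mem, hd12⟩
  · exact disjoint_union_left.mpr
      ⟨disjoint_union_left.mpr ⟨disjoint_singleton_left.mpr S.V.F3.o_not_mem, hd13⟩, hd23⟩
  · refine disjoint_right.mpr fun x hx h => ?_
    obtain ⟨ho, h1, h2, h3, -⟩ := S.mem_named.mp hx
    simp only [mem_union, mem_singleton] at h
    tauto
  · refine disjoint_right.mpr fun x hx h => ?_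
    obtain ⟨ho, h1, h2, h3, -⟩ := S.mem_others.mp hx
    simp only [mem_union, mem_singleton] at h
    rcases h with h | h
    · tauto
    · exact (S.mem_named.mp h).2.2.2.2 hx

theorem card_extra : S.extra.card = S.named.card + S.others.card := by
  have h1 := S.card_classes
  have hc : Fintype.card (Cfsg.IrrCharacter G) = Fintype.card (ConjClasses G) := by
    rw [← Nat.card_eq_fintype_card, card_irrCharacter, Nat.card_eq_fintype_card]
  have h2 := S.partition (M := ℕ) (fun _ => 1)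
  simp only [sum_const, smul_eq_mul, mul_one, card_univ, VFam.card_mem] at h2
  have k1 : (cls S.A).card = S.V.F1.K := by
    have := card_cls S.hA
    have h : Nat.card S.A = S.n₁ := rfl
    have := S.K1_eq
    omega
  have k2 : (cls S.B).card = S.V.F2.K := by
    have := card_cls S.hB
    have h : Nat.card S.B = S.n₂ := rfl
    have := S.K2_eq
    omega
  have k3 : (cls S.C).card = S.V.F3.K := by
    have := card_cls S.hC
    have h : Nat.card S.C = S.n₃ := rfl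
    have := S.K3_eq
    omega
  omega

theorem others_dvd {χ : Cfsg.IrrCharacter G} (h : χ ∈ S.others) : (S.N : ℤ) ∣ dg χ := by
  obtain ⟨-, h1, h2, h3, q1, q2, q3⟩ := S.mem_others.mp h
  have e1 := S.dvd₁ h1
  have e2 := S.dvd₂ h2
  have e3 := S.dvd₃ h3
  rw [q1, sub_zero, dg, Int.natCast_dvd_natCast] at e1
  rw [q2, sub_zero, dg, Int.natCast_dvd_natCast] at e2
  rw [q3, sub_zero, dg, Int.natCast_dvd_natCast] at e3
  rw [dg, Int.natCast_dvd_natCast]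
  exact (S.cop13.mul_left S.cop23).mul_dvd_of_dvd_of_dvd (S.cop12.mul_dvd_of_dvd_of_dvd e1 e2) e3

theorem sum_dg_sq : ∑ χ : Cfsg.IrrCharacter G, dg χ ^ 2 = ((S.N * S.h : ℕ) : ℤ) := by
  have h := sum_sq_degree (G := G)
  simp only [← dg_cast] at h
  rw [← S.N_mul_h] at h
  exact_mod_cast h

theorem others_bound : (S.others.card : ℤ) * S.N ^ 2 + 1 + ∑ χ ∈ S.named, dg χ ^ 2 +
    S.V.F1.K * dg (S.V.F1.μ S.V.F1.z) ^ 2 ≤ (S.N : ℤ) * S.h := by
  have h := S.partition (M := ℤ) (fun χ => dg χ ^ 2)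
  rw [S.sum_dg_sq, dg_principal, S.V.F1.sum_mem_const (c := dg (S.V.F1.μ S.V.F1.z) ^ 2)
    (fun j => by rw [S.V.F1.d_eq]; rfl)] at h
  have hL : (S.others.card : ℤ) * S.N ^ 2 ≤ ∑ χ ∈ S.others, dg χ ^ 2 := by
    rw [← nsmul_eq_mul, ← Finset.sum_const]
    refine Finset.sum_le_sum fun χ hχ => ?_
    exact pow_le_pow_left₀ (by positivity) (Int.le_of_dvd (dg_pos χ) (S.others_dvd hχ)) 2
  have h2 : 0 ≤ ∑ χ ∈ S.V.F2.mem, dg χ ^ 2 := Finset.sum_nonneg fun _ _ => sq_nonneg _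
  have h3 : 0 ≤ ∑ χ ∈ S.V.F3.mem, dg χ ^ 2 := Finset.sum_nonneg fun _ _ => sq_nonneg _
  push_cast at h
  linarith

theorem others_lt_h : S.others.card * S.N < S.h := by
  have h := S.others_bound
  have h1 : 0 ≤ ∑ χ ∈ S.named, dg χ ^ 2 := Finset.sum_nonneg fun _ _ => sq_nonneg _
  have h2 : (0 : ℤ) ≤ S.V.F1.K * dg (S.V.F1.μ S.V.F1.z) ^ 2 := by positivity
  have h3 : (((S.others.card * S.N) * S.N : ℕ) : ℤ) < ((S.h * S.N : ℕ) : ℤ) := by push_cast; nlinarith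
  exact Nat.lt_of_mul_lt_mul_right (by exact_mod_cast h3)

theorem others_le_two : S.others.card ≤ 2 := by
  by_contra h
  have := Nat.mul_le_mul_right S.N (show 3 ≤ S.others.card by omega)
  have := S.others_lt_h
  have := S.h_le
  omega

/-! ### Admissible integral vectors -/

/-- An integral vector satisfying the relations of a column outside the three subgroups. -/
structure Adm (g : Cfsg.IrrCharacter G → ℤ) : Prop where
  g_one : g (principal G) = 1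
  const₁ : ∀ j, g (S.V.F1.μ j) = g (S.V.F1.μ S.V.F1.z)
  const₂ : ∀ j, g (S.V.F2.μ j) = g (S.V.F2.μ S.V.F2.z)
  const₃ : ∀ j, g (S.V.F3.μ j) = g (S.V.F3.μ S.V.F3.z)
  rel₁ : ∑ χ, S.V.F1.q χ * g χ = 0
  rel₂ : ∑ χ, S.V.F2.q χ * g χ = 0
  rel₃ : ∑ χ, S.V.F3.q χ * g χ = 0

theorem adm_dg : S.Adm dg where
  g_one := dg_principal
  const₁ := S.V.F1.d_eq
  const₂ := S.V.F2.d_eq
  const₃ := S.V.F3.d_eq
  rel₁ := S.V.F1.q_d
  rel₂ := S.V.F2.q_d
  rel₃ := S.V.F3.q_d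

theorem adm_col {x : G} (hx : S.Off x) {v : Cfsg.IrrCharacter G → ℤ}
    (hv : ∀ χ : Cfsg.IrrCharacter G, (χ : G → ℂ) x = v χ) : S.Adm v := by
  have hagree : ∀ {A : Subgroup G} {e : ℕ} (F : Fam A e), SSC A e → ¬ SSC.InConj A x → ∀ j,
      v (F.μ j) = v (F.μ F.z) := fun F hA hn j => by
    have h := F.agree hA hn j
    rw [hv, hv] at h
    exact_mod_cast h
  have hrel : ∀ {A : Subgroup G} {e : ℕ} (F : Fam A e), SSC A e → ¬ SSC.InConj A x →
      ∑ χ, F.q χ * v χ = 0 := fun F hA hn => by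
    have h := F.sum_off hA hn
    simp only [hv] at h
    exact_mod_cast h
  refine ⟨?_, hagree S.fam₁ S.hA hx.1, hagree S.fam₂ S.hB hx.2.1, hagree S.fam₃ S.hC hx.2.2,
    hrel S.fam₁ S.hA hx.1, hrel S.fam₂ S.hB hx.2.1, hrel S.fam₃ S.hC hx.2.2⟩
  have h := hv (principal G)
  simp only [principal] at h
  exact_mod_cast h.symm

theorem exists_col {x : G} (hx : S.Off x) (h : ∀ k : ℕ, k.Coprime (orderOf x) → IsConj x (x ^ k)) :
    ∃ v : Cfsg.IrrCharacter G → ℤ, (∀ χ : Cfsg.IrrCharacter G, (χ : G → ℂ) x = v χ) ∧ S.Adm v := by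
  choose v hv using exists_int_value h
  exact ⟨v, hv, S.adm_col hx hv⟩

/-- The value on the first extra character, signed. -/
noncomputable def X (g : Cfsg.IrrCharacter G → ℤ) : ℤ := S.V.F1.ε * g S.V.chi

/-- The value on the second family, signed. -/
noncomputable def T₂ (g : Cfsg.IrrCharacter G → ℤ) : ℤ := S.V.F2.ε * g (S.V.F2.μ S.V.F2.z)

/-- The value on the third family, signed. -/
noncomputable def T₃ (g : Cfsg.IrrCharacter G → ℤ) : ℤ := S.V.F3.ε * g (S.V.F3.μ S.V.F3.z)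

theorem fam1_val {g : Cfsg.IrrCharacter G → ℤ} (hg : S.Adm g) :
    S.V.F1.ε * g (S.V.F1.μ S.V.F1.z) = 1 + S.X g := by
  have h := S.V.F1.split g
  rw [hg.rel₁, hg.g_one, S.V.F1.sum_q_mem (c := g (S.V.F1.μ S.V.F1.z)) hg.const₁, S.V.supp1,
    sum_singleton, S.V.q1_chi, S.V.a1] at h
  simp only [mul_zero, zero_sub] at h
  unfold X
  linarith

theorem fam2_val {g : Cfsg.IrrCharacter G → ℤ} (hg : S.Adm g) :
    S.T₂ g = 1 + S.V.k * (S.V.F1.K * g (S.V.F1.μ S.V.F1.z)) + S.V.c * g S.V.chi +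
      ∑ χ ∈ S.V.rest, S.V.F2.q χ * g χ := by
  have h := S.V.F2.split g
  rw [hg.rel₂, hg.g_one, S.V.F2.sum_q_mem (c := g (S.V.F2.μ S.V.F2.z)) hg.const₂, S.V.split_supp,
    S.V.F1.sum_mem_const (c := g (S.V.F1.μ S.V.F1.z)) hg.const₁, S.V.a2_zero] at h
  simp only [mul_zero, zero_sub] at h
  unfold T₂
  linarith

theorem fam3_val {g : Cfsg.IrrCharacter G → ℤ} (hg : S.Adm g) :
    S.T₃ g = 1 + S.V.swap.k * (S.V.F1.K * g (S.V.F1.μ S.V.F1.z)) + S.V.swap.c * g S.V.chi +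
      ∑ χ ∈ S.V.swap.rest, S.V.F3.q χ * g χ := by
  have h := S.V.F3.split g
  have h' := S.V.swap.split_supp g
  rw [show S.V.swap.F2 = S.V.F3 from rfl, show S.V.swap.F1 = S.V.F1 from rfl,
    S.V.F1.sum_mem_const (c := g (S.V.F1.μ S.V.F1.z)) hg.const₁, S.V.chi_swap] at h'
  have ha : S.V.F3.a = 0 := S.V.swap.a2_zero
  rw [hg.rel₃, hg.g_one, S.V.F3.sum_q_mem (c := g (S.V.F3.μ S.V.F3.z)) hg.const₃, h', ha] at h
  simp only [mul_zero, zero_sub] at h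
  unfold T₃
  linarith

theorem inner_formula {g g' : Cfsg.IrrCharacter G → ℤ} (hg : S.Adm g) (hg' : S.Adm g') :
    ∑ χ, g χ * g' χ = 1 + S.V.F1.K * ((1 + S.X g) * (1 + S.X g')) + S.V.F2.K * (S.T₂ g * S.T₂ g') +
      S.V.F3.K * (S.T₃ g * S.T₃ g') + ∑ χ ∈ S.named, g χ * g' χ + ∑ χ ∈ S.others, g χ * g' χ := by
  have h := S.partition (M := ℤ) (fun χ => g χ * g' χ)
  rw [S.V.F1.sum_mem_const (c := g (S.V.F1.μ S.V.F1.z) * g' (S.V.F1.μ S.V.F1.z))
      (fun j => by rw [hg.const₁, hg'.const₁]),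
    S.V.F2.sum_mem_const (c := g (S.V.F2.μ S.V.F2.z) * g' (S.V.F2.μ S.V.F2.z))
      (fun j => by rw [hg.const₂, hg'.const₂]),
    S.V.F3.sum_mem_const (c := g (S.V.F3.μ S.V.F3.z) * g' (S.V.F3.μ S.V.F3.z))
      (fun j => by rw [hg.const₃, hg'.const₃]), hg.g_one, hg'.g_one] at h
  rw [h, ← S.fam1_val hg, ← S.fam1_val hg']
  unfold T₂ T₃
  rcases S.V.F1.eps with e1 | e1 <;> rcases S.V.F2.eps with e2 | e2 <;>
    rcases S.V.F3.eps with e3 | e3 <;> rw [e1, e2, e3] <;> ring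

/-- The indicator sum. -/
theorem nu_formula {g : Cfsg.IrrCharacter G → ℤ} (hg : S.Adm g) :
    ∑ χ, ZassSuz.nuZ χ * g χ = 1 +
      S.V.F1.ε * ZassSuz.nuZ (S.V.F1.μ S.V.F1.z) * (S.V.F1.K * (1 + S.X g)) +
      S.V.F2.ε * ZassSuz.nuZ (S.V.F2.μ S.V.F2.z) * (S.V.F2.K * S.T₂ g) +
      S.V.F3.ε * ZassSuz.nuZ (S.V.F3.μ S.V.F3.z) * (S.V.F3.K * S.T₃ g) +
      ∑ χ ∈ S.named, ZassSuz.nuZ χ * g χ + ∑ χ ∈ S.others, ZassSuz.nuZ χ * g χ := by
  have h := S.partition (M := ℤ) (fun χ => ZassSuz.nuZ χ * g χ)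
  rw [S.V.F1.sum_mem_const (c := ZassSuz.nuZ (S.V.F1.μ S.V.F1.z) * g (S.V.F1.μ S.V.F1.z))
      (fun j => by rw [hg.const₁, S.V.F1.nu_eq]; rfl),
    S.V.F2.sum_mem_const (c := ZassSuz.nuZ (S.V.F2.μ S.V.F2.z) * g (S.V.F2.μ S.V.F2.z))
      (fun j => by rw [hg.const₂, S.V.F2.nu_eq]; rfl),
    S.V.F3.sum_mem_const (c := ZassSuz.nuZ (S.V.F3.μ S.V.F3.z) * g (S.V.F3.μ S.V.F3.z))
      (fun j => by rw [hg.const₃, S.V.F3.nu_eq]; rfl), hg.g_one, nuZ_principal] at h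
  rw [h, ← S.fam1_val hg]
  unfold T₂ T₃
  rcases S.V.F1.eps with e1 | e1 <;> rcases S.V.F2.eps with e2 | e2 <;>
    rcases S.V.F3.eps with e3 | e3 <;> rw [e1, e2, e3] <;> ring

theorem col_norm {x : G} {v : Cfsg.IrrCharacter G → ℤ} (hv : ∀ χ : Cfsg.IrrCharacter G, (χ : G → ℂ) x = v χ) :
    ∑ χ, v χ * v χ = (Nat.card (centralizer ({x} : Set G)) : ℤ) := by
  have h := column_orth_of_isConj (IsConj.refl x)
  simp only [hv, map_intCast] at h
  exact_mod_cast h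

theorem col_orth {x y : G} (hxy : ¬ IsConj x y) {v w : Cfsg.IrrCharacter G → ℤ}
    (hv : ∀ χ : Cfsg.IrrCharacter G, (χ : G → ℂ) x = v χ)
    (hw : ∀ χ : Cfsg.IrrCharacter G, (χ : G → ℂ) y = w χ) : ∑ χ, v χ * w χ = 0 := by
  have h := column_orth_of_not_isConj hxy
  simp only [hv, hw, map_intCast] at h
  exact_mod_cast h

theorem col_roots {x : G} {v : Cfsg.IrrCharacter G → ℤ} (hv : ∀ χ : Cfsg.IrrCharacter G, (χ : G → ℂ) x = v χ) :
    ∑ χ, ZassSuz.nuZ χ * v χ = (Nat.card {s : G // s * s = x} : ℤ) := by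
  have h := OddIndexReal.sum_nu_mul x
  have e : ∀ χ : Cfsg.IrrCharacter G,
      OddIndexReal.nu (χ : G → ℂ) * conj ((χ : G → ℂ) x) = ((ZassSuz.nuZ χ * v χ : ℤ) : ℂ) := fun χ => by
    rw [show OddIndexReal.nu (χ : G → ℂ) = ZassSuz.nu χ from rfl, ← ZassSuz.nuZ_cast, hv, map_intCast]
    push_cast
    rfl
  simp only [e] at h
  exact_mod_cast h

/-! ### The first subgroup counts pairs of involutions -/

/-- The signed degree of the first extra character. -/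
noncomputable def Xd : ℤ := S.X dg

theorem Y_pos : 0 < S.V.F1.ε * (1 + S.Xd) := by
  rw [Xd, ← S.fam1_val S.adm_dg, ← mul_assoc]
  rcases S.V.F1.eps with e | e <;> rw [e] <;> simpa using dg_pos (S.V.F1.μ S.V.F1.z)

theorem X_pos : 0 < S.V.F1.ε * S.Xd := by
  rw [Xd, X, ← mul_assoc]
  rcases S.V.F1.eps with e | e <;> rw [e] <;> simpa using dg_pos S.V.chi

theorem XY_pos : 0 < S.Xd * (1 + S.Xd) := by
  have h1 := S.X_pos
  have h2 := S.Y_pos
  rcases S.V.F1.eps with e | e <;> rw [e] at h1 h2 <;> nlinarith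

theorem Xd_mod₁ : (S.n₁ : ℤ) ∣ S.Xd - 1 := by
  have h := S.dvd₁ S.V.chi_not_mem1
  rw [S.V.q1_chi] at h
  have h' := h.mul_left S.V.F1.ε
  have he : S.V.F1.ε * (dg S.V.chi - S.V.F1.ε) = S.Xd - 1 := by
    rcases S.V.F1.eps with e | e <;> simp only [Xd, X, e] <;> ring
  rwa [he] at h'

theorem Xd_mod₂ (hk : S.V.k = 0) : (S.n₂ : ℤ) ∣ 1 + S.Xd := by
  have hc : S.V.c = -S.V.F1.ε := (S.V.two_rest hk).1
  have h := (S.dvd₂ S.V.chi_not_mem2).mul_left S.V.F1.ε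
  rw [show S.V.F2.q S.V.chi = -S.V.F1.ε from hc] at h
  have he : S.V.F1.ε * (dg S.V.chi - -S.V.F1.ε) = 1 + S.Xd := by
    rcases S.V.F1.eps with e | e <;> simp only [Xd, X, e] <;> ring
  rwa [he] at h

theorem Xd_mod₃ (hk : S.V.swap.k = 0) : (S.n₃ : ℤ) ∣ 1 + S.Xd := by
  have hc : S.V.swap.c = -S.V.F1.ε := (S.V.swap.two_rest hk).1
  have h := (S.dvd₃ S.chi_not_mem3).mul_left S.V.F1.ε
  have hq : S.V.F3.q S.V.chi = -S.V.F1.ε := by
    rw [← hc, VSys.c, S.V.chi_swap]; rfl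
  rw [hq] at h
  have he : S.V.F1.ε * (dg S.V.chi - -S.V.F1.ε) = 1 + S.Xd := by
    rcases S.V.F1.eps with e | e <;> simp only [Xd, X, e] <;> ring
  rwa [he] at h

theorem Xd_mod₃' (hk : S.V.swap.k ≠ 0) : (S.n₃ : ℤ) ∣ S.Xd := by
  have hc : S.V.swap.c = 0 := (S.V.swap.K1_two hk).2.2.1
  have h := (S.dvd₃ S.chi_not_mem3).mul_left S.V.F1.ε
  have hq : S.V.F3.q S.V.chi = 0 := by rw [← hc, VSys.c, S.V.chi_swap]; rfl
  rw [hq, sub_zero] at h
  exact h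

theorem sum_q1_mul (w : Cfsg.IrrCharacter G → ℂ) :
    ∑ χ, (S.fam₁.q χ : ℂ) * w χ = w (principal G) - (S.V.F1.ε : ℂ) * w (S.V.F1.μ S.V.F1.z) +
      (S.V.F1.ε : ℂ) * w S.V.chi := by
  show ∑ χ, (S.V.F1.q χ : ℂ) * w χ = _
  have hne1 : principal G ≠ S.V.F1.μ S.V.F1.z := (S.V.F1.ne_o _).symm
  have hne2 : principal G ≠ S.V.chi := S.V.chi_ne_o.symm
  have hne3 : S.V.F1.μ S.V.F1.z ≠ S.V.chi := fun h => S.V.chi_not_mem1 (h ▸ S.V.F1.μ_mem _)
  rw [← Finset.sum_subset (subset_univ {principal G, S.V.F1.μ S.V.F1.z, S.V.chi}) fun χ _ h => ?_]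
  · rw [sum_insert (by simp [hne1, hne2]), sum_insert (by simp [hne3]), sum_singleton, S.V.F1.q_o,
      show S.V.F1.q (S.V.F1.μ S.V.F1.z) = S.V.F1.a - S.V.F1.ε from S.V.F1.q_zero, S.V.a1, S.V.q1_chi]
    push_cast
    ring
  · simp only [mem_insert, mem_singleton, not_or] at h
    obtain ⟨ho, hz, hc⟩ := h
    have : S.V.F1.q χ = 0 := by
      by_cases hm : χ ∈ S.V.F1.mem
      · obtain ⟨j, rfl⟩ := S.V.F1.mem_mem.mp hm
        rw [S.V.F1.q_pos j (fun h0 => hz (congrArg S.V.F1.μ (Fin.ext h0 : j = S.V.F1.z))), S.V.a1]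
      · exact S.V.F1.q_eq_zero ho hm (by rw [S.V.supp1, mem_singleton]; exact hc)
    rw [this, Int.cast_zero, zero_mul]

theorem pair_formula {t : G} (ht : orderOf t = 2) {v : Cfsg.IrrCharacter G → ℤ}
    (hv : ∀ χ : Cfsg.IrrCharacter G, (χ : G → ℂ) t = v χ) :
    ((Nat.card G : ℤ)) * (S.Xd - S.X v) ^ 2 = (Nat.card (centralizer ({t} : Set G)) : ℤ) ^ 2 *
      (if IsConj t S.hA.invol then (S.n₁ : ℤ) else 0) * (S.Xd * (1 + S.Xd)) := by
  have hg := S.adm_col (S.off_of_comm_invol ht rfl) hv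
  have h := S.fam₁.pair_count S.hA ht
  rw [S.sum_q1_mul] at h
  simp only [hv, ← dg_cast] at h
  rw [hg.g_one, dg_principal] at h
  have e1 : (1 + S.X v : ℤ) = S.V.F1.ε * v (S.V.F1.μ S.V.F1.z) := (S.fam1_val hg).symm
  have e2 : (1 + S.Xd : ℤ) = S.V.F1.ε * dg (S.V.F1.μ S.V.F1.z) := (S.fam1_val S.adm_dg).symm
  have hX : (S.Xd : ℂ) ≠ 0 := by
    have := S.X_pos
    intro h0
    rw [Int.cast_eq_zero] at h0
    rw [h0, mul_zero] at this
    omega
  have hY : ((1 + S.Xd : ℤ) : ℂ) ≠ 0 := by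
    have := S.Y_pos
    intro h0
    rw [Int.cast_eq_zero] at h0
    rw [h0, mul_zero] at this
    omega
  set ε : ℤ := S.V.F1.ε with hεdef
  have hε : (ε : ℂ) * ε = 1 := by rcases S.V.F1.eps with e | e <;> rw [hεdef, e] <;> norm_num
  have f1 : (ε : ℂ) * ((v S.V.chi : ℂ) ^ 2 / (dg S.V.chi : ℂ)) = (S.X v : ℂ) ^ 2 / (S.Xd : ℂ) := by
    simp only [X, Xd, ← hεdef]
    push_cast
    rcases S.V.F1.eps with e | e <;> rw [hεdef, e] <;> push_cast <;> ring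
  have f2 : (ε : ℂ) * ((v (S.V.F1.μ S.V.F1.z) : ℂ) ^ 2 / (dg (S.V.F1.μ S.V.F1.z) : ℂ)) =
      ((1 + S.X v : ℤ) : ℂ) ^ 2 / ((1 + S.Xd : ℤ) : ℂ) := by
    rw [e1, e2]
    push_cast
    rcases S.V.F1.eps with e | e <;> rw [hεdef, e] <;> push_cast <;> ring
  rw [f1, f2] at h
  have hidx := (centralizer ({t} : Set G)).index_mul_card
  set c := Nat.card (centralizer ({t} : Set G)) with hc
  set i := (centralizer ({t} : Set G)).index
  have hid : ((1 : ℤ) : ℂ) ^ 2 / ((1 : ℤ) : ℂ) - ((1 + S.X v : ℤ) : ℂ) ^ 2 / ((1 + S.Xd : ℤ) : ℂ) +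
      (S.X v : ℂ) ^ 2 / (S.Xd : ℂ) =
      ((S.Xd : ℂ) - S.X v) ^ 2 / ((S.Xd : ℂ) * ((1 + S.Xd : ℤ) : ℂ)) := by
    field_simp
    push_cast
    ring
  rw [hid, mul_div_assoc', div_eq_iff (mul_ne_zero hX hY), show Nat.card S.A = S.n₁ from rfl] at h
  have h' : (i : ℤ) ^ 2 * (S.Xd - S.X v) ^ 2 =
      (Nat.card G : ℤ) * (if IsConj t S.hA.invol then (S.n₁ : ℤ) else 0) * (S.Xd * (1 + S.Xd)) := by
    have h1 : (((i : ℤ) ^ 2 * (S.Xd - S.X v) ^ 2 : ℤ) : ℂ) = ((((Nat.card G : ℤ) *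
        (if IsConj t S.hA.invol then (S.n₁ : ℤ) else 0) * (S.Xd * (1 + S.Xd))) : ℤ) : ℂ) := by
      push_cast at h ⊢
      convert h using 2
    exact_mod_cast h1
  have hG : (Nat.card G : ℤ) = i * c := by exact_mod_cast hidx.symm
  have hi : (i : ℤ) ≠ 0 := by exact_mod_cast index_ne_zero_of_finite
  refine mul_left_cancel₀ hi ?_
  rw [hG] at h' ⊢
  linear_combination (c : ℤ) * h'

end Sys

end Cfsg.Agent.SSCThree
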