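import Cfsg.Agent.Lib.SSCThree.Local

/-!
# An involution commuting with an element of odd prime order
-/

set_option autoImplicit false
set_option linter.unusedSectionVars false
set_option linter.style.haveILetI false

namespace Cfsg.Agent.SSCThree

open Subgroup
open scoped Classical

universe u

variable {G : Type u} [Group G] [Fintype G]

theorem not_conj_of_order {a b : G} (h : orderOf a ≠ orderOf b) : ¬ IsConj a b := fun hc =>
  h (orderOf_of_isConj hc).symm

theorem ne_one_of_order {a : G} {n : ℕ} (h : orderOf a = n) (hn : 2 ≤ n) : a ≠ 1 := fun h1 => by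
  rw [h1, orderOf_one] at h; omega

theorem order_mul {r : ℕ} {t y : G} (ht : orderOf t = 2) (hr : r.Prime) (hr2 : r ≠ 2) (hy : orderOf y = r)
    (hc : t * y = y * t) : orderOf (t * y) = 2 * r := by
  rw [Commute.orderOf_mul_eq_mul_orderOf_of_coprime hc
    (by rw [ht, hy]; exact (Nat.coprime_primes Nat.prime_two hr).mpr hr2.symm), ht, hy]

theorem order_gen4 {B : Subgroup G} (hB : SSC B 4) : orderOf hB.gen = 4 := by
  haveI : Fact (Nat.Prime 2) := ⟨Nat.prime_two⟩
  refine orderOf_eq_prime_pow (p := 2) (n := 1) (fun h => ?_) hB.gen_pow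
  exact hB.gen_pow_not_mem (k := 2) (by norm_num) (by norm_num) (by
    rw [show hB.gen ^ 2 = 1 by simpa using h]; exact one_mem B)

/-- Elements of an order prime to two, moved together with the involution. -/
theorem conj_in_centralizer {r : ℕ} (hr2 : Nat.Coprime 2 r) {t : G} (ht : orderOf t = 2)
    {x x' : centralizer ({t} : Set G)} (hx : x ^ r = 1) (hx' : x' ^ r = 1)
    (h : IsConj (t * (x : G)) (t * (x' : G))) : IsConj x x' := by
  obtain ⟨g, hg1, hg2⟩ := split_conj hr2 (a := t) (a' := t) (b := (x : G)) (b' := (x' : G))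
    (by rw [← ht]; exact pow_orderOf_eq_one t) (by rw [← ht]; exact pow_orderOf_eq_one t)
    (congrArg Subtype.val hx) (congrArg Subtype.val hx')
    (mem_centralizer_singleton_iff.mp x.2).symm (mem_centralizer_singleton_iff.mp x'.2).symm h
  exact isConj_iff.mpr ⟨⟨g, mem_centralizer_singleton_iff.mpr (mul_inv_eq_iff_eq_mul.mp hg1)⟩,
    Subtype.ext hg2⟩

/-- The centraliser of `b` inside that of `a`. -/
theorem card_cent_in {m n : ℕ} (hmn : Nat.Coprime m n) {a b : G} (ha : a ^ m = 1) (hb : b ^ n = 1)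
    (hc : a * b = b * a) :
    Nat.card (centralizer ({(⟨b, mem_centralizer_singleton_iff.mpr hc.symm⟩ : centralizer ({a} : Set G))} :
      Set (centralizer ({a} : Set G)))) = Nat.card (centralizer ({a * b} : Set G)) := by
  rw [card_centralizer_sub, centralizer_mul_eq hmn ha hb hc]

/-- The same, with the roles exchanged. -/
theorem card_cent_in' {m n : ℕ} (hmn : Nat.Coprime m n) {a b : G} (ha : a ^ m = 1) (hb : b ^ n = 1)
    (hc : a * b = b * a) :
    Nat.card (centralizer ({(⟨a, mem_centralizer_singleton_iff.mpr hc⟩ : centralizer ({b} : Set G))} :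
      Set (centralizer ({b} : Set G)))) = Nat.card (centralizer ({a * b} : Set G)) := by
  rw [card_centralizer_sub, centralizer_mul_eq hmn ha hb hc, inf_comm]

theorem sylow_comm_sub {r : ℕ} [Fact r.Prime] (hab : ∀ P : Sylow r G, IsMulCommutative ↥(P : Subgroup G))
    (H : Subgroup G) (P : Sylow r H) : IsMulCommutative ↥(P : Subgroup H) :=
  ⟨⟨fun a b => Subtype.ext (comm_of_sylow hab P a a.2 b b.2)⟩⟩

/-- The order of the centraliser of the product. -/
theorem cent_prod {r a f d b : ℕ} [Fact r.Prime] (hr2 : r ≠ 2)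
    (hab : ∀ P : Sylow r G, IsMulCommutative ↥(P : Subgroup G)) {t y : G} (ht : orderOf t = 2)
    (hy : orderOf y = r) (hc : t * y = y * t)
    (hX : Nat.card (centralizer ({t} : Set G)) = 2 ^ a * r ^ f)
    (hY : Nat.card (centralizer ({y} : Set G)) = 2 ^ d * r ^ b) :
    ∃ e, 1 ≤ e ∧ e ≤ a ∧ e ≤ d ∧ f ≤ b ∧ Nat.card (centralizer ({t * y} : Set G)) = 2 ^ e * r ^ f := by
  have hr : r.Prime := Fact.out
  have hcop : Nat.Coprime 2 r := (Nat.coprime_primes Nat.prime_two hr).mpr hr2.symm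
  have ht2 : t ^ 2 = 1 := by rw [← ht]; exact pow_orderOf_eq_one t
  have hyr : y ^ r = 1 := by rw [← hy]; exact pow_orderOf_eq_one y
  set Z := centralizer ({t * y} : Set G) with hZ
  have hZ' := centralizer_mul_eq hcop ht2 hyr hc
  have d1 : Nat.card Z ∣ 2 ^ a * r ^ f := hX ▸ card_dvd_of_le (hZ.trans hZ' ▸ inf_le_left)
  have d2 : Nat.card Z ∣ 2 ^ d * r ^ b := hY ▸ card_dvd_of_le (hZ.trans hZ' ▸ inf_le_right)
  obtain ⟨e, g, hg⟩ := eq_two_pow_mul hr (Nat.card_pos (α := Z)).ne' fun p hp hpd => by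
    rcases hp.dvd_mul.mp (hpd.trans d1) with h | h
    · exact Or.inl ((Nat.prime_dvd_prime_iff_eq hp Nat.prime_two).mp (hp.dvd_of_dvd_pow h))
    · exact Or.inr ((Nat.prime_dvd_prime_iff_eq hp hr).mp (hp.dvd_of_dvd_pow h))
  rw [hg] at d1 d2
  obtain ⟨h1, h2⟩ := pow_mul_dvd hr hr2 d1
  obtain ⟨h3, h4⟩ := pow_mul_dvd hr hr2 d2
  have hin := card_cent_in hcop ht2 hyr hc
  have h5 := pow_dvd_centralizer (G := centralizer ({t} : Set G)) (r := r) (b := f)
    (hX ▸ dvd_mul_left _ _) (sylow_comm_sub hab _)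
    (x := ⟨y, mem_centralizer_singleton_iff.mpr hc.symm⟩) (k := 1)
    (Subtype.ext (by simpa using hyr))
  rw [hin, hg] at h5
  have hfg : f ≤ g := (pow_mul_dvd (a := 0) (b := f) (a' := e) (b' := g) hr hr2 (by rw [pow_zero, one_mul]; exact h5)).2
  have he : 1 ≤ e := by
    have h : 2 ∣ 2 ^ e * r ^ g := by
      rw [← hg, ← ht]
      exact Subgroup.orderOf_dvd_natCard _ (hZ.trans hZ' ▸ mem_inf.mpr
        ⟨mem_centralizer_singleton_iff.mpr rfl, mem_centralizer_singleton_iff.mpr hc⟩)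
    exact (pow_mul_dvd (a := 1) (b := 0) (a' := e) (b' := g) hr hr2 (by rw [pow_zero, mul_one, pow_one]; exact h)).1
  exact ⟨e, he, h1, h3, hfg.trans h4, by rw [hg, le_antisymm h2 hfg]⟩

namespace Sys

variable (S : Sys G)

theorem prime_dvd_h {p : ℕ} (hp : p.Prime) (h : p ∣ S.h) : ∃ z : G, orderOf z = p ∧ S.Off z ∧ z ≠ 1 := by
  haveI := Fact.mk hp
  obtain ⟨z, hz⟩ := exists_prime_orderOf_dvd_card' (G := G) p (S.N_mul_h ▸ h.mul_left _)
  exact ⟨z, hz, S.off_of_dvd_h (hz ▸ h), ne_one_of_order hz hp.two_le⟩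

theorem invol_dvd_h {t : G} (ht : orderOf t = 2) : Nat.card (centralizer ({t} : Set G)) ∣ S.h :=
  S.centralizer_dvd_h (S.off_of_comm_invol ht rfl) (ne_one_of_order ht le_rfl)

theorem off_not_conj {x : G} (h : S.Off x) : orderOf x ∣ S.h := S.orderOf_dvd_h h

theorem not_dvd_N {r : ℕ} (hr : r.Prime) (h : r ∣ S.h) : ¬ r ∣ S.n₁ * S.n₂ * S.n₃ := fun h' =>
  hr.one_lt.ne' (Nat.eq_one_of_dvd_coprimes S.cop_N_h h' h)

theorem abelian_of_dvd {r : ℕ} (hr : r.Prime) (hr2 : r ≠ 2) (h : r ∣ S.h) (P : Sylow r G) :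
    IsMulCommutative ↥(P : Subgroup G) :=
  S.abelian r hr hr2 (S.not_dvd_N hr h) P

/-- The common setting: the prime, and the centraliser orders. -/
theorem setting [IsSimpleGroup G] {t y : G} {r : ℕ} (ht : orderOf t = 2) (hr : r.Prime) (hr2 : r ≠ 2)
    (hy : orderOf y = r) (hc : t * y = y * t) :
    r ∣ Nat.card (centralizer ({t} : Set G)) ∧ r ∣ S.h := by
  have h : r ∣ Nat.card (centralizer ({t} : Set G)) :=
    hy ▸ Subgroup.orderOf_dvd_natCard _ (mem_centralizer_singleton_iff.mpr hc.symm)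
  exact ⟨h, h.trans (S.invol_dvd_h ht)⟩

theorem index_parts [IsSimpleGroup G] {t : G} (ht : orderOf t = 2) {r a b a' f : ℕ} (hr : r.Prime)
    (hr2 : r ≠ 2) (hh : S.h = 2 ^ a * r ^ b)
    (hX : Nat.card (centralizer ({t} : Set G)) = 2 ^ a' * r ^ f) : a' = a ∧ f ≤ b := by
  obtain ⟨m, hm⟩ := S.invol_dvd_h ht
  obtain ⟨h1, h2⟩ := pow_mul_dvd hr hr2 (hX ▸ hh ▸ Dvd.intro m hm.symm)
  refine ⟨le_antisymm h1 ?_, h2⟩
  have hodd : Odd m := by
    have hi := S.odd_index ht
    have e : (centralizer ({t} : Set G)).index = S.N * m := by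
      refine Nat.eq_of_mul_eq_mul_left (Nat.card_pos (α := centralizer ({t} : Set G))) ?_
      rw [Subgroup.card_mul_index, ← S.N_mul_h, hm]
      ring
    rw [e, Nat.odd_mul] at hi
    exact hi.2
  have hd : 2 ^ a ∣ 2 ^ a' * r ^ f * m := by rw [← hX, ← hm, hh]; exact dvd_mul_right _ _
  have hcop : Nat.Coprime (2 ^ a) (r ^ f * m) := by
    refine Nat.Coprime.pow_left _ (Nat.prime_two.coprime_iff_not_dvd.mpr fun h => ?_)
    rcases Nat.prime_two.dvd_mul.mp h with h | h
    · exact hr2 ((Nat.prime_dvd_prime_iff_eq Nat.prime_two hr).mp (Nat.prime_two.dvd_of_dvd_pow h)).symm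
    · exact Nat.two_dvd_ne_zero.mpr (Nat.odd_iff.mp hodd) h
  rw [mul_assoc] at hd
  exact (Nat.pow_dvd_pow_iff_le_right (by norm_num)).mp (hcop.dvd_of_dvd_mul_right hd)

end Sys

end Cfsg.Agent.SSCThree
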