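import Cfsg.Agent.Lib.SSCThree.Ind
import Cfsg.Agent.Lib.Char.Isometry
import Cfsg.Agent.Lib.Char.Degree

/-!
# Exceptional characters of a self-centralising subgroup
-/

set_option autoImplicit false
set_option linter.unusedSectionVars false
set_option linter.style.haveILetI false

namespace Cfsg.Agent.SSCThree

open Subgroup Cfsg.Agent.Char
open scoped Classical ComplexConjugate

universe u

variable {G : Type u} [Group G] [Fintype G]

/-- The degree as an integer. -/
noncomputable def dg (χ : Cfsg.IrrCharacter G) : ℤ := (Cfsg.charDegree (χ : G → ℂ) : ℤ)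

theorem dg_cast (χ : Cfsg.IrrCharacter G) : (dg χ : ℂ) = (χ : G → ℂ) 1 := by
  rw [dg, Int.cast_natCast]
  exact (CharX.irr_deg χ).symm

theorem dg_pos (χ : Cfsg.IrrCharacter G) : 0 < dg χ := by
  have := CharX.irr_deg_pos χ
  rw [dg]
  exact_mod_cast this

theorem dg_principal : dg (principal G) = 1 := by
  have h : ((dg (principal G) : ℤ) : ℂ) = ((1 : ℤ) : ℂ) := by rw [dg_cast]; simp [principal]
  exact_mod_cast h

theorem dg_dvd (χ : Cfsg.IrrCharacter G) : dg χ ∣ (Nat.card G : ℤ) :=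
  Int.natCast_dvd_natCast.mpr (CharX.irr_deg_dvd_card χ)

/-- The exceptional family of `A`, with the coefficients `q` of an induced function. -/
structure Fam (A : Subgroup G) (e : ℕ) where
  K : ℕ
  two_le : 2 ≤ K
  card_eq : K * e + 1 = Nat.card A
  μ : Fin K → Cfsg.IrrCharacter G
  inj : Function.Injective μ
  ε : ℤ
  eps : ε = 1 ∨ ε = -1
  a : ℤ
  a_two : K = 2 → a = 0
  φ : A → ℂ
  φ_one : φ 1 = 0
  φ_sum : ∑ x : A, φ x = Nat.card A
  q : Cfsg.IrrCharacter G → ℤ
  inner_q : ∀ χ : Cfsg.IrrCharacter G, Cfsg.classInner φ (fun x : A => (χ : G → ℂ) x) = q χ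
  q_principal : q (principal G) = 1
  norm : ∑ χ, q χ ^ 2 = e + 1
  q_zero : q (μ ⟨0, by omega⟩) = a - ε
  q_pos : ∀ j : Fin K, (j : ℕ) ≠ 0 → q (μ j) = a
  diff : ∀ j : Fin K, ∃ (ψ : A → ℂ) (s : ℂ), ψ 1 = 0 ∧ ∑ x : A, ψ x = 0 ∧ s ≠ 0 ∧
    Cfsg.indFun A ψ = s • ((μ j : G → ℂ) - (μ ⟨0, by omega⟩ : G → ℂ))
  dvd : ∀ χ : Cfsg.IrrCharacter G, (∀ j, χ ≠ μ j) → (Nat.card A : ℤ) ∣ dg χ - q χ

variable {A : Subgroup G} {e : ℕ}

/-- The data before normalising the constant on the family. -/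
theorem exists_raw (hA : SSC A e) (hK : e + 2 ≤ Nat.card A) :
    ∃ K : ℕ, ∃ h2 : 2 ≤ K, K * e + 1 = Nat.card A ∧
    ∃ μ : Fin K → Cfsg.IrrCharacter G, Function.Injective μ ∧ ∃ ε : ℤ, (ε = 1 ∨ ε = -1) ∧
    ∃ φ : Fin K → A → ℂ, ∃ q : Fin K → Cfsg.IrrCharacter G → ℤ,
      (∀ i, φ i 1 = 0 ∧ ∑ x : A, φ i x = Nat.card A ∧ q i (principal G) = 1 ∧ ∑ χ, q i χ ^ 2 = e + 1) ∧
      (∀ i (χ : Cfsg.IrrCharacter G), Cfsg.classInner (φ i) (fun x : A => (χ : G → ℂ) x) = q i χ) ∧
      (∀ j, ∃ (ψ : A → ℂ) (s : ℂ), ψ 1 = 0 ∧ ∑ x : A, ψ x = 0 ∧ s ≠ 0 ∧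
        Cfsg.indFun A ψ = s • ((μ j : G → ℂ) - (μ ⟨0, by omega⟩ : G → ℂ))) ∧
      (∀ j : Fin K, (j : ℕ) ≠ 0 → q ⟨0, by omega⟩ (μ j) = q ⟨0, by omega⟩ (μ ⟨0, by omega⟩) + ε) ∧
      (∀ j : Fin K, (j : ℕ) ≠ 0 → ∀ χ, q j χ =
        q ⟨0, by omega⟩ χ - ε * ((if χ = μ j then 1 else 0) - (if χ = μ ⟨0, by omega⟩ then 1 else 0))) ∧
      (∀ χ, (∀ j, χ ≠ μ j) → (Nat.card A : ℤ) ∣ dg χ - q ⟨0, by omega⟩ χ) := by
  -- orbits of the non-principal linear characters
  set orb : Cfsg.IrrCharacter A → Finset (Cfsg.IrrCharacter A) :=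
    fun l => Finset.univ.image fun k : Fin e => hA.cjL k l with horb
  have hself : ∀ l, l ∈ orb l := fun l =>
    Finset.mem_image.mpr ⟨⟨0, hA.e_pos⟩, Finset.mem_univ _, hA.cjL_zero l⟩
  have hinjk : ∀ l, l ≠ principal A → ∀ k k' : Fin e, hA.cjL k l = hA.cjL k' l → k = k' := by
    intro l hl k k' h
    have h2 := congrArg (hA.cjL (e - k')) h
    have hk' : ((e - (k' : ℕ)) + k') % e = 0 := by rw [Nat.sub_add_cancel k'.2.le, Nat.mod_self]
    rw [hA.cjL_cjL, hA.cjL_cjL, hk', hA.cjL_zero] at h2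
    have h3 := hA.cjL_free (Nat.mod_lt _ hA.e_pos) hl h2
    apply Fin.ext
    have hk := k.2
    have hk2 := k'.2
    rw [Nat.mod_def] at h3
    rcases hA.e_cases with rfl | rfl <;> omega
  have horbcard : ∀ l, l ≠ principal A → (orb l).card = e := fun l hl => by
    rw [horb, Finset.card_image_of_injective _ (fun k k' h => hinjk l hl k k' h), Finset.card_univ,
      Fintype.card_fin]
  have horbeq : ∀ l, l ≠ principal A → ∀ m ∈ orb l, orb m = orb l := by
    intro l hl m hm
    obtain ⟨k, -, rfl⟩ := Finset.mem_image.mp hm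
    refine Finset.eq_of_subset_of_card_le (fun x hx => ?_)
      (by rw [horbcard _ hl, horbcard _ (hA.cjL_ne_principal k hl)])
    obtain ⟨k', -, rfl⟩ := Finset.mem_image.mp hx
    rw [hA.cjL_cjL]
    exact Finset.mem_image.mpr ⟨⟨_, Nat.mod_lt _ hA.e_pos⟩, Finset.mem_univ _, rfl⟩
  set NT : Finset (Cfsg.IrrCharacter A) := Finset.univ.erase (principal A) with hNT
  set O := NT.image orb with hO
  have hNTcard : NT.card + 1 = Nat.card A := by
    rw [hNT, Finset.card_erase_add_one (Finset.mem_univ _), Finset.card_univ, hA.card_lin]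
  have hfib : NT.card = O.card * e := by
    rw [Finset.card_eq_sum_card_fiberwise (t := O) (f := orb)
      (fun x hx => Finset.mem_coe.mpr (Finset.mem_image_of_mem _ (Finset.mem_coe.mp hx)))]
    rw [Finset.sum_congr rfl (g := fun _ => e) fun o ho => ?_, Finset.sum_const, smul_eq_mul]
    obtain ⟨l, hl, rfl⟩ := Finset.mem_image.mp ho
    have hl' := (Finset.mem_erase.mp hl).1
    rw [show (NT.filter fun m => orb m = orb l) = orb l from ?_, horbcard l hl']
    ext m
    simp only [Finset.mem_filter, hNT, Finset.mem_erase, Finset.mem_univ, and_true]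
    refine ⟨fun h => h.2 ▸ hself m, fun h => ⟨?_, horbeq l hl' m h⟩⟩
    obtain ⟨k, -, rfl⟩ := Finset.mem_image.mp h
    exact hA.cjL_ne_principal k hl'
  set K := O.card
  have h2 : 2 ≤ K := by
    by_contra h
    have : K * e ≤ e := by
      calc K * e ≤ 1 * e := Nat.mul_le_mul_right e (by omega)
        _ = e := one_mul e
    omega
  let z : Fin K := ⟨0, by omega⟩
  have hmem : ∀ i : Fin K, ∃ l, l ≠ principal A ∧ orb l = (O.equivFin.symm i : Finset _) := fun i => by
    obtain ⟨l, hl, h⟩ := Finset.mem_image.mp (O.equivFin.symm i).2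
    exact ⟨l, (Finset.mem_erase.mp hl).1, h⟩
  choose r hr1 hr2 using hmem
  have hdist : ∀ i j : Fin K, ∀ k : Fin e, r i = hA.cjL k (r j) → i = j ∧ (k : ℕ) = 0 := by
    intro i j k h
    have he : orb (r i) = orb (r j) := horbeq _ (hr1 j) _ (Finset.mem_image.mpr ⟨k, Finset.mem_univ _, h.symm⟩)
    have hij : i = j := O.equivFin.symm.injective (Subtype.ext (by rw [← hr2, ← hr2, he]))
    subst hij
    exact ⟨rfl, hA.cjL_free k.2 (hr1 i) h.symm⟩
  have hcover : ∀ l, l ≠ principal A → ∃ i : Fin K, ∃ k : Fin e, l = hA.cjL k (r i) := by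
    intro l hl
    set o : O := ⟨orb l, Finset.mem_image_of_mem _ (Finset.mem_erase.mpr ⟨hl, Finset.mem_univ _⟩)⟩
    refine ⟨O.equivFin o, ?_⟩
    have h := hr2 (O.equivFin o)
    rw [O.equivFin.symm_apply_apply] at h
    have : l ∈ orb (r (O.equivFin o)) := h.symm ▸ hself l
    obtain ⟨k, -, hk⟩ := Finset.mem_image.mp this
    exact ⟨k, hk.symm⟩
  -- inner products
  have hW : ∀ i j, Cfsg.classInner (r i : A → ℂ) (hA.orbFun (r j : A → ℂ)) = if i = j then 1 else 0 := by
    intro i j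
    rw [hA.inner_lin_orb]
    split_ifs with h
    · subst h
      rw [Finset.sum_eq_single (⟨0, hA.e_pos⟩ : Fin e)]
      · rw [if_pos (hA.cjL_zero _).symm]
      · intro k _ hk
        rw [if_neg fun h => hk (Fin.ext (hdist i i k h).2)]
      · exact fun h => absurd (Finset.mem_univ _) h
    · exact Finset.sum_eq_zero fun k _ => if_neg fun hk => h (hdist i j k hk).1
  have hW1 : ∀ i, Cfsg.classInner (r i : A → ℂ) (hA.orbFun (principal A : A → ℂ)) = 0 := fun i => by
    rw [hA.inner_lin_orb]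
    exact Finset.sum_eq_zero fun k _ => if_neg (by rw [hA.cjL_principal]; exact hr1 i)
  have hW2 : ∀ i, Cfsg.classInner (principal A : A → ℂ) (hA.orbFun (r i : A → ℂ)) = 0 := fun i => by
    rw [hA.inner_lin_orb]
    exact Finset.sum_eq_zero fun k _ => if_neg fun h => hA.cjL_ne_principal k (hr1 i) h.symm
  have hW3 : Cfsg.classInner (principal A : A → ℂ) (hA.orbFun (principal A : A → ℂ)) = (e : ℂ) := by
    rw [hA.inner_lin_orb]
    simp [hA.cjL_principal]
  set φ : Fin K → A → ℂ := fun i => (principal A : A → ℂ) - (r i : A → ℂ) with hφ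
  set τ : Fin K → A → ℂ := fun j => (r j : A → ℂ) - (r z : A → ℂ) with hτ
  have hφ1 : ∀ i, φ i 1 = 0 := fun i => by simp [hφ, hA.lin_one]
  have hτ1 : ∀ i, τ i 1 = 0 := fun i => by simp [hτ, hA.lin_one]
  have gen_lin : ∀ l : Cfsg.IrrCharacter A, Cfsg.IsGeneralizedCharacter A (l : A → ℂ) := fun l =>
    IsGeneralizedCharacter.of_isCharacter (IsIrrCharacter.isCharacter l.2)
  have genτ : ∀ i, Cfsg.IsGeneralizedCharacter G (Cfsg.indFun A (τ i)) := fun i =>
    IsGeneralizedCharacter.indFun A (IsGeneralizedCharacter.sub (gen_lin _) (gen_lin _))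
  have genφ : ∀ i, Cfsg.IsGeneralizedCharacter G (Cfsg.indFun A (φ i)) := fun i =>
    IsGeneralizedCharacter.indFun A (IsGeneralizedCharacter.sub (gen_lin _) (gen_lin _))
  have hττ : ∀ i j, i ≠ z → j ≠ z →
      Cfsg.classInner (Cfsg.indFun A (τ i)) (Cfsg.indFun A (τ j)) = if i = j then 2 else 1 := by
    intro i j hi hj
    rw [hA.inner_ind _ _ (hτ1 i), hτ]
    simp only [hA.orbFun_sub, classInner_sub_left, classInner_sub_right, hW, if_neg hi, if_neg hj.symm,
      if_true]
    split_ifs <;> ring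
  obtain ⟨εc, hεc, μf, hμirr, hμinj, hμeq⟩ := isometry_lemma z (fun i => Cfsg.indFun A (τ i))
    (by show Cfsg.indFun A (τ z) = 0; rw [show τ z = 0 by simp [hτ], indFun_zero]) genτ
    (fun i => by show Cfsg.indFun A (τ i) 1 = 0; exact hA.ind_off _ (hτ1 i) SSC.not_inConj_one) hττ
  obtain ⟨ε, hε, rfl⟩ : ∃ ε : ℤ, (ε = 1 ∨ ε = -1) ∧ εc = (ε : ℂ) := by
    rcases hεc with rfl | rfl
    exacts [⟨1, Or.inl rfl, by simp⟩, ⟨-1, Or.inr rfl, by simp⟩]
  set μ : Fin K → Cfsg.IrrCharacter G := fun i => ⟨μf i, hμirr i⟩ with hμ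
  have hτμ : ∀ i, Cfsg.indFun A (τ i) = (ε : ℂ) • ((μ i : G → ℂ) - (μ z : G → ℂ)) := hμeq
  -- coefficients
  have hb : ∀ (l : Cfsg.IrrCharacter A) (χ : Cfsg.IrrCharacter G), ∃ b : ℕ,
      Cfsg.classInner (l : A → ℂ) (fun x : A => (χ : G → ℂ) x) = b := fun l χ =>
    IsCharacter.exists_classInner_nat (IsIrrCharacter.isCharacter l.2)
      (IsCharacter.restrict (IsIrrCharacter.isCharacter χ.2) A)
  choose b hb using hb
  set q : Fin K → Cfsg.IrrCharacter G → ℤ := fun i χ => (b (principal A) χ : ℤ) - b (r i) χ with hq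
  have hqφ : ∀ i (χ : Cfsg.IrrCharacter G), Cfsg.classInner (φ i) (fun x : A => (χ : G → ℂ) x) = q i χ := fun i χ => by
    rw [hφ, classInner_sub_left, hb, hb]
    simp [hq]
  have hcoef : ∀ i (χ : Cfsg.IrrCharacter G), Cfsg.classInner (Cfsg.indFun A (φ i)) (χ : G → ℂ) = q i χ := fun i χ => by
    rw [classInner_indFun_left _ _ (char_class χ)]
    exact hqφ i χ
  have hbτ : ∀ i χ, (b (r i) χ : ℤ) - b (r z) χ =
      ε * ((if χ = μ i then 1 else 0) - (if χ = μ z then 1 else 0)) := by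
    intro i χ
    have h1 : Cfsg.classInner (Cfsg.indFun A (τ i)) (χ : G → ℂ) = (((b (r i) χ : ℤ) - b (r z) χ : ℤ) : ℂ) := by
      rw [classInner_indFun_left _ _ (char_class χ), hτ, classInner_sub_left, hb, hb]
      push_cast
      rfl
    rw [hτμ, classInner_smul_left, classInner_sub_left, classInner_irr (μ i).2 χ.2,
      classInner_irr (μ z).2 χ.2] at h1
    simp only [Subtype.coe_inj] at h1
    have h2 : ((ε * ((if χ = μ i then 1 else 0) - (if χ = μ z then 1 else 0)) : ℤ) : ℂ) =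
        (((b (r i) χ : ℤ) - b (r z) χ : ℤ) : ℂ) := by
      rw [← h1]
      simp only [eq_comm (a := χ)]
      push_cast
      rfl
    exact_mod_cast h2.symm
  refine ⟨K, h2, by omega, μ, fun i j h => hμinj (congrArg Subtype.val h), ε, hε, φ, q,
    fun i => ⟨hφ1 i, ?_, ?_, ?_⟩, hqφ, fun j => ⟨τ j, (ε : ℂ), hτ1 j, ?_, ?_, hτμ j⟩, ?_, ?_, ?_⟩
  · have h := classInner_irr_of_ne (r i).2 (principal A).2 (fun h => hr1 i (Subtype.ext h))
    have h' := classInner_self_irr (principal A).2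
    simp only [Cfsg.classInner] at h h'
    have hn : (Nat.card A : ℂ) ≠ 0 := Nat.cast_ne_zero.mpr Nat.card_pos.ne'
    rw [inv_mul_eq_iff_eq_mul₀ hn] at h h'
    simp only [principal, map_one, mul_one, mul_zero] at h h'
    simp only [hφ, Pi.sub_apply, Finset.sum_sub_distrib, principal, h, sub_zero]
    exact h'
  · have h1 := hqφ i (principal G)
    rw [hφ, classInner_sub_left, show (fun x : A => ((principal G : Cfsg.IrrCharacter G) : G → ℂ) x) =
      (principal A : A → ℂ) from rfl, classInner_self_irr (principal A).2,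
      classInner_irr_of_ne (r i).2 (principal A).2 (fun h => hr1 i (Subtype.ext h)), sub_zero] at h1
    exact_mod_cast h1.symm
  · have h1 := ZassSuz.inner_eq_sum (isClassFunction_indFun A (φ i)) (isClassFunction_indFun A (φ i))
      (q i) (q i) (hcoef i) (hcoef i)
    rw [hA.inner_ind _ _ (hφ1 i), hφ] at h1
    simp only [hA.orbFun_sub, classInner_sub_left, classInner_sub_right, hW, hW1, hW2, hW3, if_true] at h1
    have : ((∑ χ, q i χ * q i χ : ℤ) : ℂ) = (((e : ℤ) + 1 : ℤ) : ℂ) := by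
      rw [← h1]; push_cast; ring
    simp only [pow_two]
    exact_mod_cast this
  · have hl : ∀ i, ∑ x : A, (r i : A → ℂ) x = 0 := fun i => by
      have h := classInner_irr_of_ne (r i).2 (principal A).2 (fun h => hr1 i (Subtype.ext h))
      simp only [Cfsg.classInner] at h
      rw [inv_mul_eq_iff_eq_mul₀ (Nat.cast_ne_zero.mpr Nat.card_pos.ne')] at h
      simpa [principal] using h
    simp [hτ, Finset.sum_sub_distrib, hl]
  · rcases hε with rfl | rfl <;> simp
  · intro j hj
    have hjz : j ≠ z := fun h => hj (by rw [h])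
    have h1 : Cfsg.classInner (Cfsg.indFun A (φ z)) (Cfsg.indFun A (τ j)) = 1 := by
      rw [hA.inner_ind _ _ (hφ1 z), hφ, hτ]
      simp only [hA.orbFun_sub, classInner_sub_left, classInner_sub_right, hW, hW2, if_neg hjz.symm, if_true]
      ring
    rw [hτμ, classInner_smul_right, classInner_sub_right, hcoef, hcoef, map_intCast] at h1
    have h2 : ε * (q z (μ j) - q z (μ z)) = 1 := by exact_mod_cast h1
    rcases hε with rfl | rfl <;> linarith
  · intro j _ χ
    have := hbτ j χ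
    simp only [hq]
    linarith
  · intro χ hχ
    have hβ : ∀ l, l ≠ principal A → b l χ = b (r z) χ := by
      intro l hl
      obtain ⟨i, k, rfl⟩ := hcover l hl
      have h1 := hA.inner_cjL k (r i) (char_class χ)
      rw [hb, hb, Nat.cast_inj] at h1
      have h2 := hbτ i χ
      rw [if_neg (hχ i), if_neg (hχ z)] at h2
      omega
    have hres := classFunction_eq_sum (IsCharacter.isClassFunction
      (IsCharacter.restrict (IsIrrCharacter.isCharacter χ.2) A))
    have h1 := congrFun hres 1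
    simp only [Finset.sum_apply, Pi.smul_apply, smul_eq_mul, hA.lin_one, mul_one] at h1
    have h2 : ∀ l : Cfsg.IrrCharacter A,
        Cfsg.classInner (fun x : A => (χ : G → ℂ) x) (l : A → ℂ) = (b l χ : ℂ) := fun l => by
      rw [← classInner_conj_symm, hb, map_natCast]
    simp only [h2] at h1
    have h3 : (dg χ : ℤ) = ∑ l : Cfsg.IrrCharacter A, (b l χ : ℤ) := by
      have : (dg χ : ℂ) = ((∑ l : Cfsg.IrrCharacter A, (b l χ : ℤ) : ℤ) : ℂ) := by
        rw [dg_cast]; push_cast; exact h1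
      exact_mod_cast this
    rw [← Finset.add_sum_erase _ _ (Finset.mem_univ (principal A)), ← hNT,
      Finset.sum_congr rfl fun l hl => by rw [hβ l (Finset.mem_erase.mp hl).1], Finset.sum_const,
      nsmul_eq_mul] at h3
    refine ⟨b (r z) χ, ?_⟩
    have hc : ((NT.card : ℕ) : ℤ) + 1 = (Nat.card A : ℤ) := by exact_mod_cast hNTcard
    show dg χ - q z χ = _
    simp only [hq]
    rw [h3, ← hc]
    ring

theorem exists_fam (hA : SSC A e) (hK : e + 2 ≤ Nat.card A) : Nonempty (Fam A e) := by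
  obtain ⟨K, h2, hc, μ, hinj, ε, hε, φ, q, hφ, hqφ, hdiff, hpos, hrel, hdvd⟩ := exists_raw hA hK
  set z : Fin K := ⟨0, by omega⟩ with hz
  set a : ℤ := q z (μ z) + ε with ha
  by_cases hflip : K = 2 ∧ a ≠ 0
  · obtain ⟨hK2, ha0⟩ := hflip
    set o : Fin K := ⟨1, by omega⟩ with ho
    have hne : μ o ≠ μ z := fun h => by simpa [ho, hz, Fin.ext_iff] using hinj h
    have hp0 : μ z ≠ principal G ∧ μ o ≠ principal G := by
      constructor <;> intro h
      · have h1 := hrel o (by simp [ho]) (principal G)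
        rw [(hφ o).2.2.1, (hφ z).2.2.1, if_pos h.symm, if_neg (fun h' => hne (h'.symm.trans h.symm))] at h1
        rcases hε with rfl | rfl <;> simp at h1
      · have h1 := hrel o (by simp [ho]) (principal G)
        rw [(hφ o).2.2.1, (hφ z).2.2.1, if_pos h.symm, if_neg (fun h' => hne (h.trans h'))] at h1
        rcases hε with rfl | rfl <;> simp at h1
    have hle : 1 + ((a - ε) ^ 2 + a ^ 2) ≤ (e : ℤ) + 1 := by
      rw [← (hφ z).2.2.2]
      refine le_trans (le_of_eq ?_) (Finset.sum_le_sum_of_subset_of_nonneg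
        (Finset.subset_univ {principal G, μ z, μ o}) fun χ _ _ => sq_nonneg _)
      rw [Finset.sum_insert (by simp [hp0.1.symm, hp0.2.symm]), Finset.sum_insert (by simp [hne.symm]),
        Finset.sum_singleton, (hφ z).2.2.1, hpos o (by simp [ho]), ha]
      ring
    have haε : a = ε := by
      have he : (e : ℤ) ≤ 4 := by rcases hA.e_cases with h | h <;> omega
      have h1 : -2 < a ∧ a < 2 := by
        rcases hε with h | h <;> rw [h] at hle <;> constructor <;> nlinarith
      obtain ⟨hl, hu⟩ := h1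
      interval_cases a <;> rcases hε with h | h <;> rw [h] at hle ⊢ <;> omega
    refine ⟨{ K := K, two_le := h2, card_eq := hc, μ := μ, inj := hinj, ε := -ε, eps := by omega,
              a := 0, a_two := fun _ => rfl, φ := φ o, φ_one := (hφ o).1, φ_sum := (hφ o).2.1, q := q o,
              inner_q := hqφ o, q_principal := (hφ o).2.2.1, norm := (hφ o).2.2.2,
              q_zero := ?_, q_pos := ?_, diff := hdiff, dvd := ?_ }⟩
    · show q o (μ z) = _
      rw [hrel o (by simp [ho]), if_pos rfl, if_neg hne.symm]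
      linarith
    · intro j hj
      have : j = o := Fin.ext (by have := j.2; simp only [ho]; omega)
      subst this
      rw [hrel o hj, if_pos rfl, if_neg hne, hpos o hj]
      linarith
    · intro χ hχ
      rw [hrel o (by simp [ho]), if_neg (hχ o), if_neg (hχ z)]
      simpa using hdvd χ hχ
  · refine ⟨{ K := K, two_le := h2, card_eq := hc, μ := μ, inj := hinj, ε := ε, eps := hε,
              a := a, a_two := fun h => by_contra fun h' => hflip ⟨h, h'⟩, φ := φ z, φ_one := (hφ z).1,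
              φ_sum := (hφ z).2.1, q := q z, inner_q := hqφ z, q_principal := (hφ z).2.2.1,
              norm := (hφ z).2.2.2, q_zero := by simp [ha, hz], q_pos := hpos, diff := hdiff,
              dvd := hdvd }⟩

namespace Fam

variable (F : Fam A e)

/-- The first member. -/
def z : Fin F.K := ⟨0, by have := F.two_le; omega⟩

theorem q_z : F.q (F.μ F.z) = F.a - F.ε := F.q_zero

theorem coeff (χ : Cfsg.IrrCharacter G) :
    Cfsg.classInner (Cfsg.indFun A F.φ) (χ : G → ℂ) = F.q χ := by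
  rw [classInner_indFun_left _ _ (char_class χ)]
  exact F.inner_q χ

theorem sum_off (hA : SSC A e) {x : G} (hx : ¬ SSC.InConj A x) :
    ∑ χ, (F.q χ : ℂ) * (χ : G → ℂ) x = 0 := by
  have h := congrFun (classFunction_eq_sum (isClassFunction_indFun A F.φ)) x
  simp only [Finset.sum_apply, Pi.smul_apply, smul_eq_mul, F.coeff] at h
  rw [← h, hA.ind_off _ F.φ_one hx]

theorem sum_dg (hA : SSC A e) : ∑ χ, F.q χ * dg χ = 0 := by
  have h := F.sum_off hA SSC.not_inConj_one
  simp only [← dg_cast] at h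
  exact_mod_cast h

theorem exists_diff (j : Fin F.K) : ∃ (ψ : A → ℂ) (s : ℂ), ψ 1 = 0 ∧ ∑ x : A, ψ x = 0 ∧ s ≠ 0 ∧
    Cfsg.indFun A ψ = s • ((F.μ j : G → ℂ) - (F.μ F.z : G → ℂ)) := F.diff j

theorem agree (hA : SSC A e) {x : G} (hx : ¬ SSC.InConj A x) (j : Fin F.K) :
    (F.μ j : G → ℂ) x = (F.μ F.z : G → ℂ) x := by
  obtain ⟨ψ, s, hψ, -, hs, h⟩ := F.exists_diff j
  have h' := congrFun h x
  rw [hA.ind_off ψ hψ hx, Pi.smul_apply, smul_eq_mul, eq_comm, mul_eq_zero, or_iff_right hs] at h'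
  exact sub_eq_zero.mp h'

theorem dg_eq (hA : SSC A e) (j : Fin F.K) : dg (F.μ j) = dg (F.μ F.z) := by
  have h := F.agree hA SSC.not_inConj_one j
  rw [← dg_cast, ← dg_cast] at h
  exact_mod_cast h

theorem ne_principal (hA : SSC A e) (j : Fin F.K) : F.μ j ≠ principal G := by
  have key : ∀ k : Fin F.K, (if F.μ k = principal G then (1 : ℂ) else 0) =
      if F.μ F.z = principal G then 1 else 0 := by
    intro k
    obtain ⟨ψ, s, hψ, hsum, hs, he⟩ := F.exists_diff k
    have h0 : Cfsg.classInner (Cfsg.indFun A ψ) ((principal G : Cfsg.IrrCharacter G) : G → ℂ) = 0 := by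
      rw [classInner_indFun_left _ _ (char_class _)]
      simp [Cfsg.classInner, principal, hsum]
    rw [he, classInner_smul_left, classInner_sub_left, classInner_irr (F.μ k).2 (principal G).2,
      classInner_irr (F.μ F.z).2 (principal G).2] at h0
    simp only [Subtype.coe_inj, mul_eq_zero, or_iff_right hs, sub_eq_zero] at h0
    exact h0
  intro h
  obtain ⟨k, hk⟩ : ∃ k : Fin F.K, k ≠ j := by
    haveI : Nontrivial (Fin F.K) := Fin.nontrivial_iff_two_le.mpr F.two_le
    exact exists_ne j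
  have h1 := key j
  rw [if_pos h] at h1
  have h2 := key k
  rw [← h1, ite_eq_left_iff] at h2
  exact hk (F.inj ((by_contra fun hne => by simpa using h2 hne : F.μ k = principal G).trans h.symm))

end Fam

end Cfsg.Agent.SSCThree
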