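import Mathlib.LinearAlgebra.Matrix.ProjectiveSpecialLinearGroup
import Mathlib.Algebra.CharP.Lemmas
import Mathlib.Algebra.CharP.Two
import Mathlib.LinearAlgebra.Matrix.CharP
import Mathlib.Tactic

/-!
# Commuting conjugates in `PSL(2, F)`
-/

set_option autoImplicit false
set_option linter.unusedSectionVars false
set_option linter.style.haveILetI false

namespace Cfsg.Agent.SSCThree

open Matrix

variable {F : Type} [Field F]

theorem sl2_comm {x y : Matrix (Fin 2) (Fin 2) F} (hx : x.det = 1) (hy : y.det = 1)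
    (ht : y.trace = x.trace) (hc : x * y = y * x) (hne : x.trace ^ 2 ≠ 4) :
    y = x ∨ y * x = 1 := by
  rw [Matrix.det_fin_two] at hx hy
  rw [Matrix.trace_fin_two, Matrix.trace_fin_two] at ht
  rw [Matrix.trace_fin_two] at hne
  have c00 := congrFun (congrFun hc 0) 0
  have c01 := congrFun (congrFun hc 0) 1
  have c10 := congrFun (congrFun hc 1) 0
  simp only [Matrix.mul_apply, Fin.sum_univ_two] at c00 c01 c10
  set a := x 0 0 with ea
  set b := x 0 1 with eb
  set c := x 1 0 with ec
  set d := x 1 1 with ed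
  set e := y 0 0 with ee
  set f := y 0 1 with ef
  set g := y 1 0 with eg
  set h := y 1 1 with eh
  have k1 : b * g = f * c := by linear_combination c00
  have k2 : (a - d) * f = b * (e - h) := by linear_combination c01
  have k3 : (a - d) * g = c * (e - h) := by linear_combination -c10
  set Q := (a - d) ^ 2 + 4 * b * c with hQdef
  have hQ : Q ≠ 0 := fun h0 => hne (by linear_combination h0 + 4 * hx)
  have hQ' : (e - h) ^ 2 + 4 * f * g = Q := by
    linear_combination (e + h + a + d) * ht - 4 * hy + 4 * hx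
  have s0 : (e - h) ^ 2 = (a - d) ^ 2 := by
    refine mul_left_cancel₀ hQ ?_
    linear_combination (a - d) ^ 2 * hQ' - 4 * (c * (e - h)) * k2 - 4 * ((a - d) * f) * k3
  have s1 : f ^ 2 = b ^ 2 := by
    refine mul_left_cancel₀ hQ ?_
    linear_combination b ^ 2 * hQ' + (b * (e - h) + (a - d) * f) * k2 - 4 * b * f * k1
  have s2 : g ^ 2 = c ^ 2 := by
    refine mul_left_cancel₀ hQ ?_
    linear_combination c ^ 2 * hQ' + (c * (e - h) + (a - d) * g) * k3 + 4 * c * g * k1
  -- a common sign
  obtain ⟨σ, hσ, w0, w1, w2⟩ : ∃ σ : F, (σ = 1 ∨ σ = -1) ∧ e - h = σ * (a - d) ∧ f = σ * b ∧ g = σ * c := by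
    by_cases h0 : a - d = 0
    · rw [h0] at s0 k2 k3
      have he : e - h = 0 := by simpa using s0
      by_cases h1 : b = 0
      · rw [h1] at s1 k1
        have hf : f = 0 := by simpa using s1
        rcases sq_eq_sq_iff_eq_or_eq_neg.mp s2 with h' | h'
        · exact ⟨1, Or.inl rfl, by rw [he, h0, mul_zero], by rw [hf, h1, mul_zero], by rw [h', one_mul]⟩
        · exact ⟨-1, Or.inr rfl, by rw [he, h0, mul_zero], by rw [hf, h1, mul_zero], by rw [h', neg_one_mul]⟩
      · rcases sq_eq_sq_iff_eq_or_eq_neg.mp s1 with h' | h'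
        · exact ⟨1, Or.inl rfl, by rw [he, h0, mul_zero], by rw [h', one_mul],
            mul_left_cancel₀ h1 (by rw [h'] at k1; linear_combination k1)⟩
        · exact ⟨-1, Or.inr rfl, by rw [he, h0, mul_zero], by rw [h', neg_one_mul],
            mul_left_cancel₀ h1 (by rw [h'] at k1; linear_combination k1)⟩
    · rcases sq_eq_sq_iff_eq_or_eq_neg.mp s0 with h' | h'
      · exact ⟨1, Or.inl rfl, by rw [h', one_mul],
          mul_left_cancel₀ h0 (by rw [h'] at k2; linear_combination k2),
          mul_left_cancel₀ h0 (by rw [h'] at k3; linear_combination k3)⟩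
      · exact ⟨-1, Or.inr rfl, by rw [h', neg_one_mul],
          mul_left_cancel₀ h0 (by rw [h'] at k2; linear_combination k2),
          mul_left_cancel₀ h0 (by rw [h'] at k3; linear_combination k3)⟩
  have hed : (e - a) * (e - d) = 0 := by
    have hss : σ * σ = 1 := by rcases hσ with rfl | rfl <;> ring
    linear_combination -hy + hx + e * ht - f * w2 - σ * c * w1 - b * c * hss
  have equal : e = a → h = d → f = b → g = c → y = x := by
    intro u1 u2 u3 u4
    ext i j; fin_cases i <;> fin_cases j <;> assumption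
  have inverse : e = d → h = a → f = -b → g = -c → y * x = 1 := by
    intro u1 u2 u3 u4
    ext i j
    rw [Matrix.mul_apply, Fin.sum_univ_two, Matrix.one_apply]
    fin_cases i <;> fin_cases j <;>
      simp [← ea, ← eb, ← ec, ← ed, ← ee, ← ef, ← eg, ← eh, u1, u2, u3, u4] <;>
      first
      | linear_combination hx
      | ring
  have hneg : (2 : F) = 0 → ∀ u : F, -u = u := fun h2 u => by linear_combination (-u) * h2
  rcases hσ with rfl | rfl
  · rw [one_mul] at w0 w1 w2
    rcases mul_eq_zero.mp hed with h1 | h1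
    · have e1 : e = a := sub_eq_zero.mp h1
      exact Or.inl (equal e1 (by linear_combination e1 - w0) w1 w2)
    · have e1 : e = d := sub_eq_zero.mp h1
      have e2 : h = a := by linear_combination ht - e1
      by_cases h2 : (2 : F) = 0
      · exact Or.inr (inverse e1 e2 (w1.trans (hneg h2 b).symm) (w2.trans (hneg h2 c).symm))
      · have e3 : a = d := sub_eq_zero.mp (mul_left_cancel₀ h2 (by linear_combination e1 - e2 - w0))
        exact Or.inl (equal (e1.trans e3.symm) (e2.trans e3) w1 w2)
  · rw [neg_one_mul] at w0 w1 w2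
    rcases mul_eq_zero.mp hed with h1 | h1
    · have e1 : e = a := sub_eq_zero.mp h1
      have e2 : h = d := by linear_combination ht - e1
      by_cases h2 : (2 : F) = 0
      · exact Or.inl (equal e1 e2 (w1.trans (hneg h2 b)) (w2.trans (hneg h2 c)))
      · have e3 : a = d := sub_eq_zero.mp (mul_left_cancel₀ h2 (by linear_combination w0 - e1 + e2))
        exact Or.inr (inverse (e1.trans e3) (e2.trans e3.symm) w1 w2)
    · have e1 : e = d := sub_eq_zero.mp h1
      exact Or.inr (inverse e1 (by linear_combination ht - e1) w1 w2)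

theorem mat_two_sq (X : Matrix (Fin 2) (Fin 2) F) (hX : X.det = 1) : X * X = X.trace • X - 1 := by
  rw [Matrix.det_fin_two] at hX
  ext i j
  fin_cases i <;> fin_cases j <;>
    simp [Matrix.mul_apply, Fin.sum_univ_two, Matrix.trace_fin_two, Matrix.one_apply] <;>
    first
    | linear_combination hX
    | linear_combination -hX
    | ring

/-- An element of odd order prime to the characteristic, and a conjugate commuting with it. -/
theorem psl_conj_comm {p : ℕ} [CharP F p] [hp : Fact p.Prime] (b g : Matrix.ProjectiveSpecialLinearGroup (Fin 2) F)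
    (hodd : Odd (orderOf b)) (hpb : ¬ p ∣ orderOf b) (hc : b * (g * b * g⁻¹) = g * b * g⁻¹ * b) :
    g * b * g⁻¹ = b ∨ g * b * g⁻¹ = b⁻¹ := by
  obtain ⟨x, rfl⟩ := QuotientGroup.mk_surjective b
  obtain ⟨u, rfl⟩ := QuotientGroup.mk_surjective g
  set q : Matrix.SpecialLinearGroup (Fin 2) F →* Matrix.ProjectiveSpecialLinearGroup (Fin 2) F :=
    QuotientGroup.mk' (Subgroup.center _)
  change q u * q x * (q u)⁻¹ = q x ∨ q u * q x * (q u)⁻¹ = (q x)⁻¹
  change q x * (q u * q x * (q u)⁻¹) = q u * q x * (q u)⁻¹ * q x at hc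
  change Odd (orderOf (q x)) at hodd
  change ¬ p ∣ orderOf (q x) at hpb
  rw [← map_inv, ← map_mul, ← map_mul, ← map_inv q x] at *
  set y := u * x * u⁻¹ with hy
  have htr : (y : Matrix (Fin 2) (Fin 2) F).trace = (x : Matrix (Fin 2) (Fin 2) F).trace := by
    rw [hy, Matrix.SpecialLinearGroup.coe_mul, Matrix.SpecialLinearGroup.coe_mul, Matrix.trace_mul_cycle,
      ← Matrix.SpecialLinearGroup.coe_mul, inv_mul_cancel, Matrix.SpecialLinearGroup.coe_one, one_mul]
  have hone : q x = 1 → q y = q x ∨ q y = q x⁻¹ := fun h1 =>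
    Or.inl (by rw [hy, map_mul, map_mul, h1, mul_one, ← map_mul, mul_inv_cancel, map_one])
  have hsq : q x * q x = 1 → q y = q x ∨ q y = q x⁻¹ := fun h2 => hone (by
    have hd : orderOf (q x) ∣ 2 := orderOf_dvd_of_pow_eq_one (by rw [sq]; exact h2)
    rcases (Nat.dvd_prime Nat.prime_two).mp hd with h | h
    · exact orderOf_eq_one_iff.mp h
    · rw [h] at hodd; exact absurd hodd (by decide))
  have hz : (x * y)⁻¹ * (y * x) ∈ Subgroup.center (Matrix.SpecialLinearGroup (Fin 2) F) := by
    rw [← QuotientGroup.eq]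
    exact hc
  obtain ⟨r, hr, hrz⟩ := Matrix.SpecialLinearGroup.mem_center_iff.mp hz
  rw [Fintype.card_fin] at hr
  have hYX : (y : Matrix (Fin 2) (Fin 2) F) * x = r • ((x : Matrix (Fin 2) (Fin 2) F) * y) := by
    calc (y : Matrix (Fin 2) (Fin 2) F) * x
        = ((x * y * ((x * y)⁻¹ * (y * x)) : Matrix.SpecialLinearGroup (Fin 2) F) : Matrix (Fin 2) (Fin 2) F) := by
          rw [mul_inv_cancel_left]; rfl
      _ = _ := by
          rw [Matrix.SpecialLinearGroup.coe_mul, Matrix.SpecialLinearGroup.coe_mul, ← hrz, Matrix.scalar_apply,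
            ← Matrix.smul_one_eq_diagonal, Matrix.mul_smul, mul_one]
  by_cases hr1 : r = 1
  · rw [hr1, one_smul] at hYX
    by_cases ht : (x : Matrix (Fin 2) (Fin 2) F).trace ^ 2 = 4
    · obtain ⟨s, hs, hts⟩ : ∃ s : F, s ^ 2 = 1 ∧ (x : Matrix (Fin 2) (Fin 2) F).trace = 2 * s := by
        by_cases h2 : (2 : F) = 0
        · refine ⟨1, one_pow 2, ?_⟩
          rw [h2, zero_mul]
          refine pow_eq_zero_iff two_ne_zero |>.mp ?_
          linear_combination ht + 2 * h2
        · refine ⟨(x : Matrix (Fin 2) (Fin 2) F).trace / 2, ?_, by field_simp⟩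
          rw [div_pow, ht]
          rw [show (2 : F) ^ 2 = 4 by norm_num, div_self]
          rw [show (4 : F) = 2 * 2 by norm_num]
          exact mul_ne_zero h2 h2
      set X := (x : Matrix (Fin 2) (Fin 2) F) with hX
      set M := X - s • (1 : Matrix (Fin 2) (Fin 2) F) with hM
      have hM2 : M ^ 2 = 0 := by
        rw [sq, hM, sub_mul, mul_sub, mul_sub, mat_two_sq X x.2, hts, Matrix.mul_smul, Matrix.smul_mul,
          Matrix.smul_mul, Matrix.mul_smul, mul_one, one_mul, mul_one, smul_smul, ← sq, hs]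
        module
      have hXp : X ^ p = s ^ p • (1 : Matrix (Fin 2) (Fin 2) F) := by
        haveI : Nonempty (Fin 2) := ⟨0⟩
        conv_lhs => rw [show X = M + s • (1 : Matrix (Fin 2) (Fin 2) F) by rw [hM, sub_add_cancel]]
        rw [add_pow_char_of_commute (p := p) ((Commute.one_right M).smul_right s), smul_pow, one_pow,
          pow_eq_zero_of_le hp.out.two_le hM2, zero_add]
      have hq : q x ^ p = 1 := by
        rw [← map_pow]
        refine (QuotientGroup.eq_one_iff _).mpr (Matrix.SpecialLinearGroup.mem_center_iff.mpr ⟨s ^ p, ?_, ?_⟩)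
        · rw [Fintype.card_fin, ← pow_mul, mul_comm, pow_mul, hs, one_pow]
        · rw [Matrix.scalar_apply, ← Matrix.smul_one_eq_diagonal, Matrix.SpecialLinearGroup.coe_pow, hXp]
      rcases (Nat.dvd_prime hp.out).mp (orderOf_dvd_of_pow_eq_one hq) with h | h
      · exact hone (orderOf_eq_one_iff.mp h)
      · exact absurd (h ▸ dvd_rfl) hpb
    · rcases sl2_comm x.2 y.2 htr hYX.symm ht with h | h
      · exact Or.inl (congrArg q (Subtype.ext h))
      · refine Or.inr (congrArg q (eq_inv_of_mul_eq_one_left (Subtype.ext ?_)))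
        rw [Matrix.SpecialLinearGroup.coe_mul, Matrix.SpecialLinearGroup.coe_one, h]
  · have hr' : r = -1 := (sq_eq_one_iff.mp hr).resolve_left hr1
    have h2 : (2 : F) ≠ 0 := fun h2 => hr1 (by rw [hr']; linear_combination -h2)
    refine hsq ?_
    set X := (x : Matrix (Fin 2) (Fin 2) F) with hX
    set Y := (y : Matrix (Fin 2) (Fin 2) F) with hY
    have ht0 : X.trace = 0 := by
      refine (mul_eq_zero.mp (?_ : 2 * X.trace = 0)).resolve_left h2
      set Z := ((y⁻¹ : Matrix.SpecialLinearGroup (Fin 2) F) : Matrix (Fin 2) (Fin 2) F) with hZ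
      have hZY : Z * Y = 1 := by
        rw [hZ, hY, ← Matrix.SpecialLinearGroup.coe_mul, inv_mul_cancel, Matrix.SpecialLinearGroup.coe_one]
      have hYZ : Y * Z = 1 := by
        rw [hZ, hY, ← Matrix.SpecialLinearGroup.coe_mul, mul_inv_cancel, Matrix.SpecialLinearGroup.coe_one]
      have h : X.trace = -X.trace := by
        calc X.trace = (Z * Y * X).trace := by rw [hZY, one_mul]
          _ = (Z * (r • (X * Y))).trace := by rw [mul_assoc, hYX]
          _ = r * (Y * Z * X).trace := by
            rw [Matrix.mul_smul, Matrix.trace_smul, smul_eq_mul, ← mul_assoc, Matrix.trace_mul_cycle]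
          _ = -X.trace := by rw [hYZ, one_mul, hr']; ring
      linear_combination h
    rw [← map_mul]
    refine (QuotientGroup.eq_one_iff _).mpr (Matrix.SpecialLinearGroup.mem_center_iff.mpr ⟨-1, ?_, ?_⟩)
    · rw [Fintype.card_fin]; ring
    · rw [Matrix.scalar_apply, ← Matrix.smul_one_eq_diagonal, Matrix.SpecialLinearGroup.coe_mul, ← hX,
        mat_two_sq X x.2, ht0]
      simp

end Cfsg.Agent.SSCThree
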