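import Cfsg.Agent.Lib.SSCThree.Five
import Cfsg.Agent.Lib.SSCThree.Linear
import Cfsg.Agent.Lib.SzRecog.Named
import Cfsg.Agent.Lib.Steiner.PlanePSL

/-!
# The centralisers of involutions, and the conclusion
-/

set_option autoImplicit false
set_option linter.unusedSectionVars false
set_option linter.style.haveILetI false

namespace Cfsg.Agent.SSCThree

open Subgroup
open scoped Classical

universe u

variable {G : Type u} [Group G] [Fintype G]

namespace Sys

variable (S : Sys G)

theorem no_comm_B' [IsSimpleGroup G] (h : S.V.ShapeB') {t y : G} {r : ℕ} (ht : orderOf t = 2) (hr : r.Prime)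
    (hr2 : r ≠ 2) (hy : orderOf y = r) (hc : t * y = y * t) : False :=
  S.no_four (Or.inr (Or.inl h)) (by
    have := S.others_le_two
    rw [S.card_extra, S.named_B' h]; omega) ht hr hr2 hy hc

theorem no_comm_B [IsSimpleGroup G] (h : S.V.ShapeB) {t y : G} {r : ℕ} (ht : orderOf t = 2) (hr : r.Prime)
    (hr2 : r ≠ 2) (hy : orderOf y = r) (hc : t * y = y * t) : False := by
  rcases Nat.lt_or_ge S.others.card 2 with hl | hl
  · exact S.no_four (Or.inr (Or.inr h)) (by rw [S.card_extra, S.card_named_B h]; omega) ht hr hr2 hy hc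
  · exact S.no_five h (le_antisymm S.others_le_two hl) ht hr hr2 hy hc

include S in
/-- No element of odd prime order commutes with an involution. -/
theorem no_comm [IsSimpleGroup G] {t y : G} {r : ℕ} (ht : orderOf t = 2) (hr : r.Prime) (hr2 : r ≠ 2)
    (hy : orderOf y = r) (hc : t * y = y * t) : False := by
  rcases S.V.shapes with h | h | h | h | h
  · exact S.no_four (Or.inl h) (by
      have := S.shapeA_others h
      rw [S.card_extra, S.card_named_A h]; omega) ht hr hr2 hy hc
  · exact S.no_comm_B' h ht hr hr2 hy hc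
  · exact S.no_comm_B h ht hr hr2 hy hc
  · exact S.swap.no_comm_B' h ht hr hr2 hy hc
  · exact S.swap.no_comm_B h ht hr hr2 hy hc

include S in
/-- The centralisers of the involutions are `2`-groups. -/
theorem cit [IsSimpleGroup G] : CNSimple.CIT G := by
  intro t ht
  set C := centralizer ({t} : Set G)
  refine IsPGroup.of_card (n := (Nat.card C).primeFactorsList.length) (Nat.eq_prime_pow_of_unique_prime_dvd
    Nat.card_pos.ne' fun {d} hd hdC => ?_)
  by_contra hd2
  haveI := Fact.mk hd
  obtain ⟨y, hy⟩ := exists_prime_orderOf_dvd_card' (G := C) d hdC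
  exact S.no_comm ht hd hd2 (y := (y : G)) (by rw [Subgroup.orderOf_coe]; exact hy)
    (mem_centralizer_singleton_iff.mp y.2).symm

theorem N_ge : 585 ≤ S.N := by
  have := S.n₂_ge; have := S.n₃_ge; have := S.n₂_mod; have := S.n₃_mod; have := S.n₂_ne_n₃
  unfold N
  rcases Nat.lt_or_ge S.n₂ S.n₃ with h | h
  · calc 585 = 5 * 9 * 13 := rfl
      _ ≤ _ := Nat.mul_le_mul (Nat.mul_le_mul S.n₁_ge (by omega)) (by omega)
  · calc 585 = 5 * 13 * 9 := rfl
      _ ≤ _ := Nat.mul_le_mul (Nat.mul_le_mul S.n₁_ge (by omega)) (by omega)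

end Sys

/-- A cyclic quotient of order four of the normaliser cannot live in `PSL(2, F)`. -/
theorem psl_false {D : Subgroup G} (hD : SSC D 4) {F : Type} [Field F] [Fintype F] {p : ℕ} [CharP F p]
    (hp : ¬ p ∣ Nat.card D) (φ : G ≃* Matrix.ProjectiveSpecialLinearGroup (Fin 2) F) : False := by
  haveI : Fact p.Prime := ⟨CharP.char_is_prime F p⟩
  obtain ⟨b, hb, hb1⟩ := hD.exists_ne_one
  have hord : orderOf b ∣ Nat.card D := Subgroup.orderOf_dvd_natCard D hb
  set c := hD.gen * b * hD.gen⁻¹ with hc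
  have hcD : c ∈ D := hD.conj_mem hD.gen_mem hb
  have h := psl_conj_comm (p := p) (φ b) (φ hD.gen)
    (by rw [MulEquiv.orderOf_eq]; exact hD.odd_card.of_dvd_nat hord)
    (by rw [MulEquiv.orderOf_eq]; exact fun h => hp (h.trans hord))
    (by rw [← map_inv, ← map_mul, ← map_mul, ← map_mul, ← map_mul, ← hc, hD.comm hb hcD])
  rw [← map_inv, ← map_mul, ← map_mul, ← map_inv φ b, φ.injective.eq_iff, φ.injective.eq_iff, ← hc] at h
  rcases h with h | h
  · exact absurd (hD.free hb hb1 (k := 1) (by norm_num) (by rw [pow_one]; exact h)) (by norm_num)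
  · refine absurd (hD.free hb hb1 (k := 2) (by norm_num) ?_) (by norm_num)
    calc hD.gen ^ 2 * b * (hD.gen ^ 2)⁻¹ = hD.gen * c * hD.gen⁻¹ := by rw [hc, sq]; group
      _ = hD.gen * b⁻¹ * hD.gen⁻¹ := by rw [h]
      _ = (hD.gen * b * hD.gen⁻¹)⁻¹ := by group
      _ = c⁻¹ := by rw [hc]
      _ = b := by rw [h, inv_inv]

namespace Sys

variable (S : Sys G)

include S in
/-- The group is a Suzuki group. -/
theorem isoSuzuki [IsSimpleGroup G] (hna : ∃ a b : G, a * b ≠ b * a) : Cfsg.Lie.IsoSuzuki G := by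
  rcases SzRecog.simple_list hna (Or.inr S.cit) with ⟨F, i1, i2, -, ⟨φ⟩⟩ | ⟨F, i1, i2, hF, ⟨φ⟩⟩ | h
  · obtain ⟨p, hp⟩ := CharP.exists F
    have hpr : p.Prime := CharP.char_is_prime F p
    by_cases hB : p ∣ S.n₂
    · refine (psl_false S.hC (p := p) (fun hC => ?_) φ).elim
      exact hpr.one_lt.ne' (Nat.eq_one_of_dvd_coprimes S.cop23 hB hC)
    · exact (psl_false S.hB (p := p) hB φ).elim
  · haveI := Fintype.ofFinite (Projectivization F (Fin 3 → F))
    have hcard : Nat.card G = 20160 := by rw [Nat.card_congr φ.toEquiv, PlanePSL.card_psl hF]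
    have hd : S.N ∣ 64 * 315 := by
      have := S.N_dvd
      rwa [hcard] at this
    have hodd : Nat.Coprime S.N 64 := by
      have h2 : Nat.Coprime S.N 2 := S.N_odd.coprime_two_right
      exact h2.pow_right 6
    have := Nat.le_of_dvd (by norm_num) (hodd.dvd_of_dvd_mul_left hd)
    have := S.N_ge
    omega
  · exact h

end Sys

end Cfsg.Agent.SSCThree
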