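import Cfsg.Agent.Lib.SSCThree.Four

/-!
# Five classes outside in the third shape
-/

set_option autoImplicit false
set_option linter.unusedSectionVars false
set_option linter.style.haveILetI false

namespace Cfsg.Agent.SSCThree

open Subgroup
open scoped Classical

universe u

theorem two_pow_ge {i j a : ℕ} (hi : i ≤ a) (hj : j ≤ a) (h : 80 ≤ 2 ^ i + 2 ^ j) : 64 ≤ 2 ^ a := by
  by_contra hc
  have ha : a ≤ 5 := by
    by_contra h'
    exact hc ((Nat.pow_le_pow_right (show 0 < 2 by norm_num) (show 6 ≤ a by omega)) : (2 : ℕ) ^ 6 ≤ 2 ^ a)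
  have h1 : 2 ^ i ≤ 2 ^ 5 := Nat.pow_le_pow_right (by norm_num) (by omega)
  have h2 : 2 ^ j ≤ 2 ^ 5 := Nat.pow_le_pow_right (by norm_num) (by omega)
  omega

theorem no_twenty_seven {i j : ℕ} (h : 27 = 2 ^ i + 2 ^ j + 1) : False := by
  have hpi := Nat.one_le_two_pow (n := i)
  have hpj := Nat.one_le_two_pow (n := j)
  have hi : i ≤ 4 := by
    by_contra h'
    have : 2 ^ 5 ≤ 2 ^ i := Nat.pow_le_pow_right (by norm_num) (by omega)
    omega
  have hj : j ≤ 4 := by
    by_contra h'
    have : 2 ^ 5 ≤ 2 ^ j := Nat.pow_le_pow_right (by norm_num) (by omega)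
    omega
  interval_cases i <;> interval_cases j <;> omega

variable {G : Type u} [Group G] [Fintype G]

namespace Sys

variable (S : Sys G)

theorem list_false (hE : S.extra.card ≤ 5) (x : Fin 6 → G) (hx : ∀ i, x i ≠ 1 ∧ S.Off (x i))
    (hne : ∀ i j, i < j → ¬ IsConj (x i) (x j)) : False := by
  have := S.card_le_extra x hx hne
  omega

/-- No three classes of elements of orders divisible by six besides those of orders two, four, three. -/
theorem six_false (hE : S.extra.card ≤ 5) {t y a b c : G} (ht : orderOf t = 2) (hy : orderOf y = 3)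
    (hc' : t * y = y * t) (ha : 6 ∣ orderOf a) (hb : 6 ∣ orderOf b) (hc : 6 ∣ orderOf c)
    (hab : ¬ IsConj a b) (hac : ¬ IsConj a c) (hbc : ¬ IsConj b c) : False := by
  have hv := order_gen4 S.hB
  have off6 : ∀ z : G, 6 ∣ orderOf z → z ≠ 1 ∧ S.Off z := fun z hz =>
    ⟨fun h => (by rw [h, orderOf_one] at hz; omega), S.off_of_even ((by norm_num : 2 ∣ 6).trans hz)⟩
  refine S.list_false hE ![t, S.hB.gen, y, a, b, c] (fun i => ?_) (fun i j hij => ?_)
  · fin_cases i
    · exact ⟨ne_one_of_order ht le_rfl, S.off_of_comm_invol ht rfl⟩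
    · exact ⟨ne_one_of_order hv (by norm_num), S.off_of_even (x := S.hB.gen) (by rw [hv]; norm_num)⟩
    · exact ⟨ne_one_of_order hy (by norm_num), S.off_of_comm_invol ht hc'.symm⟩
    · exact off6 a ha
    · exact off6 b hb
    · exact off6 c hc
  · fin_cases i <;> fin_cases j <;> first
      | exact absurd hij (by decide)
      | exact hab
      | exact hac
      | exact hbc
      | (refine not_conj_of_order ?_; simp [ht, hv, hy] <;> omega)

/-- Three non-conjugate elements of order three commuting with an involution. -/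
theorem three_false (hE : S.extra.card ≤ 5) {t : G} (ht : orderOf t = 2) {x y z : centralizer ({t} : Set G)}
    (hx : orderOf x = 3) (hy : orderOf y = 3) (hz : orderOf z = 3) :
    IsConj x y ∨ IsConj x z ∨ IsConj y z := by
  by_contra! h
  obtain ⟨h1, h2, h3⟩ := h
  have hp : ∀ w : centralizer ({t} : Set G), orderOf w = 3 → w ^ 3 = 1 := fun w hw => by
    rw [← hw]; exact pow_orderOf_eq_one w
  have o : ∀ w : centralizer ({t} : Set G), orderOf w = 3 → 6 ∣ orderOf (t * (w : G)) := fun w hw => by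
    rw [order_mul ht Nat.prime_three (by norm_num) (by rw [Subgroup.orderOf_coe]; exact hw)
      (mem_centralizer_singleton_iff.mp w.2).symm]
  exact S.six_false hE ht (y := (x : G)) (by rw [Subgroup.orderOf_coe]; exact hx)
    (mem_centralizer_singleton_iff.mp x.2).symm (o x hx) (o y hy) (o z hz)
    (fun h => h1 (conj_in_centralizer (by norm_num) ht (hp x hx) (hp y hy) h))
    (fun h => h2 (conj_in_centralizer (by norm_num) ht (hp x hx) (hp z hz) h))
    (fun h => h3 (conj_in_centralizer (by norm_num) ht (hp y hy) (hp z hz) h))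

/-- The prime is three. -/
theorem five_prime [IsSimpleGroup G] (hB : S.V.ShapeB) (hl : S.others.card = 2) {t y : G} {r : ℕ}
    (ht : orderOf t = 2) (hr : r.Prime) (hr2 : r ≠ 2) (hy : orderOf y = r) (hc : t * y = y * t) : r = 3 := by
  by_contra hr3
  haveI := Fact.mk hr
  have hE : S.extra.card ≤ 5 := by rw [S.card_extra, S.card_named_B hB, hl]
  obtain ⟨hrX, hrh⟩ := S.setting ht hr hr2 hy hc
  have hab := S.abelian_of_dvd hr hr2 hrh
  have h3r : 5 ≤ r := by
    have := hr.two_le
    have : r ≠ 4 := fun h => by rw [h] at hr; norm_num at hr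
    omega
  have hcop : Nat.Coprime 2 r := (Nat.coprime_primes Nat.prime_two hr).mpr hr2.symm
  obtain ⟨w, hw, hwo, hw1⟩ := S.prime_dvd_h Nat.prime_three ⟨_, S.shapeB_index hB hl ht⟩
  have hv := order_gen4 S.hB
  have hty := order_mul ht hr hr2 hy hc
  have hd : ∀ i, (![t, S.hB.gen, y, t * y, w] : Fin 5 → G) i ≠ 1 ∧ S.Off ((![t, S.hB.gen, y, t * y, w] : Fin 5 → G) i) := by
    intro i
    fin_cases i
    · exact ⟨ne_one_of_order ht le_rfl, S.off_of_comm_invol ht rfl⟩
    · exact ⟨ne_one_of_order hv (by norm_num), S.off_of_even (x := S.hB.gen) (by rw [hv]; norm_num)⟩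
    · exact ⟨ne_one_of_order hy (by omega), S.off_of_comm_invol ht hc.symm⟩
    · exact ⟨ne_one_of_order hty (by omega), S.off_of_even (x := t * y) (by rw [hty]; exact dvd_mul_right 2 r)⟩
    · exact ⟨hw1, hwo⟩
  have hn : ∀ i j, i < j → ¬ IsConj ((![t, S.hB.gen, y, t * y, w] : Fin 5 → G) i)
      ((![t, S.hB.gen, y, t * y, w] : Fin 5 → G) j) := by
    intro i j hij
    fin_cases i <;> fin_cases j <;> first
      | exact absurd hij (by decide)
      | (refine not_conj_of_order ?_; simp [ht, hv, hy, hty, hw] <;> omega)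
  have horders : ∀ z, S.Off z → orderOf z = 1 ∨ orderOf z = 2 ∨ orderOf z = 4 ∨ orderOf z = r ∨
      orderOf z = 3 ∨ (orderOf z = 2 * r ∧ IsConj (t * y) z) := by
    intro z hzo
    rcases eq_or_ne z 1 with rfl | hz
    · exact Or.inl orderOf_one
    obtain ⟨i, hi⟩ := S.conj_of_full _ hd hn hE hz hzo
    fin_cases i
    · exact Or.inr (Or.inl (by rw [orderOf_of_isConj hi]; exact ht))
    · exact Or.inr (Or.inr (Or.inl (by rw [orderOf_of_isConj hi]; exact hv)))
    · exact Or.inr (Or.inr (Or.inr (Or.inl (by rw [orderOf_of_isConj hi]; exact hy))))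
    · exact Or.inr (Or.inr (Or.inr (Or.inr (Or.inr ⟨by rw [orderOf_of_isConj hi]; exact hty, hi⟩))))
    · exact Or.inr (Or.inr (Or.inr (Or.inr (Or.inl (by rw [orderOf_of_isConj hi]; exact hw)))))
  set X := centralizer ({t} : Set G) with hXdef
  have hoffX : ∀ x : X, S.Off (x : G) := fun x =>
    S.off_of_comm_invol ht (mem_centralizer_singleton_iff.mp x.2)
  have hconj6 : ∀ (p : ℕ) (u : X), p.Prime → p ≠ 2 → orderOf u = p →
      p = r ∧ IsConj (t * y) (t * (u : G)) := by
    intro p u hp hp2 hu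
    rw [← Subgroup.orderOf_coe] at hu
    have ho := order_mul ht hp hp2 hu (mem_centralizer_singleton_iff.mp u.2).symm
    have hp3 : 3 ≤ p := by have := hp.two_le; omega
    have hodd := Nat.odd_iff.mp (hr.odd_of_ne_two hr2)
    rcases horders (t * (u : G)) (S.off_of_even (ho ▸ dvd_mul_right 2 p)) with h | h | h | h | h | ⟨h, h'⟩
    all_goals first
      | (exact ⟨by omega, h'⟩)
      | omega
  obtain ⟨a, f, hX⟩ := eq_two_pow_mul hr (Nat.card_pos (α := X)).ne' fun p hp hpd => by
    rcases eq_or_ne p 2 with h | h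
    · exact Or.inl h
    · haveI := Fact.mk hp
      obtain ⟨u, hu⟩ := exists_prime_orderOf_dvd_card' p hpd
      exact Or.inr (hconj6 p u hp h hu).1
  have hf : 1 ≤ f := by
    by_contra h0
    rw [hX, show f = 0 by omega, pow_zero, mul_one] at hrX
    exact hr2 ((Nat.prime_dvd_prime_iff_eq hr Nat.prime_two).mp (hr.dvd_of_dvd_pow hrX))
  have hexp : ∀ x : X, ∀ k, x ^ r ^ k = 1 → x ^ r = 1 := by
    intro x k hk
    obtain ⟨j, -, hj⟩ := (Nat.dvd_prime_pow hr).mp (orderOf_dvd_of_pow_eq_one hk)
    refine orderOf_dvd_iff_pow_eq_one.mp ?_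
    rcases Nat.lt_or_ge j 2 with h | h
    · rw [hj]
      calc r ^ j ∣ r ^ 1 := pow_dvd_pow r (by omega)
        _ = r := pow_one r
    · have hr2' : 3 * r ≤ r ^ j := by
        calc 3 * r ≤ r * r := Nat.mul_le_mul_right r (by omega)
          _ = r ^ 2 := (pow_two r).symm
          _ ≤ r ^ j := Nat.pow_le_pow_right hr.pos h
      rcases horders (x : G) (hoffX x) with e | e | e | e | e | ⟨e, -⟩ <;>
        rw [Subgroup.orderOf_coe, hj] at e <;> omega
  have hone : ∀ x z : X, orderOf x = r → orderOf z = r → IsConj x z := by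
    intro x z hx hz
    have hx' : x ^ r = 1 := by rw [← hx]; exact pow_orderOf_eq_one x
    have hz' : z ^ r = 1 := by rw [← hz]; exact pow_orderOf_eq_one z
    exact conj_in_centralizer hcop ht hx' hz'
      ((hconj6 r x hr hr2 hx).2.symm.trans (hconj6 r z hr hr2 hz).2)
  have h8 : ∀ g : X, ¬ 8 ∣ orderOf g := by
    intro g h8
    have hodd := Nat.odd_iff.mp (hr.odd_of_ne_two hr2)
    rcases horders (g : G) (hoffX g) with h | h | h | h | h | ⟨h, -⟩ <;>
      rw [Subgroup.orderOf_coe] at h <;> rw [h] at h8 <;> omega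
  rcases small_prime hr2 hf hX (fun F x hx z hz => comm_of_sylow hab F x hx z hz) hexp hone h8 with
    ⟨-, h⟩ | ⟨h, -⟩
  · rcases h with h | h
    · exact hr3 h
    · have e1 := S.K1_eq
      rw [hB.K1] at e1
      exact S.not_dvd_N hr hrh (dvd_mul_of_dvd_left (dvd_mul_of_dvd_left ⟨1, by omega⟩ _) _)
  · exact hr3 h

/-- The local structure with five classes. -/
theorem five_local [IsSimpleGroup G] (hE : S.extra.card ≤ 5) {t y : G} {a f : ℕ}
    (hX : ∀ u : G, orderOf u = 2 → Nat.card (centralizer ({u} : Set G)) = 2 ^ a * 3 ^ f)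
    (hh : S.h = 2 ^ a * 3 ^ (f + 1)) (ht : orderOf t = 2) (hy : orderOf y = 3) (hc : t * y = y * t) :
    ((Nat.card (centralizer ({t * y} : Set G)) = 2 * 3 ^ f) ∨
      (Nat.card (centralizer ({y} : Set G)) = 4 * 3 ^ (f + 1) ∧
        Nat.card (centralizer ({t * y} : Set G)) = 4 * 3 ^ f ∧
        Nat.card {s : G // s * s = y} = 4 ∧ Nat.card {s : G // s * s = t * y} = 0 ∧
        ∀ u : G, orderOf u = 2 → u * y = y * u → ∃ k : G, k * y = y * k ∧ k * u * k⁻¹ = t)) ∧
      ∀ w z : G, TwoEl w → w * t = t * w → w * y = y * w → z * t = t * z → z * y = y * z → w * z = z * w := by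
  haveI : Fact (Nat.Prime 2) := ⟨Nat.prime_two⟩
  haveI : Fact (Nat.Prime 3) := ⟨Nat.prime_three⟩
  have h32 : (3 : ℕ) ≠ 2 := by norm_num
  have hrh : 3 ∣ S.h := hh ▸ (dvd_pow_self 3 (by omega)).mul_left _
  have hab := S.abelian_of_dvd Nat.prime_three h32 hrh
  have hcop : Nat.Coprime 2 3 := by norm_num
  have hy3 : y ^ 3 = 1 := by rw [← hy]; exact pow_orderOf_eq_one y
  have hy1 : y ≠ 1 := ne_one_of_order hy (by norm_num)
  have hyo : S.Off y := S.off_of_comm_invol ht hc.symm
  set Y := centralizer ({y} : Set G) with hYdef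
  obtain ⟨d, hY⟩ : ∃ d, Nat.card Y = 2 ^ d * 3 ^ (f + 1) := by
    have h1 := S.centralizer_dvd_h hyo hy1
    rw [hh] at h1
    obtain ⟨d, b', hd⟩ := eq_two_pow_mul Nat.prime_three (Nat.card_pos (α := Y)).ne' fun p hp hpd => by
      rcases hp.dvd_mul.mp (hpd.trans h1) with h | h
      · exact Or.inl ((Nat.prime_dvd_prime_iff_eq hp Nat.prime_two).mp (hp.dvd_of_dvd_pow h))
      · exact Or.inr ((Nat.prime_dvd_prime_iff_eq hp Nat.prime_three).mp (hp.dvd_of_dvd_pow h))
    have h2 : 3 ^ (f + 1) ∣ Nat.card Y := pow_dvd_centralizer (k := 1)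
      (S.N_mul_h ▸ hh ▸ (dvd_mul_left _ _).mul_left _) hab (by rw [pow_one]; exact hy3)
    rw [hd] at h1 h2
    obtain ⟨-, g1⟩ := pow_mul_dvd Nat.prime_three h32 h1
    obtain ⟨-, g2⟩ := pow_mul_dvd (a := 0) (b := f + 1) (a' := d) (b' := b') Nat.prime_three h32
      (by rw [pow_zero, one_mul]; exact h2)
    exact ⟨d, by rw [hd, le_antisymm g1 g2]⟩
  -- any involution of the centraliser
  have hcen : ∀ u : Y, orderOf u = 2 → ∃ e, e ≤ d ∧
      Nat.card (centralizer ({u} : Set Y)) = 2 ^ e * 3 ^ f ∧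
      Nat.card (centralizer ({(u : G) * y} : Set G)) = 2 ^ e * 3 ^ f := by
    intro u hu
    rw [← Subgroup.orderOf_coe] at hu
    have huy : (u : G) * y = y * u := mem_centralizer_singleton_iff.mp u.2
    obtain ⟨e, -, -, hed, -, he⟩ := cent_prod h32 hab hu hy huy (hX _ hu) hY
    exact ⟨e, hed, (card_cent_in' hcop (by rw [← hu]; exact pow_orderOf_eq_one _) hy3 huy).trans he, he⟩
  set tY : Y := ⟨t, mem_centralizer_singleton_iff.mpr hc⟩ with htY
  have htYo : orderOf tY = 2 := by rw [← Subgroup.orderOf_coe]; exact ht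
  -- two-elements give classes of elements of order divisible by six
  have h2c : ∀ p q w : Y, TwoEl p → TwoEl q → TwoEl w → p ≠ 1 → q ≠ 1 → w ≠ 1 →
      IsConj p q ∨ IsConj p w ∨ IsConj q w := by
    intro p q w ⟨i, hp⟩ ⟨j, hq⟩ ⟨l, hw⟩ p1 q1 w1
    by_contra! h
    obtain ⟨h1, h2, h3⟩ := h
    have six : ∀ (z : Y) (m : ℕ), z ^ 2 ^ m = 1 → z ≠ 1 → 6 ∣ orderOf ((z : G) * y) := by
      intro z m hz hz1
      obtain ⟨k, -, hk⟩ := (Nat.dvd_prime_pow Nat.prime_two).mp (orderOf_dvd_of_pow_eq_one hz)
      have hk0 : k ≠ 0 := fun h => hz1 (orderOf_eq_one_iff.mp (by rw [hk, h, pow_zero]))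
      rw [← Subgroup.orderOf_coe] at hk
      rw [Commute.orderOf_mul_eq_mul_orderOf_of_coprime (mem_centralizer_singleton_iff.mp z.2)
        (by rw [hk, hy]; exact Nat.Coprime.pow_left _ hcop), hk, hy]
      exact mul_dvd_mul_right (dvd_pow_self 2 hk0) 3
    have sep : ∀ (z z' : Y) (m m' : ℕ), z ^ 2 ^ m = 1 → z' ^ 2 ^ m' = 1 →
        IsConj ((z : G) * y) ((z' : G) * y) → IsConj z z' := by
      intro z z' m m' hz hz' h
      obtain ⟨g, hg1, hg2⟩ := split_conj (m := 2 ^ (m + m')) (n := 3) (Nat.Coprime.pow_left _ hcop)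
        (by rw [pow_add, pow_mul, show (z : G) ^ 2 ^ m = 1 from congrArg Subtype.val hz, one_pow])
        (by rw [add_comm, pow_add, pow_mul, show (z' : G) ^ 2 ^ m' = 1 from congrArg Subtype.val hz', one_pow])
        hy3 hy3 (mem_centralizer_singleton_iff.mp z.2) (mem_centralizer_singleton_iff.mp z'.2) h
      exact isConj_iff.mpr ⟨⟨g, mem_centralizer_singleton_iff.mpr (mul_inv_eq_iff_eq_mul.mp hg2)⟩,
        Subtype.ext hg1⟩
    exact S.six_false hE ht hy hc (six p i hp p1) (six q j hq q1) (six w l hw w1)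
      (fun h => h1 (sep p q i j hp hq h)) (fun h => h2 (sep p w i l hp hw h))
      (fun h => h3 (sep q w j l hq hw h))
  -- a central involution
  obtain ⟨t', ht'o, ht'3, ht'e⟩ : ∃ t' : Y, orderOf t' = 2 ∧ Nat.card {z : Y // IsConj t' z} = 3 ∧
      Nat.card (centralizer ({t'} : Set Y)) * 3 = Nat.card Y := by
    obtain ⟨W, hW⟩ := IsPGroup.exists_le_sylow (P := zpowers tY)
      (IsPGroup.of_card (n := 1) (by rw [Nat.card_zpowers, htYo, pow_one]))
    haveI : Nontrivial (W : Subgroup Y) := ⟨⟨⟨tY, hW (mem_zpowers _)⟩, 1,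
      fun h => ne_one_of_order htYo le_rfl (congrArg Subtype.val h)⟩⟩
    haveI := IsPGroup.center_nontrivial W.isPGroup'
    have h2 : 2 ∣ Nat.card (center (W : Subgroup Y)) := by
      obtain ⟨k, hk⟩ := IsPGroup.iff_card.mp (W.isPGroup'.to_subgroup (center (W : Subgroup Y)))
      rcases Nat.eq_zero_or_pos k with rfl | h0
      · have h1 : 1 < Nat.card (center (W : Subgroup Y)) := Finite.one_lt_card
        rw [hk, pow_zero] at h1
        omega
      · exact hk ▸ dvd_pow_self 2 (by omega)
    obtain ⟨⟨⟨u, huW⟩, hu⟩, huo⟩ := exists_prime_orderOf_dvd_card' (G := center (W : Subgroup Y)) 2 h2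
    rw [Subgroup.orderOf_mk, Subgroup.orderOf_mk] at huo
    obtain ⟨e, hed, he, -⟩ := hcen u huo
    have hWC : (W : Subgroup Y) ≤ centralizer ({u} : Set Y) := fun z hz =>
      mem_centralizer_singleton_iff.mpr (congrArg Subtype.val ((mem_center_iff.mp hu) ⟨z, hz⟩))
    have hdvd := card_dvd_of_le hWC
    rw [he, W.card_eq_multiplicity, hY, Nat.factorization_mul (by positivity) (by positivity),
      Nat.factorization_pow, Nat.factorization_pow] at hdvd
    simp [Nat.prime_two.factorization, Nat.prime_three.factorization] at hdvd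
    have hde : d ≤ e := (pow_mul_dvd (a := d) (b := 0) (a' := e) (b' := f) Nat.prime_three h32
      (by rw [pow_zero, mul_one]; exact hdvd)).1
    obtain rfl : e = d := le_antisymm hed hde
    have hidx : Nat.card (centralizer ({u} : Set Y)) * 3 = Nat.card Y := by rw [he, hY, pow_succ]; ring
    refine ⟨u, huo, ?_, hidx⟩
    have h := card_class_mul u
    rw [← hidx, mul_comm (Nat.card (centralizer ({u} : Set Y)))] at h
    exact Nat.eq_of_mul_eq_mul_right Nat.card_pos h
  have hcases := three_lemma hY ht'o ht'3 h2c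
  have hconjY : IsConj t' tY := by
    rcases hcases with ⟨rfl, -⟩ | ⟨-, -, h, -⟩
    · exact conj_of_small (b := f + 1) (by rw [hY, pow_one]) ht'o htYo
    · exact h tY htYo
  have hidx : Nat.card (centralizer ({tY} : Set Y)) * 3 = Nat.card Y := by
    rw [← card_centralizer_of_isConj hconjY, ht'e]
  have h3 : Nat.card {z : Y // IsConj tY z} = 3 := by
    have h := card_class_mul tY
    rw [← hidx, mul_comm (Nat.card (centralizer ({tY} : Set Y)))] at h
    exact Nat.eq_of_mul_eq_mul_right Nat.card_pos h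
  obtain ⟨e, -, he, heG⟩ := hcen tY htYo
  change Nat.card (centralizer ({t * y} : Set G)) = 2 ^ e * 3 ^ f at heG
  obtain rfl : e = d := (pow_mul_inj (a := e) (b := f + 1) (a' := d) (b' := f + 1) Nat.prime_three h32
    (by rw [← hY, ← hidx, he, pow_succ]; ring)).1
  rcases three_lemma hY htYo h3 h2c with ⟨rfl, huniq⟩ | ⟨rfl, hsq, hinv, hfix⟩
  · refine ⟨Or.inl (by rw [heG, pow_one]), fun w z hw hwt hwy hzt _ => ?_⟩
    obtain ⟨k, hk⟩ := hw
    rcases huniq ⟨w, mem_centralizer_singleton_iff.mpr hwy⟩ ⟨k, Subtype.ext (by simpa using hk)⟩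
      (Subtype.ext hwt) with h | h
    · rw [show w = 1 from congrArg Subtype.val h]; simp
    · rw [show w = t from congrArg Subtype.val h]; exact hzt.symm
  · have hY4 : Nat.card Y = 4 * 3 ^ (f + 1) := by rw [hY]; rfl
    refine ⟨Or.inr ⟨hY4, by rw [heG]; rfl, ?_, ?_, ?_⟩, fun w z hw hwt hwy hzt hzy => ?_⟩
    · rw [roots_odd (by rw [hy]; decide)]
      have e3 : Nat.card {u : G // u * y = y * u ∧ u * u = 1} = Nat.card {u : Y // u * u = 1} :=
        Nat.card_congr
          { toFun := fun u => ⟨⟨u.1, mem_centralizer_singleton_iff.mpr u.2.1⟩, Subtype.ext u.2.2⟩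
            invFun := fun u => ⟨(u.1 : G), mem_centralizer_singleton_iff.mp u.1.2, congrArg Subtype.val u.2⟩
            left_inv := fun u => rfl
            right_inv := fun u => rfl }
      have e4 : Nat.card {z : Y // orderOf z = 2} = 3 := by
        rw [← h3]
        exact Nat.card_congr (Equiv.subtypeEquivRight fun z =>
          ⟨fun h => hinv z h, fun h => by rw [orderOf_of_isConj h, htYo]⟩)
      rw [e3, card_sq_one Y, e4]
    · refine Nat.card_eq_zero.mpr (Or.inl ⟨fun ⟨s, hs⟩ => ?_⟩)
      have ht2 : t ^ 2 = 1 := by rw [← ht]; exact pow_orderOf_eq_one t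
      have hmem : s ∈ centralizer ({t * y} : Set G) :=
        mem_centralizer_singleton_iff.mpr (by rw [← hs, mul_assoc])
      rw [centralizer_mul_eq hcop ht2 hy3 hc, mem_inf] at hmem
      have hty := order_mul ht Nat.prime_three h32 hy hc
      have hs12 : s ^ 12 = 1 := by
        rw [show (12 : ℕ) = 2 * 6 from rfl, pow_mul, pow_two, hs]
        exact orderOf_dvd_iff_pow_eq_one.mp (by rw [hty])
      set sY : Y := ⟨s, hmem.2⟩
      have h := hsq (sY ^ 3) ⟨2, Subtype.ext (by
        show (s ^ 3) ^ 2 ^ 2 = 1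
        rw [← pow_mul]; exact hs12)⟩
      have h' : s ^ 3 * s ^ 3 = 1 := congrArg Subtype.val h
      have h6 : (t * y) ^ 3 = 1 := by rw [← hs, ← pow_two, ← pow_mul, ← h', ← pow_add]
      have := orderOf_dvd_of_pow_eq_one h6
      rw [hty] at this
      omega
    · intro u hu huy
      obtain ⟨k, hk⟩ := isConj_iff.mp (hinv ⟨u, mem_centralizer_singleton_iff.mpr huy⟩
        (by rw [← Subgroup.orderOf_coe]; exact hu)).symm
      exact ⟨(k : G), mem_centralizer_singleton_iff.mp k.2, congrArg Subtype.val hk⟩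
    · obtain ⟨k, hk⟩ := hw
      set wY : Y := ⟨w, mem_centralizer_singleton_iff.mpr hwy⟩
      rcases eq_or_ne wY 1 with h | h
      · rw [show w = 1 from congrArg Subtype.val h]; simp
      · have ho : orderOf wY = 2 := orderOf_eq_prime (by
          rw [pow_two]; exact hsq wY ⟨k, Subtype.ext (by simpa using hk)⟩) h
        exact (congrArg Subtype.val (hfix ⟨z, mem_centralizer_singleton_iff.mpr hzy⟩ (Subtype.ext hzt)
          wY ho)).symm

/-- A large Sylow subgroup in the centraliser of an involution does not occur. -/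
theorem five_f [IsSimpleGroup G] (hB : S.V.ShapeB) (hl : S.others.card = 2) {t : G} {a f : ℕ}
    (ht : orderOf t = 2) (hX : Nat.card (centralizer ({t} : Set G)) = 2 ^ a * 3 ^ f)
    (hh : S.h = 2 ^ a * 3 ^ (f + 1)) (hf : 1 ≤ f) : f ≤ 2 := by
  haveI : Fact (Nat.Prime 3) := ⟨Nat.prime_three⟩
  have hE : S.extra.card ≤ 5 := by rw [S.card_extra, S.card_named_B hB, hl]
  have hrh : 3 ∣ S.h := hh ▸ (dvd_pow_self 3 (by omega)).mul_left _
  have hab := S.abelian_of_dvd Nat.prime_three (by norm_num) hrh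
  set X := centralizer ({t} : Set G) with hXdef
  have hv := order_gen4 S.hB
  -- exponent three
  have hexp : ∀ x : X, ∀ k, x ^ 3 ^ k = 1 → x ^ 3 = 1 := by
    intro x k hk
    obtain ⟨j, -, hj⟩ := (Nat.dvd_prime_pow Nat.prime_three).mp (orderOf_dvd_of_pow_eq_one hk)
    refine orderOf_dvd_iff_pow_eq_one.mp ?_
    rcases Nat.lt_or_ge j 2 with h | h
    · rw [hj]
      calc 3 ^ j ∣ 3 ^ 1 := pow_dvd_pow 3 (by omega)
        _ = 3 := pow_one 3
    · exfalso
      set u := x ^ 3 ^ (j - 2) with hu
      have huo : orderOf u = 9 := by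
        rw [hu, orderOf_pow' _ (by positivity), hj, Nat.gcd_eq_right (pow_dvd_pow 3 (by omega)),
          Nat.pow_div (by omega) (by norm_num), show j - (j - 2) = 2 by omega] <;> norm_num
      have huG : orderOf (u : G) = 9 := by rw [Subgroup.orderOf_coe]; exact huo
      have hut : (u : G) * t = t * u := mem_centralizer_singleton_iff.mp u.2
      have h18 : orderOf (t * (u : G)) = 18 := by
        rw [Commute.orderOf_mul_eq_mul_orderOf_of_coprime hut.symm (by rw [ht, huG]; norm_num), ht, huG]
      have hy3 : orderOf ((u : G) ^ 3) = 3 := by rw [orderOf_pow' _ (by norm_num), huG]; norm_num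
      have hty : orderOf (t * (u : G) ^ 3) = 6 := by
        rw [order_mul ht Nat.prime_three (by norm_num) hy3 ((show Commute t (u : G) from hut.symm).pow_right 3)]
      refine S.list_false hE ![t, S.hB.gen, (u : G) ^ 3, t * (u : G) ^ 3, (u : G), t * (u : G)]
        (fun i => ?_) (fun i j hij => ?_)
      · fin_cases i
        · exact ⟨ne_one_of_order ht le_rfl, S.off_of_comm_invol ht rfl⟩
        · exact ⟨ne_one_of_order hv (by norm_num), S.off_of_even (x := S.hB.gen) (by rw [hv]; norm_num)⟩
        · exact ⟨ne_one_of_order hy3 (by norm_num),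
            S.off_of_comm_invol ht ((show Commute (u : G) t from hut).pow_left 3).eq⟩
        · exact ⟨ne_one_of_order hty (by norm_num), S.off_of_even (x := t * (u : G) ^ 3) (by rw [hty]; norm_num)⟩
        · exact ⟨ne_one_of_order huG (by norm_num), S.off_of_comm_invol ht hut⟩
        · exact ⟨ne_one_of_order h18 (by norm_num), S.off_of_even (x := t * (u : G)) (by rw [h18]; norm_num)⟩
      · fin_cases i <;> fin_cases j <;> first
          | exact absurd hij (by decide)
          | (refine not_conj_of_order ?_; simp [ht, hv, hy3, hty, huG, huo, h18])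
  have ord3 : ∀ (F : Sylow 3 X), ∀ x ∈ F, x ≠ 1 → orderOf x = 3 := fun F x hx h1 => by
    obtain ⟨k, hk⟩ := F.isPGroup' ⟨x, hx⟩
    exact orderOf_eq_prime (hexp x k (congrArg Subtype.val hk)) h1
  obtain ⟨i, j, hi, hj, hij⟩ := two_orbits hf hX (fun F x hx z hz => comm_of_sylow hab F x hx z hz)
    (fun F x hx y hy z hz h1 h2 h3 =>
      S.three_false hE ht (ord3 F x hx h1) (ord3 F y hy h2) (ord3 F z hz h3))
  rcases hij with h | ⟨hsum, F, y, hy, y', hy', hy1, hy'1, hne⟩
  · rcases prime_pow_sub_one Nat.prime_three (by norm_num) hf h with h | ⟨-, h⟩ <;> omega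
  by_contra hf2
  have hf4 : 4 ≤ f := by
    by_contra hc
    obtain rfl : f = 3 := by omega
    exact no_twenty_seven hsum
  have h81 : 81 ≤ 3 ^ f := le_trans (by norm_num) (Nat.pow_le_pow_right (show 0 < 3 by norm_num) hf4)
  have ha : 64 ≤ 2 ^ a := two_pow_ge hi hj (by omega)
  have hy3 := ord3 F y hy hy1
  have hy'3 := ord3 F y' hy' hy'1
  rw [← Subgroup.orderOf_coe] at hy3 hy'3
  have hct : t * (y : G) = y * t := (mem_centralizer_singleton_iff.mp y.2).symm
  have hct' : t * (y' : G) = y' * t := (mem_centralizer_singleton_iff.mp y'.2).symm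
  have o1 := order_mul ht Nat.prime_three (by norm_num) hy3 hct
  have o2 := order_mul ht Nat.prime_three (by norm_num) hy'3 hct'
  have hd : ∀ k, (![t, S.hB.gen, (y : G), t * (y : G), t * (y' : G)] : Fin 5 → G) k ≠ 1 ∧
      S.Off ((![t, S.hB.gen, (y : G), t * (y : G), t * (y' : G)] : Fin 5 → G) k) := by
    intro k
    fin_cases k
    · exact ⟨ne_one_of_order ht le_rfl, S.off_of_comm_invol ht rfl⟩
    · exact ⟨ne_one_of_order hv (by norm_num), S.off_of_even (x := S.hB.gen) (by rw [hv]; norm_num)⟩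
    · exact ⟨ne_one_of_order hy3 (by norm_num), S.off_of_comm_invol ht hct.symm⟩
    · exact ⟨ne_one_of_order o1 (by norm_num), S.off_of_even (x := t * (y : G)) (by rw [o1]; norm_num)⟩
    · exact ⟨ne_one_of_order o2 (by norm_num), S.off_of_even (x := t * (y' : G)) (by rw [o2]; norm_num)⟩
  have hn : ∀ k l, k < l → ¬ IsConj ((![t, S.hB.gen, (y : G), t * (y : G), t * (y' : G)] : Fin 5 → G) k)
      ((![t, S.hB.gen, (y : G), t * (y : G), t * (y' : G)] : Fin 5 → G) l) := by
    intro k l hkl
    fin_cases k <;> fin_cases l <;> first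
      | exact absurd hkl (by decide)
      | exact fun h => hne (conj_in_centralizer (by norm_num) ht
          (Subtype.ext (show (y : G) ^ 3 = 1 by rw [← hy3]; exact pow_orderOf_eq_one _))
          (Subtype.ext (show (y' : G) ^ 3 = 1 by rw [← hy'3]; exact pow_orderOf_eq_one _)) h)
      | (refine not_conj_of_order ?_; simp [ht, hv, hy3, o1, o2])
  have horders : ∀ z, S.Off z → orderOf z = 1 ∨ orderOf z = 2 ∨ orderOf z = 4 ∨ orderOf z = 3 ∨ orderOf z = 6 := by
    intro z hzo
    rcases eq_or_ne z 1 with rfl | hz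
    · exact Or.inl orderOf_one
    obtain ⟨k, hk⟩ := S.conj_of_full _ hd hn hE hz hzo
    fin_cases k
    · exact Or.inr (Or.inl (by rw [orderOf_of_isConj hk]; exact ht))
    · exact Or.inr (Or.inr (Or.inl (by rw [orderOf_of_isConj hk]; exact hv)))
    · exact Or.inr (Or.inr (Or.inr (Or.inl (by rw [orderOf_of_isConj hk]; exact hy3))))
    · exact Or.inr (Or.inr (Or.inr (Or.inr (by rw [orderOf_of_isConj hk]; exact o1))))
    · exact Or.inr (Or.inr (Or.inr (Or.inr (by rw [orderOf_of_isConj hk]; exact o2))))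
  obtain ⟨cvd, hcv, hk2⟩ : ∃ k, Nat.card (centralizer ({S.hB.gen} : Set G)) = 2 ^ k ∧ 2 ≤ k := by
    have hd' := S.centralizer_dvd_h (hd 1).2 (hd 1).1
    change Nat.card (centralizer ({S.hB.gen} : Set G)) ∣ S.h at hd'
    rw [hh] at hd'
    have h3 : ¬ 3 ∣ Nat.card (centralizer ({S.hB.gen} : Set G)) := fun h => by
      obtain ⟨⟨u, hu⟩, huo⟩ := exists_prime_orderOf_dvd_card' 3 h
      rw [Subgroup.orderOf_mk] at huo
      have hcu : Commute S.hB.gen u := (mem_centralizer_singleton_iff.mp hu).symm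
      have ho := hcu.orderOf_mul_eq_mul_orderOf_of_coprime (by rw [hv, huo]; norm_num)
      rw [hv, huo] at ho
      rcases horders (S.hB.gen * u) (S.off_of_even (by rw [ho]; norm_num)) with h | h | h | h | h <;> omega
    obtain ⟨k, -, hk2⟩ := (Nat.dvd_prime_pow Nat.prime_two).mp
      ((Nat.Coprime.pow_right (f + 1) ((Nat.prime_three.coprime_iff_not_dvd.mpr h3).symm)).dvd_of_dvd_mul_right hd')
    refine ⟨k, hk2, ?_⟩
    have h4 : 4 ∣ 2 ^ k := by
      have h := Subgroup.orderOf_dvd_natCard (centralizer ({S.hB.gen} : Set G))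
        (mem_centralizer_singleton_iff.mpr rfl : S.hB.gen ∈ centralizer ({S.hB.gen} : Set G))
      rw [hv, hk2] at h
      exact h
    exact (Nat.pow_dvd_pow_iff_le_right (show 1 < 2 by norm_num)).mp (show 2 ^ 2 ∣ 2 ^ k from h4)
  have heq := S.extra_sum _ hd hn hE
  rw [Fin.sum_univ_five] at heq
  simp only [Matrix.cons_val_zero, Matrix.cons_val_one, Matrix.cons_val_two, Matrix.cons_val_three,
    Matrix.cons_val_four, Matrix.head_cons, Matrix.tail_cons] at heq
  rw [hcv, ← S.N_mul_h, ← hXdef] at heq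
  -- lower bounds for the other centralisers
  have big : ∀ z : X, z ^ 3 = 1 → orderOf (z : G) = 3 → 486 ≤ Nat.card (centralizer ({(z : G)} : Set G)) ∧
      162 ≤ Nat.card (centralizer ({t * (z : G)} : Set G)) := by
    intro z hz hzo
    have hz3 : (z : G) ^ 3 = 1 := congrArg Subtype.val hz
    have hzc : t * (z : G) = z * t := (mem_centralizer_singleton_iff.mp z.2).symm
    have ht2 : t ^ 2 = 1 := by rw [← ht]; exact pow_orderOf_eq_one t
    have b1 : 3 ^ (f + 1) ∣ Nat.card (centralizer ({(z : G)} : Set G)) := pow_dvd_centralizer (k := 1)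
      (S.N_mul_h ▸ hh ▸ (dvd_mul_left _ _).mul_left _) hab (by rw [pow_one]; exact hz3)
    have b2 : 3 ^ f ∣ Nat.card (centralizer ({t * (z : G)} : Set G)) := by
      have h := pow_dvd_centralizer (G := X) (r := 3) (b := f) (hX ▸ dvd_mul_left _ _)
        (sylow_comm_sub hab _) (x := z) (k := 1) (by rw [pow_one]; exact hz)
      have e : Nat.card (centralizer ({z} : Set X)) = Nat.card (centralizer ({t * (z : G)} : Set G)) :=
        card_cent_in (by norm_num : Nat.Coprime 2 3) ht2 hz3 hzc
      rwa [e] at h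
    have c2 : (2 : ℕ) ∣ Nat.card (centralizer ({t * (z : G)} : Set G)) := by
      rw [← ht]
      exact Subgroup.orderOf_dvd_natCard _ (mem_centralizer_singleton_iff.mpr
        ((Commute.refl t).mul_right (show Commute t (z : G) from hzc)).eq)
    have c1 : (2 : ℕ) ∣ Nat.card (centralizer ({(z : G)} : Set G)) := by
      rw [← ht]
      exact Subgroup.orderOf_dvd_natCard _ (mem_centralizer_singleton_iff.mpr hzc)
    have cop : ∀ m, Nat.Coprime 2 (3 ^ m) := fun m => Nat.Coprime.pow_right m (by norm_num)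
    have d1 := Nat.le_of_dvd Nat.card_pos ((cop _).mul_dvd_of_dvd_of_dvd c1 b1)
    have d2 := Nat.le_of_dvd Nat.card_pos ((cop _).mul_dvd_of_dvd_of_dvd c2 b2)
    rw [pow_succ] at d1
    constructor <;> omega
  obtain ⟨by1, by2⟩ := big y (Subtype.ext (show (y : G) ^ 3 = 1 by rw [← hy3]; exact pow_orderOf_eq_one _)) hy3
  obtain ⟨-, by3⟩ := big y' (Subtype.ext (show (y' : G) ^ 3 = 1 by rw [← hy'3]; exact pow_orderOf_eq_one _)) hy'3
  have hc0 : 5184 ≤ Nat.card X := by rw [hX]; exact le_trans (by norm_num) (Nat.mul_le_mul ha h81)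
  have hN := S.N_big hrh
  have hidx := S.shapeB_index hB hl ht
  have hle := S.h_le
  rw [hidx] at hle
  have hG0 : 5184 ≤ S.N * S.h := by
    have h1 : 1 * 5184 ≤ S.N * S.h := Nat.mul_le_mul (by omega) (by
      rw [hidx]
      change 5184 ≤ 3 * Nat.card X
      omega)
    omega
  have hn1 : S.n₁ = 5 := by have := S.K1_eq; rw [hB.K1] at this; omega
  have i1 := inv_le (n := Nat.card X) (m := 5184) (by norm_num) hc0 1 one_pos
  have i2 := inv_le (by norm_num) by1 1 one_pos
  have i3 := inv_le (by norm_num) by2 1 one_pos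
  have i4 := inv_le (by norm_num) by3 1 one_pos
  have i5 := inv_le (by norm_num) hG0 1 one_pos
  have p1 : (0 : ℚ) ≤ 1 / (Nat.card X : ℚ) := by positivity
  have p2 : (0 : ℚ) ≤ 1 / (Nat.card (centralizer ({(y : G)} : Set G)) : ℚ) := by positivity
  have p3 : (0 : ℚ) ≤ 1 / (Nat.card (centralizer ({t * (y : G)} : Set G)) : ℚ) := by positivity
  have p4 : (0 : ℚ) ≤ 1 / (Nat.card (centralizer ({t * (y' : G)} : Set G)) : ℚ) := by positivity
  have p5 : (0 : ℚ) ≤ 1 / ((S.N * S.h : ℕ) : ℚ) := by positivity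
  simp only [one_mul, Nat.cast_ofNat] at i1 i2 i3 i4 i5
  have hm := S.mass_le
  have hm5 : S.mass = 1 / 10 + 1 / (4 * (S.n₂ : ℚ)) + 1 / (4 * (S.n₃ : ℚ)) := by
    rw [mass, hn1]; norm_num
  have q2 : (0 : ℚ) ≤ 1 / (4 * (S.n₂ : ℚ)) := by positivity
  have q3 : (0 : ℚ) ≤ 1 / (4 * (S.n₃ : ℚ)) := by positivity
  have hk3 : cvd = 3 := by
    by_contra hne
    rcases Nat.lt_or_ge cvd 4 with h | h
    · obtain rfl : cvd = 2 := by omega
      push_cast at heq p5
      linarith
    · have i6 := inv_le (n := 2 ^ cvd) (m := 2 ^ 4) (by norm_num)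
        (Nat.pow_le_pow_right (by norm_num) h) 1 one_pos
      simp only [one_mul] at i6
      push_cast at heq i6 i5

      linarith
  subst hk3
  push_cast at heq p5 i5
  -- the two larger subgroups are small
  obtain ⟨-, t2, t3⟩ := S.three_parts hrh
  have g2 := S.n₂_ge; have g3 := S.n₃_ge; have m2 := S.n₂_mod; have m3 := S.n₃_mod
  have : S.n₂ ≠ 9 := fun h => t2 (h ▸ ⟨3, rfl⟩)
  have : S.n₃ ≠ 9 := fun h => t3 (h ▸ ⟨3, rfl⟩)
  have hM : S.n₂ * S.n₃ ≤ 900 := by
    by_contra hc
    have hbig : ∀ p q : ℕ, 13 ≤ p → p ≤ q → 900 < p * q → 1 / (4 * (p : ℚ)) + 1 / (4 * (q : ℚ)) < 1 / 40 := by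
      intro p q h13 hpq hpq'
      rcases Nat.lt_or_ge p 21 with hp | hp
      · have hq : 45 ≤ q := by
          by_contra h
          have := Nat.mul_le_mul (show p ≤ 20 by omega) (show q ≤ 44 by omega)
          omega
        have e1 := inv_le (by norm_num) h13 4 (by norm_num)
        have e2 := inv_le (by norm_num) hq 4 (by norm_num)
        push_cast at e1 e2
        linarith
      · have e1 := inv_le (by norm_num) hp 4 (by norm_num)
        have e2 := inv_le (by norm_num) (show 21 ≤ q by omega) 4 (by norm_num)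
        push_cast at e1 e2
        linarith
    rcases le_total S.n₂ S.n₃ with h | h
    · have := hbig S.n₂ S.n₃ (by omega) h (by omega)
      linarith
    · have := hbig S.n₃ S.n₂ (by omega) h (by rw [mul_comm]; omega)
      linarith
  rw [N, hn1, mul_assoc] at hle
  have : Nat.card X ≤ 4500 := by
    change 3 * Nat.card X ≤ 3 * (5 * (S.n₂ * S.n₃)) at hle
    omega
  omega

/-- The third shape with two further characters has no commuting pair. -/
theorem no_five [IsSimpleGroup G] (hB : S.V.ShapeB) (hl : S.others.card = 2) {t y : G} {r : ℕ}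
    (ht : orderOf t = 2) (hr : r.Prime) (hr2 : r ≠ 2) (hy : orderOf y = r) (hc : t * y = y * t) : False := by
  obtain rfl := S.five_prime hB hl ht hr hr2 hy hc
  have hE : S.extra.card ≤ 5 := by rw [S.card_extra, S.card_named_B hB, hl]
  haveI : Fact (Nat.Prime 3) := ⟨Nat.prime_three⟩
  set X := centralizer ({t} : Set G) with hXdef
  obtain ⟨a, f, hX⟩ := eq_two_pow_mul Nat.prime_three (Nat.card_pos (α := X)).ne' fun p hp hpd => by
    rcases eq_or_ne p 2 with h | h
    · exact Or.inl h
    · haveI := Fact.mk hp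
      obtain ⟨u, hu⟩ := exists_prime_orderOf_dvd_card' p hpd
      rw [← Subgroup.orderOf_coe] at hu
      exact Or.inr (S.five_prime hB hl ht hp h hu (mem_centralizer_singleton_iff.mp u.2).symm)
  have hf : 1 ≤ f := by
    by_contra h0
    have h := (S.setting ht Nat.prime_three hr2 hy hc).1
    rw [hX, show f = 0 by omega, pow_zero, mul_one] at h
    exact absurd (Nat.prime_three.dvd_of_dvd_pow h) (by norm_num)
  have hh : S.h = 2 ^ a * 3 ^ (f + 1) := by rw [S.shapeB_index hB hl ht, hX, pow_succ]; ring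
  have hXall : ∀ u : G, orderOf u = 2 → Nat.card (centralizer ({u} : Set G)) = 2 ^ a * 3 ^ f :=
    fun u hu => by rw [← hX]; exact card_centralizer_of_isConj (S.conj_invol hu ht)
  have hrh : 3 ∣ S.h := hh ▸ (dvd_pow_self 3 (by omega)).mul_left _
  have hf2 := S.five_f hB hl ht hX hh hf
  obtain ⟨hloc, -⟩ := S.five_local hE hXall hh ht hy hc
  have hn1 : S.n₁ = 5 := by have := S.K1_eq; rw [hB.K1] at this; omega
  rcases (show f = 1 ∨ f = 2 by omega) with rfl | rfl
  · rcases hloc with hZ | ⟨hY, hZ, hR2, hR, hk⟩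
    · have hty := order_mul ht Nat.prime_three hr2 hy hc
      have h := S.sum_le_mass (k := 1) ![t * y]
        (fun i => by fin_cases i; exact ⟨ne_one_of_order hty (by norm_num),
          S.off_of_even (x := t * y) (by rw [hty]; norm_num)⟩)
        (fun i j hij => absurd hij (by omega))
      rw [Fin.sum_univ_one] at h
      simp only [Matrix.cons_val_fin_one] at h
      rw [hZ] at h
      have hm := S.mass_le
      norm_num at h hm
      linarith
    · -- the elements are conjugate to their inverses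
      have hcinv : t * y⁻¹ = y⁻¹ * t := (show Commute t y from hc).inv_right.eq
      have hty := order_mul ht Nat.prime_three hr2 hy hc
      have hty' := order_mul ht Nat.prime_three hr2 (by rw [orderOf_inv]; exact hy : orderOf y⁻¹ = 3) hcinv
      have hy3 : y ^ 3 = 1 := by rw [← hy]; exact pow_orderOf_eq_one y
      have hne_ty : ¬ IsConj y y⁻¹ → ¬ IsConj (t * y) (t * y⁻¹) := by
        intro hne h
        obtain ⟨g, -, hg⟩ := split_conj (show Nat.Coprime 2 3 by norm_num)
          (by rw [← ht]; exact pow_orderOf_eq_one t) (by rw [← ht]; exact pow_orderOf_eq_one t)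
          hy3 (by rw [inv_pow, hy3, inv_one]) hc hcinv h
        exact hne (isConj_iff.mpr ⟨g, hg⟩)
      have hinv : IsConj y y⁻¹ := by
        by_contra hne
        have hv := order_gen4 S.hB
        refine S.list_false hE ![t, S.hB.gen, y, y⁻¹, t * y, t * y⁻¹] (fun i => ?_) (fun i j hij => ?_)
        · fin_cases i
          · exact ⟨ne_one_of_order ht le_rfl, S.off_of_comm_invol ht rfl⟩
          · exact ⟨ne_one_of_order hv (by norm_num), S.off_of_even (x := S.hB.gen) (by rw [hv]; norm_num)⟩
          · exact ⟨ne_one_of_order hy (by norm_num), S.off_of_comm_invol ht hc.symm⟩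
          · exact ⟨inv_ne_one.mpr (ne_one_of_order hy (by norm_num)), S.off_of_comm_invol ht hcinv.symm⟩
          · exact ⟨ne_one_of_order hty (by norm_num), S.off_of_even (x := t * y) (by rw [hty]; norm_num)⟩
          · exact ⟨ne_one_of_order hty' (by norm_num), S.off_of_even (x := t * y⁻¹) (by rw [hty']; norm_num)⟩
        · fin_cases i <;> fin_cases j <;> first
            | exact absurd hij (by decide)
            | exact hne
            | exact hne_ty hne
            | (refine not_conj_of_order ?_; simp [ht, hv, hy, hty, hty'])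
      have hinv' : IsConj (t * y) (t * y)⁻¹ := by
        obtain ⟨g, hg⟩ := isConj_iff.mp hinv
        obtain ⟨k, hky, hku⟩ := hk (g * t * g⁻¹) (by rw [orderOf_conj]; exact ht) (by
          have h1 : g * t * g⁻¹ * y⁻¹ = y⁻¹ * (g * t * g⁻¹) := by
            rw [← hg]
            calc g * t * g⁻¹ * (g * y * g⁻¹) = g * (t * y) * g⁻¹ := by group
              _ = g * (y * t) * g⁻¹ := by rw [hc]
              _ = _ := by group
          exact (show Commute (g * t * g⁻¹) y from by simpa using (show Commute _ _ from h1).inv_right).eq)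
        refine isConj_iff.mpr ⟨k * g, ?_⟩
        have hky' : k * y⁻¹ * k⁻¹ = y⁻¹ :=
          mul_inv_eq_iff_eq_mul.mpr (show Commute k y from hky).inv_right.eq
        calc k * g * (t * y) * (k * g)⁻¹ = (k * (g * t * g⁻¹) * k⁻¹) * (k * (g * y * g⁻¹) * k⁻¹) := by group
          _ = t * y⁻¹ := by rw [hku, hg, hky']
          _ = (t * y)⁻¹ := by
            rw [mul_inv_rev, inv_eq_of_mul_eq_one_left (show t * t = 1 by
              rw [← pow_two, ← ht]; exact pow_orderOf_eq_one t)]
            exact hcinv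
      refine S.no_twelve (Or.inr hB) hn1 (by omega) ht hy hc (fun k hk' => ?_) (fun k hk' => ?_) hZ hY hR hR2
      · rw [hty] at hk'
        have h6 : k % 6 = 1 ∨ k % 6 = 5 := by
          have e : Nat.Coprime (k % 6) 6 := by
            rw [Nat.coprime_iff_gcd_eq_one, ← Nat.gcd_rec, Nat.gcd_comm]; exact hk'
          have : k % 6 < 6 := Nat.mod_lt _ (by norm_num)
          interval_cases (k % 6) <;> norm_num at e <;> simp
        have hp6 : (t * y) ^ k = (t * y) ^ (k % 6) := by
          have h := (pow_mod_orderOf (t * y) k).symm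
          rwa [hty] at h
        rcases h6 with h | h <;> rw [hp6, h]
        · rw [pow_one]
        · have : (t * y) ^ 5 = (t * y)⁻¹ := eq_inv_of_mul_eq_one_left (by
            rw [← pow_succ]
            exact orderOf_dvd_iff_pow_eq_one.mp (by rw [hty]))
          rw [this]; exact hinv'
      · rw [hy] at hk'
        have h3 : k % 3 = 1 ∨ k % 3 = 2 := by
          have : k % 3 ≠ 0 := fun h0 => by
            have h3 := Nat.eq_one_of_dvd_coprimes hk' (Nat.dvd_of_mod_eq_zero h0) dvd_rfl
            omega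
          omega
        have hp3 : y ^ k = y ^ (k % 3) := by
          have h := (pow_mod_orderOf y k).symm
          rwa [hy] at h
        rcases h3 with h | h <;> rw [hp3, h]
        · rw [pow_one]
        · have : y ^ 2 = y⁻¹ := eq_inv_of_mul_eq_one_left (by rw [← pow_succ]; exact hy3)
          rw [this]; exact hinv
  · have hab := S.abelian_of_dvd Nat.prime_three hr2 hrh
    have hX' : Nat.card X = 2 ^ a * 9 := by rw [hX]; norm_num
    have hexp9 : ∀ x : X, x ^ 9 = 1 → x ^ 3 = 1 := by
      intro x hx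
      by_contra h3
      have ho : orderOf (x : G) = 9 := by
        rw [Subgroup.orderOf_coe]
        exact orderOf_eq_prime_pow (p := 3) (n := 1) h3 hx
      have hxt : (x : G) * t = t * x := mem_centralizer_singleton_iff.mp x.2
      have h18 : orderOf (t * (x : G)) = 18 := by
        rw [Commute.orderOf_mul_eq_mul_orderOf_of_coprime hxt.symm (by rw [ht, ho]; norm_num), ht, ho]
      have hty := order_mul ht Nat.prime_three hr2 hy hc
      have hv := order_gen4 S.hB
      refine S.list_false hE ![t, S.hB.gen, y, t * y, (x : G), t * (x : G)] (fun i => ?_) (fun i j hij => ?_)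
      · fin_cases i
        · exact ⟨ne_one_of_order ht le_rfl, S.off_of_comm_invol ht rfl⟩
        · exact ⟨ne_one_of_order hv (by norm_num), S.off_of_even (x := S.hB.gen) (by rw [hv]; norm_num)⟩
        · exact ⟨ne_one_of_order hy (by norm_num), S.off_of_comm_invol ht hc.symm⟩
        · exact ⟨ne_one_of_order hty (by norm_num), S.off_of_even (x := t * y) (by rw [hty]; norm_num)⟩
        · exact ⟨ne_one_of_order ho (by norm_num), S.off_of_comm_invol ht hxt⟩
        · exact ⟨ne_one_of_order h18 (by norm_num), S.off_of_even (x := t * (x : G)) (by rw [h18]; norm_num)⟩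
      · fin_cases i <;> fin_cases j <;> first
          | exact absurd hij (by decide)
          | (refine not_conj_of_order ?_; simp [ht, hv, hy, hty, ho, h18])
    have hsplit : ∀ z : X, orderOf z = 3 → ∀ w x : X, TwoEl w → orderOf x = 3 → w * z = z * w →
        x * z = z * x → w * x = x * w := by
      intro z hz w x hw _ hwz hxz
      rw [← Subgroup.orderOf_coe] at hz
      obtain ⟨-, hs⟩ := S.five_local hE hXall hh ht hz (mem_centralizer_singleton_iff.mp z.2).symm
      obtain ⟨k, hk⟩ := hw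
      exact Subtype.ext (hs w x ⟨k, congrArg Subtype.val hk⟩ (mem_centralizer_singleton_iff.mp w.2)
        (congrArg Subtype.val hwz) (mem_centralizer_singleton_iff.mp x.2) (congrArg Subtype.val hxz))
    set yX : X := ⟨y, mem_centralizer_singleton_iff.mpr hc.symm⟩
    have hCX : Nat.card (centralizer ({yX} : Set X)) = Nat.card (centralizer ({t * y} : Set G)) :=
      card_cent_in (by norm_num : Nat.Coprime 2 3) (by rw [← ht]; exact pow_orderOf_eq_one t)
        (by rw [← hy]; exact pow_orderOf_eq_one y) hc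
    have hle := card_le_nine hX' hexp9 hsplit (y := yX) (by rw [← Subgroup.orderOf_coe]; exact hy)
    rw [hCX] at hle
    have hZ : Nat.card (centralizer ({t * y} : Set G)) ≤ 36 := by
      rcases hloc with hZ | ⟨-, hZ, -⟩ <;> rw [hZ] <;> norm_num
    have hN := S.N_big hrh
    have hlt := S.others_lt_h
    rw [hl, S.shapeB_index hB hl ht] at hlt
    change 2 * S.N < 3 * Nat.card X at hlt
    omega

end Sys

end Cfsg.Agent.SSCThree
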