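import Cfsg.Agent.Lib.SSCThree.ThreeClass

/-!
# A group of order `2 ^ a * 9` whose centralisers of elements of order three split
-/

set_option autoImplicit false
set_option linter.unusedSectionVars false
set_option linter.style.haveILetI false

namespace Cfsg.Agent.SSCThree

open Subgroup
open scoped Classical

universe u

variable {X : Type u} [Group X] [Finite X]

theorem card_le_nine {a : ℕ} (hcard : Nat.card X = 2 ^ a * 9) (hexp : ∀ y : X, y ^ 9 = 1 → y ^ 3 = 1)
    (hsplit : ∀ y : X, orderOf y = 3 → ∀ w z : X, TwoEl w → orderOf z = 3 → w * y = y * w →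
      z * y = y * z → w * z = z * w)
    {y : X} (hy : orderOf y = 3) :
    Nat.card X ≤ 8 * Nat.card (centralizer ({y} : Set X)) := by
  haveI : Fact (Nat.Prime 2) := ⟨Nat.prime_two⟩
  haveI : Fact (Nat.Prime 3) := ⟨Nat.prime_three⟩
  haveI := Fintype.ofFinite X
  obtain ⟨F, hF⟩ := IsPGroup.exists_le_sylow (P := zpowers y)
    (IsPGroup.of_card (n := 1) (by rw [Nat.card_zpowers, hy, pow_one]))
  have hfact : (Nat.card X).factorization 3 = 2 := by
    rw [hcard, show (9 : ℕ) = 3 ^ 2 by norm_num, Nat.factorization_mul (by positivity) (by positivity),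
      Nat.factorization_pow, Nat.factorization_pow]
    simp [Nat.prime_two.factorization, Nat.prime_three.factorization]
  have cF : Nat.card (F : Subgroup X) = 3 ^ 2 := by rw [F.card_eq_multiplicity, hfact]
  haveI : IsMulCommutative (F : Subgroup X) := IsPGroup.isMulCommutative_of_card_eq_prime_sq cF
  have cube : ∀ z ∈ (F : Subgroup X), z ^ 3 = 1 := fun z hz => hexp z (by
    have h := congrArg Subtype.val (pow_card_eq_one' (G := (F : Subgroup X)) (x := ⟨z, hz⟩))
    rw [cF] at h
    exact h)
  have ord3 : ∀ z ∈ (F : Subgroup X), z ≠ 1 → orderOf z = 3 := fun z hz h =>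
    orderOf_eq_prime (cube z hz) h
  have Fc : ∀ a ∈ (F : Subgroup X), ∀ b ∈ (F : Subgroup X), a * b = b * a := fun a ha b hb =>
    congrArg Subtype.val (IsMulCommutative.is_comm.comm (⟨a, ha⟩ : (F : Subgroup X)) ⟨b, hb⟩)
  -- two-elements centralising a non-trivial element of `F` centralise `F`
  have hwF : ∀ f ∈ (F : Subgroup X), f ≠ 1 → ∀ w, TwoEl w → w * f = f * w →
      ∀ z ∈ (F : Subgroup X), w * z = z * w := by
    intro f hf hf1 w hw hwf z hz
    rcases eq_or_ne z 1 with rfl | hz1
    · simp
    · exact hsplit f (ord3 f hf hf1) w z hw (ord3 z hz hz1) hwf (Fc z hz f hf)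
  -- `F` contains every element of order three commuting with a non-trivial element of it
  have hmem : ∀ f ∈ (F : Subgroup X), f ≠ 1 → ∀ z : X, orderOf z = 3 → z * f = f * z →
      z ∈ (F : Subgroup X) := by
    intro f hf hf1 z hz hzf
    set C := centralizer ({f} : Set X)
    have hFC : (F : Subgroup X) ≤ C := fun x hx => mem_centralizer_singleton_iff.mpr (Fc x hx f hf)
    let FC : Sylow 3 C := F.subtype hFC
    have hnorm : ∀ x ∈ C, x ∈ normalizer ((F : Subgroup X) : Set X) := by
      intro x hx
      obtain ⟨k, m, hm, hxm⟩ := Nat.exists_eq_two_pow_mul_odd (orderOf_pos x).ne'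
      obtain ⟨P⟩ := (inferInstance : Nonempty (Sylow 2 C))
      have htop : (FC : Subgroup C) ⊔ (P : Subgroup C) = ⊤ := by
        refine FittingCores.eq_top_of_forall_sylow_le fun p hp => ?_
        haveI := Fact.mk hp
        rcases eq_or_ne p 2 with rfl | hp2
        · exact ⟨P, le_sup_right⟩
        rcases eq_or_ne p 3 with rfl | hp3
        · exact ⟨FC, le_sup_left⟩
        · obtain ⟨Q⟩ := (inferInstance : Nonempty (Sylow p C))
          refine ⟨Q, ?_⟩
          have hbot : (Q : Subgroup C) = ⊥ := by
            have hnd : ¬ p ∣ Nat.card C := fun h => by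
              have h' := h.trans (card_subgroup_dvd_card C)
              rw [hcard, show (9 : ℕ) = 3 ^ 2 by norm_num] at h'
              rcases hp.dvd_mul.mp h' with h2 | h3
              · exact hp2 ((Nat.prime_dvd_prime_iff_eq hp Nat.prime_two).mp (hp.dvd_of_dvd_pow h2))
              · exact hp3 ((Nat.prime_dvd_prime_iff_eq hp Nat.prime_three).mp (hp.dvd_of_dvd_pow h3))
            rw [← Subgroup.card_eq_one, Q.card_eq_multiplicity, Nat.factorization_eq_zero_of_not_dvd hnd,
              pow_zero]
          rw [hbot]; exact bot_le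
      have hle : C ≤ normalizer ((F : Subgroup X) : Set X) := by
        intro w hw
        have : (⟨w, hw⟩ : C) ∈ ((FC : Subgroup C) ⊔ (P : Subgroup C)) := htop ▸ Subgroup.mem_top _
        have key : ((FC : Subgroup C) ⊔ (P : Subgroup C)).map C.subtype ≤
            normalizer ((F : Subgroup X) : Set X) := by
          rw [Subgroup.map_sup]
          refine sup_le ?_ ?_
          · rintro _ ⟨q, hq, rfl⟩
            exact le_normalizer (mem_subgroupOf.mp hq)
          · rintro _ ⟨q, hq, rfl⟩
            obtain ⟨j, hj⟩ := P.isPGroup' ⟨q, hq⟩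
            have hq2 : TwoEl (q : X) := ⟨j, congrArg (fun r : (P : Subgroup C) => ((r : C) : X)) hj⟩
            refine mem_normalizer_iff.mpr fun s => ?_
            have hqs : ∀ s ∈ (F : Subgroup X), (q : X) * s * (q : X)⁻¹ = s := fun s hs =>
              mul_inv_eq_iff_eq_mul.mpr (hwF f hf hf1 _ hq2 (mem_centralizer_singleton_iff.mp q.2) s hs)
            constructor
            · intro hs; show (q : X) * s * (q : X)⁻¹ ∈ (F : Subgroup X); rw [hqs s hs]; exact hs
            · intro hs
              change (q : X) * s * (q : X)⁻¹ ∈ (F : Subgroup X) at hs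
              have h := hqs _ hs
              have : (q : X) * s * (q : X)⁻¹ = s := mul_left_cancel (mul_right_cancel h)
              rwa [this] at hs
        exact key ⟨_, this, rfl⟩
      exact hle hx
    have hn : ((FC : Subgroup C)).Normal := ⟨fun q hq g => mem_subgroupOf.mpr
      (((mem_normalizer_iff.mp (hnorm g g.2)) q).mp (mem_subgroupOf.mp hq))⟩
    haveI := Sylow.unique_of_normal FC hn
    obtain ⟨P', hP'⟩ := IsPGroup.exists_le_sylow
      (P := zpowers (⟨z, mem_centralizer_singleton_iff.mpr hzf⟩ : C))
      (IsPGroup.of_card (n := 1) (by rw [Nat.card_zpowers, Subgroup.orderOf_mk, hz, pow_one]))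
    rw [Subsingleton.elim P' FC] at hP'
    exact mem_subgroupOf.mp (hP' (mem_zpowers _))
  -- some element of order three spans a normal subgroup, or `F` is normal
  haveI : Group.IsSolvable X := Char.isSolvable_of_card_pq 2 3 Nat.prime_two Nat.prime_three _ X rfl
    ⟨a, 2, hcard⟩
  have hF : (F : Subgroup X).Normal := by
    by_cases hcore : Cfsg.pPrimeCore 2 X = ⊥
    · exfalso
      have hle : Cfsg.pCore 2 X ≤ centralizer ((F : Subgroup X) : Set X) := by
        have hp2 := FittingCores.pCore_isPGroup (G := X) 2
        haveI := FittingCores.pCore_normal (G := X) 2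
        refine Signalizer.le_of_centralizer_le (p := 3) (B := (F : Subgroup X))
          ⟨inferInstance, cube⟩ cF.ge (by rw [normalizer_eq_top]; exact le_top) ?_ ?_
        · obtain ⟨j, hj⟩ := IsPGroup.iff_card.mp hp2
          rw [hj]
          exact fun h => absurd (Nat.prime_three.dvd_of_dvd_pow h) (by norm_num)
        · rintro f hf hf1 w ⟨hw, hwc⟩
          obtain ⟨j, hj⟩ := hp2 ⟨w, hw⟩
          exact mem_centralizer_iff.mpr fun z hz => (hwF f hf hf1 w ⟨j, congrArg Subtype.val hj⟩
            (mem_centralizer_singleton_iff.mp hwc) z hz).symm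
      have hcen := FittingCores.centralizer_pCore_le Nat.prime_two hcore
      have hy2 : y ∈ Cfsg.pCore 2 X := hcen (mem_centralizer_iff.mpr fun z hz =>
        (mem_centralizer_iff.mp (hle hz) y (hF (mem_zpowers y))).symm)
      obtain ⟨j, hj⟩ := FittingCores.pCore_isPGroup (G := X) 2 ⟨y, hy2⟩
      have hd : orderOf y ∣ 2 ^ j := orderOf_dvd_of_pow_eq_one (congrArg Subtype.val hj)
      rw [hy] at hd
      exact absurd (Nat.prime_three.dvd_of_dvd_pow hd) (by norm_num)
    · obtain ⟨M, ⟨hMn, hMc⟩, hMb⟩ : ∃ M : Subgroup X, (M.Normal ∧ (Nat.card M).Coprime 2) ∧ M ≠ ⊥ := by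
        by_contra! h
        exact hcore (le_bot_iff.mp (sSup_le fun M hM => (h M hM).le))
      have hM9 : Nat.card M ∣ 3 ^ 2 := by
        refine (Nat.Coprime.pow_right a hMc).dvd_of_dvd_mul_left ?_
        have h := M.card_subgroup_dvd_card
        rw [hcard] at h
        exact h
      obtain ⟨j, -, hj⟩ := (Nat.dvd_prime_pow Nat.prime_three).mp hM9
      have hMp : IsPGroup 3 M := IsPGroup.of_card hj
      have hMF : M ≤ (F : Subgroup X) := hMp.le_sylow_of_normal F
      obtain ⟨m, hm, hm1⟩ := (bot_or_exists_ne_one M).resolve_left hMb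
      by_cases hj2 : j = 2
      · rwa [← eq_of_le_of_card_ge hMF (by rw [cF, hj, hj2])]
      · have hM3 : ∀ z ∈ M, z = 1 ∨ z = m ∨ z = m * m := by
          intro z hz
          have hMz : M = zpowers m := (eq_of_le_of_card_ge (zpowers_le.mpr hm) (by
            rw [hj, Nat.card_zpowers, ord3 m (hMF hm) hm1]
            exact le_trans (Nat.pow_le_pow_right (by norm_num) (show j ≤ 1 by
              have : j ≤ 2 := (Nat.pow_dvd_pow_iff_le_right (show 1 < 3 by norm_num)).mp (hj ▸ hM9)
              omega)) (by norm_num))).symm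
          rw [hMz, ← mem_powers_iff_mem_zpowers] at hz
          obtain ⟨i, rfl⟩ := hz
          have hi : m ^ i = m ^ (i % 3) := by rw [← ord3 m (hMF hm) hm1, pow_mod_orderOf]
          simp only [hi]
          have : i % 3 < 3 := Nat.mod_lt _ (by norm_num)
          interval_cases (i % 3) <;> simp [pow_two]
        refine ⟨fun z hz g => ?_⟩
        rcases eq_or_ne z 1 with rfl | hz1
        · rw [mul_one, mul_inv_cancel]; exact one_mem _
        refine hmem m (hMF hm) hm1 _ (by rw [orderOf_conj]; exact ord3 z hz hz1) ?_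
        have hc : z * (g⁻¹ * m * g) = g⁻¹ * m * g * z := by
          have h := hMn.conj_mem m hm g⁻¹
          rw [inv_inv] at h
          exact Fc z hz _ (hMF h)
        calc g * z * g⁻¹ * m = g * (z * (g⁻¹ * m * g)) * g⁻¹ := by group
          _ = g * (g⁻¹ * m * g * z) * g⁻¹ := by rw [hc]
          _ = _ := by group
  -- the class of `y` lies in `F`
  have hcl : Nat.card {z : X // IsConj y z} ≤ 8 := by
    let g : {z : X // IsConj y z} → {z : (F : Subgroup X) // z ≠ 1} := fun z =>
      ⟨⟨z.1, by
        obtain ⟨g, hg⟩ := isConj_iff.mp z.2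
        exact hg ▸ hF.conj_mem y ((show zpowers y ≤ (F : Subgroup X) by assumption) (mem_zpowers y)) g⟩,
        fun h => by
          have := orderOf_of_isConj z.2
          rw [show z.1 = 1 from congrArg Subtype.val h, orderOf_one, hy] at this
          omega⟩
    refine (Nat.card_le_card_of_injective g fun p q h => Subtype.ext ?_).trans ?_
    · exact congrArg (fun w : {z : (F : Subgroup X) // z ≠ 1} => ((w.1 : (F : Subgroup X)) : X)) h
    · simp only [Nat.card_eq_fintype_card]
      rw [Fintype.card_subtype_compl, Fintype.card_subtype_eq, ← Nat.card_eq_fintype_card, cF]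
      norm_num
  rw [← card_class_mul y]
  exact Nat.mul_le_mul_right _ hcl

end Cfsg.Agent.SSCThree
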