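import Cfsg.Agent.Lib.SSCThree.Context
import Cfsg.Agent.Lib.SSCThree.CharData
import Cfsg.Agent.Lib.SSCThree.NineBound

/-!
# Four classes outside the three subgroups
-/

set_option autoImplicit false
set_option linter.unusedSectionVars false
set_option linter.style.haveILetI false

namespace Cfsg.Agent.SSCThree

open Subgroup
open scoped Classical

universe u

theorem inv_le {n m : ℕ} (hm : 0 < m) (h : m ≤ n) (k : ℚ) (hk : 0 < k) :
    1 / (k * n) ≤ 1 / (k * m) := by
  refine one_div_le_one_div_of_le (by positivity) ?_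
  have : (m : ℚ) ≤ n := by exact_mod_cast h
  exact mul_le_mul_of_nonneg_left this hk.le

variable {G : Type u} [Group G] [Fintype G]

namespace Sys

variable (S : Sys G)

theorem mass_le : S.mass ≤ 1 / 10 + 1 / 36 + 1 / 52 := by
  have h1 := inv_le (by norm_num) S.n₁_ge 2 (by norm_num)
  have := S.n₂_ge; have := S.n₃_ge; have := S.n₂_mod; have := S.n₃_mod; have := S.n₂_ne_n₃
  unfold mass
  rcases Nat.lt_or_ge S.n₂ S.n₃ with h | h
  · have h2 := inv_le (n := S.n₂) (m := 9) (by norm_num) (by omega) 4 (by norm_num)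
    have h3 := inv_le (n := S.n₃) (m := 13) (by norm_num) (by omega) 4 (by norm_num)
    push_cast at h1 h2 h3
    linarith
  · have h2 := inv_le (n := S.n₃) (m := 9) (by norm_num) (by omega) 4 (by norm_num)
    have h3 := inv_le (n := S.n₂) (m := 13) (by norm_num) (by omega) 4 (by norm_num)
    push_cast at h1 h2 h3
    linarith

theorem three_parts (h3 : 3 ∣ S.h) : ¬ 3 ∣ S.n₁ ∧ ¬ 3 ∣ S.n₂ ∧ ¬ 3 ∣ S.n₃ := by
  have hN : ¬ 3 ∣ S.n₁ * S.n₂ * S.n₃ := S.not_dvd_N Nat.prime_three h3
  exact ⟨fun h => hN ((h.mul_right _).mul_right _), fun h => hN ((h.mul_left _).mul_right _),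
    fun h => hN (h.mul_left _)⟩

theorem mass_le' (h3 : 3 ∣ S.h) : S.mass ≤ 1 / (2 * (S.n₁ : ℚ)) + 1 / 52 + 1 / 68 := by
  have := S.n₂_ge; have := S.n₃_ge; have := S.n₂_mod; have := S.n₃_mod; have := S.n₂_ne_n₃
  obtain ⟨-, a2, a3⟩ := S.three_parts h3
  have : S.n₂ ≠ 9 := fun h => a2 (h ▸ ⟨3, rfl⟩)
  have : S.n₃ ≠ 9 := fun h => a3 (h ▸ ⟨3, rfl⟩)
  unfold mass
  rcases Nat.lt_or_ge S.n₂ S.n₃ with h | h
  · have h2 := inv_le (n := S.n₂) (m := 13) (by norm_num) (by omega) 4 (by norm_num)
    have h3 := inv_le (n := S.n₃) (m := 17) (by norm_num) (by omega) 4 (by norm_num)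
    push_cast at h2 h3
    linarith
  · have h2 := inv_le (n := S.n₃) (m := 13) (by norm_num) (by omega) 4 (by norm_num)
    have h3 := inv_le (n := S.n₂) (m := 17) (by norm_num) (by omega) 4 (by norm_num)
    push_cast at h2 h3
    linarith

theorem N_big (h3 : 3 ∣ S.h) : 1105 ≤ S.N := by
  have := S.n₂_ge; have := S.n₃_ge; have := S.n₂_mod; have := S.n₃_mod; have := S.n₂_ne_n₃
  obtain ⟨-, a2, a3⟩ := S.three_parts h3
  have : S.n₂ ≠ 9 := fun h => a2 (h ▸ ⟨3, rfl⟩)
  have : S.n₃ ≠ 9 := fun h => a3 (h ▸ ⟨3, rfl⟩)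
  unfold N
  rcases Nat.lt_or_ge S.n₂ S.n₃ with h | h
  · calc 1105 = 5 * 13 * 17 := rfl
      _ ≤ _ := Nat.mul_le_mul (Nat.mul_le_mul S.n₁_ge (by omega)) (by omega)
  · calc 1105 = 5 * 17 * 13 := rfl
      _ ≤ _ := Nat.mul_le_mul (Nat.mul_le_mul S.n₁_ge (by omega)) (by omega)

/-- The four representatives. -/
noncomputable def four (t y : G) : Fin 4 → G := ![t, S.hB.gen, y, t * y]

theorem four_data {t y : G} {r : ℕ} (ht : orderOf t = 2) (hr : r.Prime) (hr2 : r ≠ 2)
    (hy : orderOf y = r) (hc : t * y = y * t) :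
    (∀ i, S.four t y i ≠ 1 ∧ S.Off (S.four t y i)) ∧
      ∀ i j, i < j → ¬ IsConj (S.four t y i) (S.four t y j) := by
  have hv := order_gen4 S.hB
  have hty := order_mul ht hr hr2 hy hc
  have h3 : 3 ≤ r := by have := hr.two_le; omega
  have h4 : r ≠ 4 := fun h => by rw [h] at hr; norm_num at hr
  constructor
  · intro i
    fin_cases i
    · exact ⟨ne_one_of_order ht le_rfl, S.off_of_comm_invol ht rfl⟩
    · exact ⟨ne_one_of_order hv (by norm_num), S.off_of_even (x := S.hB.gen) (by rw [hv]; norm_num)⟩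
    · exact ⟨ne_one_of_order hy (by omega), S.off_of_comm_invol ht hc.symm⟩
    · exact ⟨ne_one_of_order hty (by omega), S.off_of_even (x := t * y) (by rw [hty]; exact dvd_mul_right 2 r)⟩
  · intro i j hij
    fin_cases i <;> fin_cases j <;> first
      | exact absurd hij (by decide)
      | (refine not_conj_of_order ?_; simp [four, ht, hv, hy, hty] <;> omega)

theorem four_classes (hE : S.extra.card ≤ 4) {t y : G} {r : ℕ} (ht : orderOf t = 2) (hr : r.Prime)
    (hr2 : r ≠ 2) (hy : orderOf y = r) (hc : t * y = y * t) {z : G} (hz : z ≠ 1) (hzo : S.Off z) :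
    IsConj t z ∨ IsConj S.hB.gen z ∨ IsConj y z ∨ IsConj (t * y) z := by
  obtain ⟨h1, h2⟩ := S.four_data ht hr hr2 hy hc
  obtain ⟨i, hi⟩ := S.conj_of_full _ h1 h2 hE hz hzo
  fin_cases i
  exacts [Or.inl hi, Or.inr (Or.inl hi), Or.inr (Or.inr (Or.inl hi)), Or.inr (Or.inr (Or.inr hi))]

theorem four_orders (hE : S.extra.card ≤ 4) {t y : G} {r : ℕ} (ht : orderOf t = 2) (hr : r.Prime)
    (hr2 : r ≠ 2) (hy : orderOf y = r) (hc : t * y = y * t) {z : G} (hzo : S.Off z) :
    orderOf z = 1 ∨ orderOf z = 2 ∨ orderOf z = 4 ∨ orderOf z = r ∨ orderOf z = 2 * r := by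
  rcases eq_or_ne z 1 with rfl | hz
  · exact Or.inl orderOf_one
  rcases S.four_classes hE ht hr hr2 hy hc hz hzo with h | h | h | h
  · exact Or.inr (Or.inl (by rw [orderOf_of_isConj h, ht]))
  · exact Or.inr (Or.inr (Or.inl (by rw [orderOf_of_isConj h, order_gen4 S.hB])))
  · exact Or.inr (Or.inr (Or.inr (Or.inl (by rw [orderOf_of_isConj h, hy]))))
  · exact Or.inr (Or.inr (Or.inr (Or.inr (by rw [orderOf_of_isConj h, order_mul ht hr hr2 hy hc]))))

theorem four_conj_r (hE : S.extra.card ≤ 4) {t y : G} {r : ℕ} (ht : orderOf t = 2) (hr : r.Prime)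
    (hr2 : r ≠ 2) (hy : orderOf y = r) (hc : t * y = y * t) {z : G} (hzo : S.Off z)
    (hz : orderOf z = 2 * r) : IsConj (t * y) z := by
  have h3 : 3 ≤ r := by have := hr.two_le; omega
  have h4 : r ≠ 2 := hr2
  rcases S.four_classes hE ht hr hr2 hy hc (ne_one_of_order hz (by omega)) hzo with h | h | h | h
  · have := orderOf_of_isConj h; omega
  · have := orderOf_of_isConj h; rw [order_gen4 S.hB] at this; omega
  · have := orderOf_of_isConj h; omega
  · exact h

theorem four_conj_y (hE : S.extra.card ≤ 4) {t y : G} {r : ℕ} (ht : orderOf t = 2) (hr : r.Prime)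
    (hr2 : r ≠ 2) (hy : orderOf y = r) (hc : t * y = y * t) {z : G} (hzo : S.Off z)
    (hz : orderOf z = r) : IsConj y z := by
  have h3 : 3 ≤ r := by have := hr.two_le; omega
  have h4 : r ≠ 4 := fun h => by rw [h] at hr; norm_num at hr
  rcases S.four_classes hE ht hr hr2 hy hc (ne_one_of_order hz (by omega)) hzo with h | h | h | h
  · have := orderOf_of_isConj h; omega
  · have := orderOf_of_isConj h; rw [order_gen4 S.hB] at this; omega
  · exact h
  · have := orderOf_of_isConj h; rw [order_mul ht hr hr2 hy hc] at this; omega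

theorem no_square_root (hE : S.extra.card ≤ 4) {t y : G} {r : ℕ} (ht : orderOf t = 2) (hr : r.Prime)
    (hr2 : r ≠ 2) (hy : orderOf y = r) (hc : t * y = y * t) :
    Nat.card {s : G // s * s = t * y} = 0 := by
  refine Nat.card_eq_zero.mpr (Or.inl ⟨fun ⟨s, hs⟩ => ?_⟩)
  have hty := order_mul ht hr hr2 hy hc
  have h3 : 3 ≤ r := by have := hr.two_le; omega
  have hcop : Nat.Coprime 2 r := (Nat.coprime_primes Nat.prime_two hr).mpr hr2.symm
  have hmem : s ∈ centralizer ({t * y} : Set G) :=
    mem_centralizer_singleton_iff.mpr (by rw [← hs, mul_assoc])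
  rw [centralizer_mul_eq hcop (by rw [← ht]; exact pow_orderOf_eq_one t)
    (by rw [← hy]; exact pow_orderOf_eq_one y) hc, mem_inf, mem_centralizer_singleton_iff] at hmem
  have ho : orderOf (s ^ 2) = 2 * r := by rw [pow_two, hs, hty]
  rw [orderOf_pow' _ two_ne_zero] at ho
  rcases S.four_orders hE ht hr hr2 hy hc (S.off_of_comm_invol ht hmem.1) with e | e | e | e | e <;>
    rw [e] at ho
  · simp at ho; omega
  · norm_num at ho; omega
  · norm_num at ho; omega
  · rw [Nat.Coprime.gcd_eq_one hcop.symm, Nat.div_one] at ho; omega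
  · rw [Nat.gcd_eq_right (dvd_mul_right 2 r), Nat.mul_div_cancel_left _ (by norm_num)] at ho; omega

theorem conj_pow_self (hE : S.extra.card ≤ 4) {t y : G} {r : ℕ} (ht : orderOf t = 2) (hr : r.Prime)
    (hr2 : r ≠ 2) (hy : orderOf y = r) (hc : t * y = y * t) :
    (∀ k : ℕ, k.Coprime (orderOf (t * y)) → IsConj (t * y) ((t * y) ^ k)) ∧
      ∀ k : ℕ, k.Coprime (orderOf y) → IsConj y (y ^ k) := by
  constructor <;> intro k hk
  · have e : orderOf ((t * y) ^ k) = 2 * r := by
      rw [(Nat.Coprime.orderOf_pow hk.symm), order_mul ht hr hr2 hy hc]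
    exact S.four_conj_r hE ht hr hr2 hy hc (S.off_of_even (by rw [e]; exact dvd_mul_right 2 r)) e
  · exact S.four_conj_y hE ht hr hr2 hy hc
      (S.off_of_comm_invol ht ((show Commute y t from hc.symm).pow_left k).eq)
      (by rw [(Nat.Coprime.orderOf_pow hk.symm), hy])

/-- The local structure with four classes. -/
theorem four_local [IsSimpleGroup G] (hE : S.extra.card ≤ 4) {t y : G} {r a b f : ℕ}
    (ht : orderOf t = 2) (hr : r.Prime) (hr2 : r ≠ 2) (hr5 : r = 3 ∨ r = 5)
    (hy : orderOf y = r) (hc : t * y = y * t) (hh : S.h = 2 ^ a * r ^ b)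
    (hX : Nat.card (centralizer ({t} : Set G)) = 2 ^ a * r ^ f) :
    ((Nat.card (centralizer ({y} : Set G)) = 2 * r ^ b ∧ Nat.card (centralizer ({t * y} : Set G)) = 2 * r ^ f) ∨
      (r = 3 ∧ b = f + 1 ∧ Nat.card (centralizer ({y} : Set G)) = 4 * 3 ^ b ∧
        Nat.card (centralizer ({t * y} : Set G)) = 4 * 3 ^ f ∧
        Nat.card {s : G // s * s = y} = 4)) ∧
      ∀ w z : G, TwoEl w → w * t = t * w → w * y = y * w → z * t = t * z → z * y = y * z → w * z = z * w := by
  haveI := Fact.mk hr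
  haveI : Fact (Nat.Prime 2) := ⟨Nat.prime_two⟩
  obtain ⟨-, hrh⟩ := S.setting ht hr hr2 hy hc
  have hab := S.abelian_of_dvd hr hr2 hrh
  have hcop : Nat.Coprime 2 r := (Nat.coprime_primes Nat.prime_two hr).mpr hr2.symm
  have ht2 : t ^ 2 = 1 := by rw [← ht]; exact pow_orderOf_eq_one t
  have hyr : y ^ r = 1 := by rw [← hy]; exact pow_orderOf_eq_one y
  have hy1 : y ≠ 1 := ne_one_of_order hy hr.two_le
  have hyo : S.Off y := S.off_of_comm_invol ht hc.symm
  set Y := centralizer ({y} : Set G) with hYdef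
  obtain ⟨d, hY⟩ : ∃ d, Nat.card Y = 2 ^ d * r ^ b := by
    have h1 := S.centralizer_dvd_h hyo hy1
    rw [hh] at h1
    obtain ⟨d, b', hd⟩ := eq_two_pow_mul hr (Nat.card_pos (α := Y)).ne' fun p hp hpd => by
      rcases hp.dvd_mul.mp (hpd.trans h1) with h | h
      · exact Or.inl ((Nat.prime_dvd_prime_iff_eq hp Nat.prime_two).mp (hp.dvd_of_dvd_pow h))
      · exact Or.inr ((Nat.prime_dvd_prime_iff_eq hp hr).mp (hp.dvd_of_dvd_pow h))
    have h2 : r ^ b ∣ Nat.card Y := pow_dvd_centralizer (k := 1)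
      (S.N_mul_h ▸ hh ▸ (dvd_mul_left _ _).mul_left _) hab (by rw [pow_one]; exact hyr)
    rw [hd] at h1 h2
    obtain ⟨-, g1⟩ := pow_mul_dvd hr hr2 h1
    obtain ⟨-, g2⟩ := pow_mul_dvd (a := 0) (b := b) (a' := d) (b' := b') hr hr2
      (by rw [pow_zero, one_mul]; exact h2)
    exact ⟨d, by rw [hd, le_antisymm g1 g2]⟩
  obtain ⟨e, he1, -, hed, hfb, hZ⟩ := cent_prod hr2 hab ht hy hc hX hY
  -- two-elements of the centraliser of `y`
  have h4 : ∀ w : Y, w ^ 4 = 1 → w * w = 1 := by
    intro w hw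
    by_contra hne
    have ho : orderOf (w : G) = 4 := by
      rw [Subgroup.orderOf_coe]
      refine orderOf_eq_prime_pow (p := 2) (n := 1) ?_ hw
      rw [pow_one, pow_two]; exact hne
    have hwy : (w : G) * y = y * w := mem_centralizer_singleton_iff.mp w.2
    have ho2 : orderOf ((w : G) * y) = 4 * r := by
      rw [Commute.orderOf_mul_eq_mul_orderOf_of_coprime hwy
        (by rw [ho, hy]; exact Nat.Coprime.pow_left 2 hcop), ho, hy]
    have h3 : 3 ≤ r := by have := hr.two_le; omega
    rcases S.four_orders hE ht hr hr2 hy hc (z := (w : G) * y)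
      (S.off_of_even (by rw [ho2]; exact (by norm_num : 2 ∣ 4).trans (dvd_mul_right _ _))) with h | h | h | h | h <;>
      rw [ho2] at h <;> omega
  have hconj : ∀ u v : Y, orderOf u = 2 → orderOf v = 2 → IsConj u v := by
    intro u v hu hv
    rw [← Subgroup.orderOf_coe] at hu hv
    have hu' : (u : G) * y = y * u := mem_centralizer_singleton_iff.mp u.2
    have hv' : (v : G) * y = y * v := mem_centralizer_singleton_iff.mp v.2
    have h1 := S.four_conj_r hE ht hr hr2 hy hc (S.off_of_even (by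
      rw [order_mul hu hr hr2 hy hu']; exact dvd_mul_right 2 r)) (order_mul hu hr hr2 hy hu')
    have h2 := S.four_conj_r hE ht hr hr2 hy hc (S.off_of_even (by
      rw [order_mul hv hr hr2 hy hv']; exact dvd_mul_right 2 r)) (order_mul hv hr hr2 hy hv')
    obtain ⟨g, hg1, hg2⟩ := split_conj hcop (by rw [← hu]; exact pow_orderOf_eq_one _)
      (by rw [← hv]; exact pow_orderOf_eq_one _) hyr hyr hu' hv' (h1.symm.trans h2)
    exact isConj_iff.mpr ⟨⟨g, mem_centralizer_singleton_iff.mpr (mul_inv_eq_iff_eq_mul.mp hg2)⟩,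
      Subtype.ext hg1⟩
  set tY : Y := ⟨t, mem_centralizer_singleton_iff.mpr hc⟩ with htY
  have htYo : orderOf tY = 2 := by rw [← Subgroup.orderOf_coe]; exact ht
  -- the Sylow subgroup is elementary with all involutions conjugate
  obtain ⟨W, hW⟩ := IsPGroup.exists_le_sylow (P := zpowers tY)
    (IsPGroup.of_card (n := 1) (by rw [Nat.card_zpowers, htYo, pow_one]))
  have hsq : ∀ w ∈ (W : Subgroup Y), w * w = 1 := fun w hw => by
    obtain ⟨k, hk⟩ := W.isPGroup' ⟨w, hw⟩
    exact pow_four h4 (k := k) (congrArg Subtype.val hk)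
  have hWc : ∀ x ∈ (W : Subgroup Y), ∀ z ∈ (W : Subgroup Y), x * z = z * x := fun x hx z hz => by
    have h1 := hsq _ (mul_mem hx hz)
    calc x * z = (x * z) * ((x * z) * (x * z))⁻¹ := by rw [h1, inv_one, mul_one]
      _ = z⁻¹ * x⁻¹ := by group
      _ = z * x := by rw [inv_eq_of_mul_eq_one_left (hsq x hx), inv_eq_of_mul_eq_one_left (hsq z hz)]
  have cW : Nat.card (W : Subgroup Y) = 2 ^ d := by
    rw [W.card_eq_multiplicity, hY, Nat.factorization_mul (by positivity) (pow_ne_zero _ hr.ne_zero),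
      Nat.factorization_pow, Nat.factorization_pow]
    simp [Nat.prime_two.factorization, hr.factorization, hr2]
  have hdiv : 2 ^ d - 1 ∣ r ^ b := by
    have h := fusion_count W hWc (y := tY) (hW (mem_zpowers _)) (K := (W : Subgroup Y)) le_normalizer
      fun k hk => hWc k hk _ (hW (mem_zpowers _))
    rw [cW, hY, mul_comm, mul_dvd_mul_iff_left (by positivity)] at h
    haveI := Fintype.ofFinite Y
    have hcnt : Nat.card {z : (W : Subgroup Y) // IsConj tY (z : Y)} = 2 ^ d - 1 := by
      rw [← cW, Nat.card_congr (Equiv.subtypeEquivRight (q := fun z : (W : Subgroup Y) => ¬ z = 1)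
        (fun z => ⟨fun h h1 => ?_, fun h => hconj _ _ htYo ?_⟩))]
      · simp only [Nat.card_eq_fintype_card]
        rw [Fintype.card_subtype_compl, Fintype.card_subtype_eq]
      · rw [h1] at h
        exact ne_one_of_order htYo le_rfl (isConj_one_left.mp h)
      · exact orderOf_eq_prime (by rw [pow_two]; exact hsq _ z.2) fun h' => h (Subtype.ext h')
    exact hcnt ▸ h
  have hd : d = 1 ∨ (d = 2 ∧ r = 3) := by
    rcases hr5 with rfl | rfl
    · have := two_pow_sub_one hdiv; omega
    · have := five_pow hdiv; omega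
  rcases hd with rfl | ⟨rfl, rfl⟩
  · obtain rfl : e = 1 := by omega
    rw [pow_one] at hY hZ
    refine ⟨Or.inl ⟨hY, hZ⟩, fun w z hw hwt hwy hzt hzy => ?_⟩
    set Z := centralizer ({t * y} : Set G)
    have memZ : ∀ x, x ∈ Z ↔ x * t = t * x ∧ x * y = y * x := fun x => by
      rw [show Z = _ from centralizer_mul_eq hcop ht2 hyr hc, mem_inf, mem_centralizer_singleton_iff,
        mem_centralizer_singleton_iff]
    obtain ⟨k, hk⟩ := hw
    rcases two_el_of_central hr hr2 hZ (t := (⟨t, (memZ t).mpr ⟨rfl, hc⟩⟩ : Z))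
      (by rw [← Subgroup.orderOf_coe]; exact ht) (fun x => Subtype.ext ((memZ x).mp x.2).1)
      (w := ⟨w, (memZ w).mpr ⟨hwt, hwy⟩⟩) ⟨k, Subtype.ext (by simpa using hk)⟩ with h | h
    · rw [show w = 1 from congrArg Subtype.val h]; simp
    · rw [show w = t from congrArg Subtype.val h]; exact hzt.symm
  · obtain ⟨hidx, hinv, habY⟩ := four_lemma (b := b) (by rw [hY]; rfl) h4
      (fun R x hx z hz => comm_of_sylow hab R x hx z hz) hconj htYo
    have hin : Nat.card (centralizer ({tY} : Set Y)) = Nat.card (centralizer ({t * y} : Set G)) :=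
      card_cent_in' hcop ht2 hyr hc
    rw [hin, hZ, hY] at hidx
    obtain ⟨e2, eb⟩ := pow_mul_inj (a := e) (b := f + 1) (a' := 2) (b' := b) hr hr2 (by
      rw [← hidx, pow_succ]; ring)
    refine ⟨Or.inr ⟨rfl, eb.symm, by rw [hY]; rfl, by rw [hZ, e2]; rfl, ?_⟩, fun w z hw hwt hwy hzt hzy => ?_⟩
    · rw [roots_odd (by rw [hy]; decide)]
      have e3 : Nat.card {u : G // u * y = y * u ∧ u * u = 1} = Nat.card {u : Y // u * u = 1} :=
        Nat.card_congr
          { toFun := fun u => ⟨⟨u.1, mem_centralizer_singleton_iff.mpr u.2.1⟩, Subtype.ext u.2.2⟩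
            invFun := fun u => ⟨(u.1 : G), mem_centralizer_singleton_iff.mp u.1.2, congrArg Subtype.val u.2⟩
            left_inv := fun u => rfl
            right_inv := fun u => rfl }
      rw [e3, card_sq_one Y, hinv]
    · exact congrArg Subtype.val (habY ⟨w, mem_centralizer_singleton_iff.mpr hwy⟩
        ⟨z, mem_centralizer_singleton_iff.mpr hzy⟩ (Subtype.ext hwt) (Subtype.ext hzt))

theorem nine_arith {n₁ n₂ n₃ b cv : ℕ} (h1 : n₁ = 5) (m2 : n₂ % 4 = 1) (m3 : n₃ % 4 = 1)
    (lt : n₂ < n₃) (t2 : ¬ 3 ∣ n₂) (t3 : ¬ 3 ∣ n₃) (f2 : ¬ 5 ∣ n₂) (f3 : ¬ 5 ∣ n₃) (g2 : 9 ≤ n₂)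
    (hb : 2 ≤ b) (hh : 16 * 3 ^ b ≤ 3 * (n₁ * n₂ * n₃)) (hcv : cv = 16)
    (he : (1 : ℚ) / 144 + 1 / cv + 1 / ((2 * 3 ^ b : ℕ) : ℚ) + 1 / 18 +
      1 / ((n₁ * n₂ * n₃ * (16 * 3 ^ b) : ℕ) : ℚ) = 1 / (2 * n₁) + 1 / (4 * n₂) + 1 / (4 * n₃)) : False := by
  subst h1 hcv
  have e9 : n₂ ≠ 9 := fun h => t2 (h ▸ ⟨3, rfl⟩)
  have e21 : n₃ ≠ 21 := fun h => t3 (h ▸ ⟨7, rfl⟩)
  have e25 : n₃ ≠ 25 := fun h => f3 (h ▸ ⟨5, rfl⟩)
  have e33 : n₃ ≠ 33 := fun h => t3 (h ▸ ⟨11, rfl⟩)
  clear t2 t3 f2 f3
  push_cast at he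
  have hp : (0 : ℚ) ≤ 1 / (2 * 3 ^ b) := by positivity
  have hq : (0 : ℚ) ≤ 1 / (5 * n₂ * n₃ * (16 * 3 ^ b)) := by positivity
  have hn2 : n₂ ≤ 13 := by
    by_contra hc
    have h2 := inv_le (n := n₂) (m := 17) (by norm_num) (by omega) 4 (by norm_num)
    have h3 := inv_le (n := n₃) (m := 29) (by norm_num) (by omega) 4 (by norm_num)
    push_cast at h2 h3
    linarith
  obtain rfl : n₂ = 13 := by omega
  have hn3 : n₃ ≤ 41 := by
    by_contra hc
    have h3 := inv_le (n := n₃) (m := 45) (by norm_num) (by omega) 4 (by norm_num)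
    push_cast at h3 he
    linarith
  have hb5 : b ≤ 5 := by
    by_contra hc
    have : 3 ^ 6 ≤ 3 ^ b := Nat.pow_le_pow_right (by norm_num) (by omega)
    omega
  have hn3' : n₃ = 17 ∨ n₃ = 29 ∨ n₃ = 37 ∨ n₃ = 41 := by omega
  rcases hn3' with rfl | rfl | rfl | rfl <;> interval_cases b <;> norm_num at he

/-- Four classes outside with a pair of commuting elements of orders two and an odd prime: impossible. -/
theorem no_four [IsSimpleGroup G] (hsh : S.V.ShapeA ∨ S.V.ShapeB' ∨ S.V.ShapeB) (hE : S.extra.card ≤ 4)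
    {t y : G} {r : ℕ} (ht : orderOf t = 2) (hr : r.Prime) (hr2 : r ≠ 2) (hy : orderOf y = r)
    (hc : t * y = y * t) : False := by
  haveI := Fact.mk hr
  obtain ⟨hrX, hrh⟩ := S.setting ht hr hr2 hy hc
  have hab := S.abelian_of_dvd hr hr2 hrh
  have h3r : 3 ≤ r := by have := hr.two_le; omega
  have hcop : Nat.Coprime 2 r := (Nat.coprime_primes Nat.prime_two hr).mpr hr2.symm
  obtain ⟨hd4, hn4⟩ := S.four_data ht hr hr2 hy hc
  have hprimes : ∀ p : ℕ, p.Prime → p ∣ S.h → p = 2 ∨ p = r := by
    intro p hp hpd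
    obtain ⟨z, hz, hzo, -⟩ := S.prime_dvd_h hp hpd
    have := hp.two_le
    rcases S.four_orders hE ht hr hr2 hy hc hzo with h | h | h | h | h <;> rw [hz] at h
    · omega
    · exact Or.inl h
    · rw [h] at hp; norm_num at hp
    · exact Or.inr h
    · rw [h] at hp
      rcases Nat.prime_mul_iff.mp hp with ⟨-, h1⟩ | ⟨-, h1⟩ <;> omega
  obtain ⟨a, b, hh⟩ := eq_two_pow_mul hr S.h_pos.ne' hprimes
  set X := centralizer ({t} : Set G) with hXdef
  obtain ⟨a', f, hX⟩ := eq_two_pow_mul hr (Nat.card_pos (α := X)).ne' fun p hp hpd =>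
    hprimes p hp (hpd.trans (S.invol_dvd_h ht))
  obtain ⟨rfl, hfb⟩ := S.index_parts ht hr hr2 hh hX
  have hf : 1 ≤ f := by
    by_contra h0
    rw [hX, show f = 0 by omega, pow_zero, mul_one] at hrX
    exact hr2 ((Nat.prime_dvd_prime_iff_eq hr Nat.prime_two).mp (hr.dvd_of_dvd_pow hrX))
  have hexp : ∀ x : X, ∀ k, x ^ r ^ k = 1 → x ^ r = 1 := by
    intro x k hk
    obtain ⟨j, -, hj⟩ := (Nat.dvd_prime_pow hr).mp (orderOf_dvd_of_pow_eq_one hk)
    refine orderOf_dvd_iff_pow_eq_one.mp ?_
    rcases S.four_orders hE ht hr hr2 hy hc (z := (x : G))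
      (S.off_of_comm_invol ht (mem_centralizer_singleton_iff.mp x.2)) with h | h | h | h | h <;>
      rw [Subgroup.orderOf_coe] at h
    · rw [h]; exact one_dvd _
    all_goals first
      | (rw [h])
      | skip
    all_goals first
      | (exact dvd_rfl)
      | (exfalso
         rw [h] at hj
         have h2 : 2 ∣ r ^ j := by rw [← hj] <;> omega
         exact hr2 ((Nat.prime_dvd_prime_iff_eq Nat.prime_two hr).mp (Nat.prime_two.dvd_of_dvd_pow h2)).symm)
      | (exfalso
         have h2 : 2 ∣ r ^ j := by rw [← hj] <;> simp [h]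
         exact hr2 ((Nat.prime_dvd_prime_iff_eq Nat.prime_two hr).mp (Nat.prime_two.dvd_of_dvd_pow h2)).symm)
  have hone : ∀ x z : X, orderOf x = r → orderOf z = r → IsConj x z := by
    intro x z hx hz
    have hx' : x ^ r = 1 := by rw [← hx]; exact pow_orderOf_eq_one x
    have hz' : z ^ r = 1 := by rw [← hz]; exact pow_orderOf_eq_one z
    refine conj_in_centralizer hcop ht hx' hz' ?_
    rw [← Subgroup.orderOf_coe] at hx hz
    have cx := (mem_centralizer_singleton_iff.mp x.2).symm
    have cz := (mem_centralizer_singleton_iff.mp z.2).symm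
    have o1 := order_mul ht hr hr2 hx cx
    have o2 := order_mul ht hr hr2 hz cz
    exact (S.four_conj_r hE ht hr hr2 hy hc (S.off_of_even (o1 ▸ dvd_mul_right 2 r)) o1).symm.trans
      (S.four_conj_r hE ht hr hr2 hy hc (S.off_of_even (o2 ▸ dvd_mul_right 2 r)) o2)
  have h8 : ∀ g : X, ¬ 8 ∣ orderOf g := by
    intro g h8
    rcases S.four_orders hE ht hr hr2 hy hc (z := (g : G))
      (S.off_of_comm_invol ht (mem_centralizer_singleton_iff.mp g.2)) with h | h | h | h | h <;>
      rw [Subgroup.orderOf_coe] at h <;> rw [h] at h8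
    · omega
    · omega
    · omega
    · exact hr2 ((Nat.prime_dvd_prime_iff_eq Nat.prime_two hr).mp ((by norm_num : 2 ∣ 8).trans h8)).symm
    · have : 4 ∣ r := Nat.dvd_of_mul_dvd_mul_left (by norm_num : 0 < 2) h8
      exact hr2 ((Nat.prime_dvd_prime_iff_eq Nat.prime_two hr).mp ((by norm_num : 2 ∣ 4).trans this)).symm
  have hsp := small_prime hr2 hf hX (fun F x hx z hz => comm_of_sylow hab F x hx z hz) hexp hone h8
  have hr5 : r = 3 ∨ r = 5 := by
    rcases hsp with ⟨-, h⟩ | ⟨h, -⟩
    exacts [h, Or.inl h]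
  -- the shape
  rcases hsh with hA | hB' | hB
  rotate_left
  · have e1 := S.K1_eq
    have e3 := S.K3_eq
    rw [hB'.K1] at e1
    rw [hB'.K3] at e3
    have hN := S.not_dvd_N hr hrh
    rcases hr5 with rfl | rfl
    · exact hN (dvd_mul_of_dvd_right ⟨3, by omega⟩ _)
    · exact hN (dvd_mul_of_dvd_left (dvd_mul_of_dvd_left ⟨1, by omega⟩ _) _)
  all_goals
    have hsh' : S.V.ShapeA ∨ S.V.ShapeB := by
      first
        | exact Or.inl ‹_›
        | exact Or.inr ‹_›
    have hl : S.others.card = 1 := by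
      have h1 := S.card_extra
      have h2 := S.card_le_extra _ hd4 hn4
      rcases hsh' with h | h
      · rw [S.card_named_A h] at h1; omega
      · rw [S.card_named_B h] at h1; omega
    obtain ⟨hloc, -⟩ := S.four_local hE ht hr hr2 hr5 hy hc hh hX
    obtain ⟨hq1, hq2⟩ := S.conj_pow_self hE ht hr hr2 hy hc
    have hR := S.no_square_root hE ht hr hr2 hy hc
    have hm1 := S.mass_le
    rcases hsp with ⟨rfl, -⟩ | ⟨rfl, rfl⟩
    · rcases hloc with ⟨hY, hZ⟩ | ⟨rfl, rfl, hY, hZ, hR2⟩
      · rcases hr5 with rfl | rfl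
        · -- six
          have h := S.sum_le_mass (k := 1) ![t * y] (fun i => by fin_cases i; exact hd4 3)
            (fun i j hij => absurd hij (by omega))
          rw [Fin.sum_univ_one] at h
          simp only [Matrix.cons_val_fin_one] at h
          rw [hZ] at h
          norm_num at h hm1
          linarith
        · -- ten
          rcases hsh' with h | h
          · exact S.no_ten h hl hrh ((ht ▸ Subgroup.orderOf_dvd_natCard _
              (mem_centralizer_singleton_iff.mpr rfl) : 2 ∣ Nat.card X).trans (S.invol_dvd_h ht))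
              (hd4 3).2 hq1 hZ hR
          · have e1 := S.K1_eq
            rw [h.K1] at e1
            exact S.not_dvd_N hr hrh (dvd_mul_of_dvd_left (dvd_mul_of_dvd_left ⟨1, by omega⟩ _) _)
      · -- twelve and thirty-six
        have hn1 : S.n₁ = 5 := by
          by_contra hne
          have h := S.sum_le_mass (k := 2) ![y, t * y]
            (fun i => by fin_cases i; exacts [hd4 2, hd4 3])
            (fun i j hij => by fin_cases i <;> fin_cases j <;> first
              | exact absurd hij (by decide)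
              | exact hn4 2 3 (by decide))
          rw [Fin.sum_univ_two] at h
          simp only [Matrix.cons_val_zero, Matrix.cons_val_one, Matrix.cons_val_fin_one] at h
          rw [hY, hZ] at h
          have h7 : 7 ≤ S.n₁ := by have := S.n₁_ge; have := Nat.odd_iff.mp S.n₁_odd; omega
          have h2 := inv_le (n := S.n₁) (m := 7) (by norm_num) h7 2 (by norm_num)
          have h3 := S.mass_le' hrh
          norm_num at h h2 h3
          linarith
        exact S.no_twelve hsh' hn1 hl.ge ht hy hc hq1 hq2 hZ hY hR hR2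
    · -- nine
      have hX' : Nat.card X = 2 ^ a' * 9 := by rw [hX]; norm_num
      have hsplit : ∀ z : X, orderOf z = 3 → ∀ w x : X, TwoEl w → orderOf x = 3 → w * z = z * w →
          x * z = z * x → w * x = x * w := by
        intro z hz w x hw _ hwz hxz
        rw [← Subgroup.orderOf_coe] at hz
        obtain ⟨-, hs⟩ := S.four_local hE ht hr hr2 hr5 hz (mem_centralizer_singleton_iff.mp z.2).symm hh hX
        obtain ⟨k, hk⟩ := hw
        exact Subtype.ext (hs w x ⟨k, congrArg Subtype.val hk⟩ (mem_centralizer_singleton_iff.mp w.2)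
          (congrArg Subtype.val hwz) (mem_centralizer_singleton_iff.mp x.2) (congrArg Subtype.val hxz))
      set yX : X := ⟨y, mem_centralizer_singleton_iff.mpr hc.symm⟩
      have hyX : orderOf yX = 3 := by rw [← Subgroup.orderOf_coe]; exact hy
      have hCX : Nat.card (centralizer ({yX} : Set X)) = Nat.card (centralizer ({t * y} : Set G)) :=
        card_cent_in hcop (by rw [← ht]; exact pow_orderOf_eq_one t)
          (by rw [← hy]; exact pow_orderOf_eq_one y) hc
      have hexp9 : ∀ x : X, x ^ 9 = 1 → x ^ 3 = 1 := fun x hx => hexp x 2 (by simpa using hx)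
      have hle := card_le_nine hX' hexp9 hsplit hyX
      rw [hCX] at hle
      rcases hloc with ⟨hY, hZ⟩ | ⟨-, rfl, hY, hZ, -⟩
      · -- the centraliser of the involution has order 144
        rw [hZ] at hle
        have hge : 8 * 18 ≤ Nat.card X := by
          haveI := Fintype.ofFinite X
          rw [← card_class_mul yX, hCX, hZ]
          refine Nat.mul_le_mul_right _ ?_
          obtain ⟨F, hF⟩ := IsPGroup.exists_le_sylow (P := zpowers yX)
            (IsPGroup.of_card (n := 1) (by rw [Nat.card_zpowers, hyX, pow_one]))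
          have cF := sylow_card (by norm_num) hX F
          have hmap : ∀ z : {z : (F : Subgroup X) // z ≠ 1}, IsConj yX ((z : (F : Subgroup X)) : X) := by
            intro z
            obtain ⟨k, hk⟩ := F.isPGroup' z.1
            exact hone _ _ hyX (orderOf_eq_prime (hexp _ k (congrArg Subtype.val hk))
              fun h => z.2 (Subtype.ext h))
          have hinj := Nat.card_le_card_of_injective
            (fun z : {z : (F : Subgroup X) // z ≠ 1} =>
              (⟨((z : (F : Subgroup X)) : X), hmap z⟩ : {z : X // IsConj yX z}))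
            (fun p q h => Subtype.ext (Subtype.ext
              (congrArg (fun w : {z : X // IsConj yX z} => (w : X)) h :)))
          simp only [Nat.card_eq_fintype_card] at cF hinj ⊢
          rw [Fintype.card_subtype_compl, Fintype.card_subtype_eq, cF] at hinj
          omega
        have ha : a' = 4 := by
          have : 2 ^ a' = 2 ^ 4 := by omega
          exact Nat.pow_right_injective le_rfl this
        subst ha
        have hv := order_gen4 S.hB
        obtain ⟨cvd, hcv⟩ : ∃ k, Nat.card (centralizer ({S.hB.gen} : Set G)) = 2 ^ k ∧ 2 ≤ k ∧ k ≤ 4 := by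
          have hd := S.centralizer_dvd_h (hd4 1).2 (hd4 1).1
          change Nat.card (centralizer ({S.hB.gen} : Set G)) ∣ S.h at hd
          rw [hh] at hd
          have h3 : ¬ 3 ∣ Nat.card (centralizer ({S.hB.gen} : Set G)) := fun h => by
            obtain ⟨⟨u, hu⟩, huo⟩ := exists_prime_orderOf_dvd_card' 3 h
            rw [Subgroup.orderOf_mk] at huo
            have hcu : Commute S.hB.gen u := (mem_centralizer_singleton_iff.mp hu).symm
            have ho := hcu.orderOf_mul_eq_mul_orderOf_of_coprime (by rw [hv, huo]; norm_num)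
            rw [hv, huo] at ho
            rcases S.four_orders hE ht hr hr2 hy hc (z := S.hB.gen * u)
              (S.off_of_even (by rw [ho]; norm_num)) with h | h | h | h | h <;> omega
          obtain ⟨k, hk, hk2⟩ := (Nat.dvd_prime_pow Nat.prime_two).mp
            ((Nat.Coprime.pow_right b ((Nat.prime_three.coprime_iff_not_dvd.mpr h3).symm)).dvd_of_dvd_mul_right hd)
          refine ⟨k, hk2, ?_, hk⟩
          have h4 : 4 ∣ 2 ^ k := by
            have h := Subgroup.orderOf_dvd_natCard (centralizer ({S.hB.gen} : Set G))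
              (mem_centralizer_singleton_iff.mpr rfl : S.hB.gen ∈ centralizer ({S.hB.gen} : Set G))
            rw [hv, hk2] at h
            exact h
          exact (Nat.pow_dvd_pow_iff_le_right (show 1 < 2 by norm_num)).mp (show 2 ^ 2 ∣ 2 ^ k from h4)
        obtain ⟨hcv, hk2, hk4⟩ := hcv
        have heq := S.extra_sum _ hd4 hn4 hE
        rw [Fin.sum_univ_four] at heq
        simp only [four, Matrix.cons_val_zero, Matrix.cons_val_one, Matrix.cons_val_two, Matrix.cons_val_three,
          Matrix.head_cons, Matrix.tail_cons] at heq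
        rw [show Nat.card (centralizer ({t} : Set G)) = 144 from hX, hcv, hY, hZ, ← S.N_mul_h, hh] at heq
        have hpos1 : (0 : ℚ) ≤ 1 / ((2 * 3 ^ b : ℕ) : ℚ) := by positivity
        have hpos2 : (0 : ℚ) ≤ 1 / ((S.N * (2 ^ 4 * 3 ^ b) : ℕ) : ℚ) := by positivity
        have hm2 := S.mass_le' hrh
        have hn1 : S.n₁ = 5 := by
          by_contra hne
          have h7 : 7 ≤ S.n₁ := by have := S.n₁_ge; have := Nat.odd_iff.mp S.n₁_odd; omega
          have h2 := inv_le (n := S.n₁) (m := 7) (by norm_num) h7 2 (by norm_num)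
          interval_cases cvd <;> push_cast at heq h2 hm2 hpos1 hpos2 <;> linarith
        have hk : cvd = 4 := by
          by_contra hne
          interval_cases cvd
          all_goals first
            | omega
            | (push_cast at heq hm1 hpos1 hpos2; linarith)
        subst hk
        obtain ⟨-, t2, t3⟩ := S.three_parts hrh
        have f2 : ¬ 5 ∣ S.n₂ := fun h => by
          have := Nat.eq_one_of_dvd_coprimes S.cop12 (dvd_of_eq hn1.symm) h; omega
        have f3 : ¬ 5 ∣ S.n₃ := fun h => by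
          have := Nat.eq_one_of_dvd_coprimes S.cop13 (dvd_of_eq hn1.symm) h; omega
        have hle' := S.h_le
        rw [hh, N] at hle'
        rw [N, mass] at heq
        have g2 := S.n₂_ge; have g3 := S.n₃_ge
        rcases Nat.lt_or_gt_of_ne S.n₂_ne_n₃ with hlt | hgt
        · refine nine_arith (n₁ := S.n₁) (b := b) (cv := 16) hn1 S.n₂_mod S.n₃_mod hlt t2 t3 f2 f3 g2 hfb
            (by norm_num at hle' ⊢; linarith) rfl ?_
          push_cast at heq ⊢
          norm_num at heq ⊢
          linarith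
        · refine nine_arith (n₁ := S.n₁) (n₂ := S.n₃) (n₃ := S.n₂) (b := b) (cv := 16) hn1 S.n₃_mod S.n₂_mod
            hgt t3 t2 f3 f2 g3 hfb (by norm_num at hle' ⊢; linarith) rfl ?_
          push_cast at heq ⊢
          norm_num at heq ⊢
          linarith
      · rw [hZ, hX] at hle
        norm_num at hle
        have hN := S.N_big hrh
        have hlt := S.others_lt_h
        rw [hl, one_mul, hh] at hlt
        omega

end Sys

end Cfsg.Agent.SSCThree
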