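import Cfsg.Agent.Lib.SSCThree.Basic
import Cfsg.Agent.Lib.Char.Induction
import Cfsg.Agent.Lib.Char.Complete
import Cfsg.Agent.Lib.ZassSuz.Roots
import Cfsg.Agent.Lib.Char.Orbit

/-!
# Functions induced from a self-centralising subgroup
-/

set_option autoImplicit false
set_option linter.unusedSectionVars false
set_option linter.style.haveILetI false

namespace Cfsg.Agent.SSCThree

open Subgroup Cfsg.Agent.Char
open scoped Classical ComplexConjugate

universe u

variable {G : Type u} [Group G] [Fintype G]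

theorem char_class (χ : Cfsg.IrrCharacter G) : Cfsg.IsClassFunction G (χ : G → ℂ) :=
  IsCharacter.isClassFunction (IsIrrCharacter.isCharacter χ.2)

theorem char_conjInv (χ : Cfsg.IrrCharacter G) (x : G) : (χ : G → ℂ) x⁻¹ = conj ((χ : G → ℂ) x) :=
  IsCharacter.inv (IsIrrCharacter.isCharacter χ.2) x

namespace SSC

variable {A B : Subgroup G} {e f : ℕ}

/-- Conjugation of `A` by a power of the generator. -/
noncomputable def cj (hA : SSC A e) (k : ℕ) : A →* A where
  toFun a := ⟨(hA.gen ^ k)⁻¹ * a * hA.gen ^ k, by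
    simpa using hA.conj_mem (inv_mem (pow_mem hA.gen_mem k)) a.2⟩
  map_one' := Subtype.ext (by simp)
  map_mul' a b := Subtype.ext (by show _ = _ * _; push_cast; group)

theorem coe_cj (hA : SSC A e) (k : ℕ) (a : A) : ((hA.cj k a : A) : G) = (hA.gen ^ k)⁻¹ * a * hA.gen ^ k := rfl

theorem cj_injective (hA : SSC A e) (k : ℕ) : Function.Injective (hA.cj k) := fun a b h => by
  have h' := congrArg Subtype.val h
  rw [coe_cj, coe_cj] at h'
  exact Subtype.ext (mul_left_cancel (mul_right_cancel h'))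

theorem cj_bijective (hA : SSC A e) (k : ℕ) : Function.Bijective (hA.cj k) :=
  ⟨hA.cj_injective k, Finite.surjective_of_injective (hA.cj_injective k)⟩

theorem cj_zero (hA : SSC A e) (a : A) : hA.cj 0 a = a := Subtype.ext (by simp [coe_cj])

theorem cj_add (hA : SSC A e) (k l : ℕ) (a : A) : hA.cj (k + l) a = hA.cj l (hA.cj k a) :=
  Subtype.ext (by simp only [coe_cj, pow_add]; group)

theorem cj_mod (hA : SSC A e) (k : ℕ) (a : A) : hA.cj (k % e) a = hA.cj k a := by
  refine Subtype.ext ?_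
  rw [coe_cj, coe_cj, ← pow_eq_pow_mod k hA.gen_pow]

theorem cj_free (hA : SSC A e) {k : ℕ} (hk : k < e) {a : A} (ha : a ≠ 1) (h : hA.cj k a = a) : k = 0 := by
  by_contra hk0
  refine hA.gen_pow_not_mem (Nat.pos_of_ne_zero hk0) hk
    (hA.mem_of_comm a.2 (fun h1 => ha (Subtype.ext h1)) ?_)
  have h' := congrArg Subtype.val h
  rw [coe_cj] at h'
  calc hA.gen ^ k * (a : G) = hA.gen ^ k * ((hA.gen ^ k)⁻¹ * a * hA.gen ^ k) := by rw [h']
    _ = (a : G) * hA.gen ^ k := by group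

/-- The sum over the orbit. -/
noncomputable def orbFun (hA : SSC A e) (φ : A → ℂ) (a : A) : ℂ := ∑ k : Fin e, φ (hA.cj k a)

theorem not_inConj_one : ¬ InConj A (1 : G) := by
  rintro ⟨g, a, -, ha, h⟩
  exact ha (conj_eq_one_iff.mp h)

theorem inConj_coe {a : G} (ha : a ∈ A) (ha1 : a ≠ 1) : InConj A a := ⟨1, a, ha, ha1, by group⟩

theorem inConj_of_isConj {x y : G} (hx : InConj A x) (h : IsConj x y) : InConj A y := by
  obtain ⟨g, a, ha, ha1, rfl⟩ := hx
  obtain ⟨c, rfl⟩ := isConj_iff.mp h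
  exact ⟨c * g, a, ha, ha1, by group⟩

theorem ind_on (hA : SSC A e) (φ : A → ℂ) {a : A} (ha : a ≠ 1) :
    Cfsg.indFun A φ (a : G) = hA.orbFun φ a := by
  have ha1 : (a : G) ≠ 1 := fun h => ha (Subtype.ext h)
  rw [indFun_apply]
  have hout : ∀ x : G, x ∉ normalizer (A : Set G) → Cfsg.extendByZero A φ (x⁻¹ * a * x) = 0 := by
    intro x hx
    refine extendByZero_not_mem A φ fun h => hx ?_
    have := inv_mem (hA.mem_normalizer_of_conj a.2 ha1 (g := x⁻¹) (by simpa using h))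
    simpa using this
  rw [← Finset.sum_filter_of_ne (p := fun x => x ∈ normalizer (A : Set G))
    (fun x _ h => by_contra fun hx => h (hout x hx))]
  rw [Finset.sum_subtype (p := fun x => x ∈ normalizer (A : Set G)) _ (fun x => by simp)
    (fun x => Cfsg.extendByZero A φ (x⁻¹ * a * x))]
  rw [← (Equiv.ofBijective _ hA.normal_form_bij).sum_comp]
  simp only [Equiv.ofBijective_apply]
  rw [Fintype.sum_prod_type]
  have key : ∀ b : A, ∀ k : Fin e, Cfsg.extendByZero A φ (((b : G) * hA.gen ^ (k : ℕ))⁻¹ * a *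
      ((b : G) * hA.gen ^ (k : ℕ))) = φ (hA.cj k a) := by
    intro b k
    have e1 : ((b : G) * hA.gen ^ (k : ℕ))⁻¹ * a * ((b : G) * hA.gen ^ (k : ℕ)) = (hA.cj k a : A) := by
      rw [coe_cj]
      calc ((b : G) * hA.gen ^ (k : ℕ))⁻¹ * a * ((b : G) * hA.gen ^ (k : ℕ))
          = (hA.gen ^ (k : ℕ))⁻¹ * ((b : G)⁻¹ * (a * b)) * hA.gen ^ (k : ℕ) := by group
        _ = _ := by rw [hA.comm a.2 b.2]; group
    rw [e1, extendByZero_coe]
  simp only [key, Finset.sum_const, Finset.card_univ, nsmul_eq_mul]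
  rw [Nat.card_eq_fintype_card, ← mul_assoc,
    inv_mul_cancel₀ (Nat.cast_ne_zero.mpr Fintype.card_ne_zero), one_mul]
  rfl

theorem ind_off (_hA : SSC A e) (φ : A → ℂ) (h1 : φ 1 = 0) {x : G} (hx : ¬ InConj A x) :
    Cfsg.indFun A φ x = 0 := by
  rw [indFun_apply, Finset.sum_eq_zero fun y _ => ?_, mul_zero]
  by_cases hy : y⁻¹ * x * y ∈ A
  · have : y⁻¹ * x * y = 1 := by_contra fun h => hx ⟨y, _, hy, h, by group⟩
    rw [extendByZero_mem A φ hy]
    simp only [this]
    exact h1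
  · exact extendByZero_not_mem A φ hy

theorem inner_ind (hA : SSC A e) (ψ φ : A → ℂ) (hψ : ψ 1 = 0) :
    Cfsg.classInner (Cfsg.indFun A ψ) (Cfsg.indFun A φ) = Cfsg.classInner ψ (hA.orbFun φ) := by
  rw [classInner_indFun_left _ _ (isClassFunction_indFun _ _)]
  simp only [Cfsg.classInner]
  congr 1
  refine Finset.sum_congr rfl fun a _ => ?_
  rcases eq_or_ne a 1 with rfl | ha
  · simp [hψ]
  · rw [hA.ind_on φ ha]

theorem inner_cross (hA : SSC A e) (hB : SSC B f)
    (hnc : ∀ g : G, A.map (MulAut.conj g).toMonoidHom ≠ B) (ψ : A → ℂ) (φ : B → ℂ) (hψ : ψ 1 = 0)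
    (hφ : φ 1 = 0) : Cfsg.classInner (Cfsg.indFun A ψ) (Cfsg.indFun B φ) = 0 := by
  rw [classInner_indFun_left _ _ (isClassFunction_indFun _ _)]
  simp only [Cfsg.classInner]
  rw [Finset.sum_eq_zero fun a _ => ?_, mul_zero]
  rcases eq_or_ne a 1 with rfl | ha
  · simp [hψ]
  · rw [hB.ind_off φ hφ, map_zero, mul_zero]
    rintro ⟨g, b, hb, -, h⟩
    refine hA.not_mem_of_not_conj hB hnc a.2 (fun h' => ha (Subtype.ext h')) (g := g⁻¹) ?_
    rw [← h]
    simpa [mul_assoc] using hb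

theorem inv_conj (hA : SSC A e) {x : G} (hx : InConj A x) : IsConj x x⁻¹ := by
  obtain ⟨g, a, ha, ha1, rfl⟩ := hx
  refine isConj_iff.mpr ⟨g * hA.invol * g⁻¹, ?_⟩
  rw [show (g * a * g⁻¹)⁻¹ = g * a⁻¹ * g⁻¹ by group, ← hA.invol_inverts ha]
  group

theorem ind_inv (hA : SSC A e) (φ : A → ℂ) (h1 : φ 1 = 0) (x : G) :
    Cfsg.indFun A φ x⁻¹ = Cfsg.indFun A φ x := by
  by_cases hx : InConj A x
  · exact (isClassFunction_iff.mp (isClassFunction_indFun A φ) _ _ (hA.inv_conj hx)).symm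
  · rw [hA.ind_off φ h1 hx, hA.ind_off φ h1]
    intro h
    refine hx (inConj_of_isConj h ?_)
    simpa using hA.inv_conj h

theorem roots_of_inConj (hA : SSC A e) {x : G} (hx : InConj A x) : ZassSuz.sqCount x = 1 := by
  obtain ⟨g, a, ha, ha1, rfl⟩ := hx
  obtain ⟨m, hm⟩ := hA.odd_card
  have hpow : ∀ c ∈ A, (c * c) ^ (m + 1) = c := fun c hc => by
    rw [← pow_two, ← pow_mul, show 2 * (m + 1) = Nat.card A + 1 by omega, pow_succ, hA.pow_card hc,
      one_mul]
  rw [ZassSuz.sqCount]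
  norm_cast
  rw [Finset.card_eq_one]
  refine ⟨g * a ^ (m + 1) * g⁻¹, Finset.ext fun y => ?_⟩
  simp only [Finset.mem_filter, Finset.mem_univ, true_and, Finset.mem_singleton]
  constructor
  · intro hy
    have hc : g⁻¹ * y * g ∈ A := by
      refine hA.mem_of_comm ha ha1 ?_
      calc g⁻¹ * y * g * a = g⁻¹ * (y * (g * a * g⁻¹)) * g := by group
        _ = g⁻¹ * (g * a * g⁻¹ * y) * g := by rw [← hy]; group
        _ = a * (g⁻¹ * y * g) := by group
    have h2 : g⁻¹ * y * g * (g⁻¹ * y * g) = a := by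
      calc g⁻¹ * y * g * (g⁻¹ * y * g) = g⁻¹ * (y * y) * g := by group
        _ = a := by rw [hy]; group
    rw [← h2, hpow _ hc]
    group
  · rintro rfl
    have h := hpow a ha
    rw [← pow_two, ← pow_mul, mul_comm, pow_mul] at h
    calc g * a ^ (m + 1) * g⁻¹ * (g * a ^ (m + 1) * g⁻¹) = g * (a ^ (m + 1) * a ^ (m + 1)) * g⁻¹ := by group
      _ = g * a * g⁻¹ := by rw [← pow_two, h]

theorem inner_sqCount_ind (hA : SSC A e) (φ : A → ℂ) (h1 : φ 1 = 0) :
    Cfsg.classInner (Cfsg.indFun A φ) (ZassSuz.sqCount : G → ℂ) =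
      Cfsg.classInner (Cfsg.indFun A φ) (fun _ => 1) := by
  simp only [Cfsg.classInner]
  congr 1
  refine Finset.sum_congr rfl fun x _ => ?_
  by_cases hx : InConj A x
  · rw [hA.roots_of_inConj hx]
  · simp [hA.ind_off φ h1 hx]

/-! ### Linear characters of `A` -/

theorem lin_one (hA : SSC A e) (χ : Cfsg.IrrCharacter A) : (χ : A → ℂ) 1 = 1 :=
  degree_one_of_comm (fun a b => Subtype.ext (hA.comm a.2 b.2)) χ.2

theorem lin_mul (hA : SSC A e) (χ : Cfsg.IrrCharacter A) (a b : A) :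
    (χ : A → ℂ) (a * b) = (χ : A → ℂ) a * (χ : A → ℂ) b := by
  obtain ⟨f, hf⟩ := exists_hom_of_degree_one (IsIrrCharacter.isCharacter χ.2) (hA.lin_one χ)
  simp [hf]

theorem card_lin (hA : SSC A e) : Fintype.card (Cfsg.IrrCharacter A) = Nat.card A := by
  rw [← Nat.card_eq_fintype_card, card_irrCharacter]
  refine (Nat.card_congr (Equiv.ofBijective ConjClasses.mk ⟨fun a b h => ?_, ConjClasses.mk_surjective⟩)).symm
  obtain ⟨c, hc⟩ := isConj_iff.mp (ConjClasses.mk_eq_mk_iff_isConj.mp h)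
  rw [← hc]
  refine Subtype.ext ?_
  show (a : G) = c * a * (c : G)⁻¹
  rw [hA.comm c.2 a.2]
  group

/-- A linear character moved by the generator. -/
noncomputable def cjL (hA : SSC A e) (k : ℕ) (χ : Cfsg.IrrCharacter A) : Cfsg.IrrCharacter A :=
  ⟨fun a => (χ : A → ℂ) (hA.cj k a), IsIrrCharacter.comp χ.2 (hA.cj k) (hA.cj_bijective k).2⟩

theorem cjL_apply (hA : SSC A e) (k : ℕ) (χ : Cfsg.IrrCharacter A) (a : A) :
    ((hA.cjL k χ : Cfsg.IrrCharacter A) : A → ℂ) a = (χ : A → ℂ) (hA.cj k a) := rfl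

theorem cjL_zero (hA : SSC A e) (χ : Cfsg.IrrCharacter A) : hA.cjL 0 χ = χ :=
  Subtype.ext (funext fun a => by rw [cjL_apply, cj_zero])

theorem cjL_cjL (hA : SSC A e) (k l : ℕ) (χ : Cfsg.IrrCharacter A) :
    hA.cjL k (hA.cjL l χ) = hA.cjL ((k + l) % e) χ :=
  Subtype.ext (funext fun a => by
    rw [cjL_apply, cjL_apply, cjL_apply, hA.cj_mod, hA.cj_add])

theorem cjL_free (hA : SSC A e) {k : ℕ} (hk : k < e) {χ : Cfsg.IrrCharacter A}
    (hχ : χ ≠ principal A) (h : hA.cjL k χ = χ) : k = 0 := by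
  by_contra hk0
  refine hχ (Subtype.ext (funext fun b => ?_))
  have hinj : Function.Injective (fun a : A => hA.cj k a * a⁻¹) := fun a c hac => by
    by_contra hne
    have hd : c⁻¹ * a ≠ 1 := fun h1 => hne (inv_mul_eq_one.mp h1).symm
    refine hk0 (hA.cj_free hk hd ?_)
    simp only at hac
    have hco : ∀ x y : A, x * y = y * x := fun x y => Subtype.ext (hA.comm x.2 y.2)
    rw [map_mul, map_inv]
    calc (hA.cj k c)⁻¹ * hA.cj k a = (hA.cj k c)⁻¹ * (hA.cj k a * a⁻¹) * a := by group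
      _ = (hA.cj k c)⁻¹ * (hA.cj k c * c⁻¹) * a := by rw [hac]
      _ = c⁻¹ * a := by group
  obtain ⟨a, rfl⟩ := Finite.surjective_of_injective hinj b
  show (χ : A → ℂ) (hA.cj k a * a⁻¹) = 1
  rw [hA.lin_mul, ← hA.cjL_apply, h, ← hA.lin_mul, mul_inv_cancel, hA.lin_one]

theorem cjL_principal (hA : SSC A e) (k : ℕ) : hA.cjL k (principal A) = principal A :=
  Subtype.ext (funext fun _ => rfl)

theorem cjL_ne_principal (hA : SSC A e) (k : ℕ) {χ : Cfsg.IrrCharacter A} (hχ : χ ≠ principal A) :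
    hA.cjL k χ ≠ principal A := by
  intro h
  refine hχ (Subtype.ext (funext fun b => ?_))
  obtain ⟨a, rfl⟩ := (hA.cj_bijective k).2 b
  exact congrFun (congrArg Subtype.val h) a

/-- The multiplicity of a linear character in a restriction. -/
theorem inner_cjL (hA : SSC A e) (k : ℕ) (l : Cfsg.IrrCharacter A) {F : G → ℂ}
    (hF : Cfsg.IsClassFunction G F) :
    Cfsg.classInner ((hA.cjL k l : Cfsg.IrrCharacter A) : A → ℂ) (fun a : A => F a) =
      Cfsg.classInner (l : A → ℂ) (fun a : A => F a) := by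
  simp only [Cfsg.classInner]
  congr 1
  refine Fintype.sum_equiv (Equiv.ofBijective _ (hA.cj_bijective k)) _ _ fun a => ?_
  rw [Equiv.ofBijective_apply, cjL_apply]
  congr 2
  refine (isClassFunction_iff.mp hF) _ _ (isConj_iff.mpr ⟨(hA.gen ^ k)⁻¹, ?_⟩)
  rw [coe_cj, inv_inv]

theorem inner_lin_orb (hA : SSC A e) (l m : Cfsg.IrrCharacter A) :
    Cfsg.classInner (l : A → ℂ) (hA.orbFun (m : A → ℂ)) =
      ∑ k : Fin e, if l = hA.cjL k m then 1 else 0 := by
  rw [show hA.orbFun (m : A → ℂ) = ∑ k : Fin e, ((hA.cjL k m : Cfsg.IrrCharacter A) : A → ℂ) from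
    funext fun a => by simp [orbFun, cjL_apply, Finset.sum_apply], classInner_sum_right]
  refine Finset.sum_congr rfl fun k _ => ?_
  rw [classInner_irr l.2 (hA.cjL k m).2]
  simp [Subtype.coe_inj]

theorem orbFun_sub (hA : SSC A e) (φ ψ : A → ℂ) : hA.orbFun (φ - ψ) = hA.orbFun φ - hA.orbFun ψ :=
  funext fun a => by simp [orbFun, Finset.sum_sub_distrib]

end SSC

end Cfsg.Agent.SSCThree
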