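import Cfsg.Agent.Lib.SSCThree.Groups

/-!
# Groups with few classes of two-elements and a class of three involutions
-/

set_option autoImplicit false
set_option linter.unusedSectionVars false
set_option linter.style.haveILetI false

namespace Cfsg.Agent.SSCThree

open Subgroup
open scoped Classical

universe u

variable {X : Type u} [Group X] [Finite X]

/-- An element of two-power order. -/
def TwoEl (w : X) : Prop := ∃ k : ℕ, w ^ 2 ^ k = 1

theorem orderOf_conj (g x : X) : orderOf (g * x * g⁻¹) = orderOf x :=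
  orderOf_injective (MulAut.conj g).toMonoidHom (MulEquiv.injective _) x

theorem orderOf_of_isConj {x y : X} (h : IsConj x y) : orderOf y = orderOf x := by
  obtain ⟨g, rfl⟩ := isConj_iff.mp h
  exact orderOf_conj g x

theorem three_lemma {d n : ℕ} (hcard : Nat.card X = 2 ^ d * 3 ^ n) {t : X} (ht : orderOf t = 2)
    (hT : Nat.card {z : X // IsConj t z} = 3)
    (h2c : ∀ a b c : X, TwoEl a → TwoEl b → TwoEl c → a ≠ 1 → b ≠ 1 → c ≠ 1 →
      IsConj a b ∨ IsConj a c ∨ IsConj b c) :
    (d = 1 ∧ ∀ w : X, TwoEl w → w * t = t * w → w = 1 ∨ w = t) ∨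
      (d = 2 ∧ (∀ w : X, TwoEl w → w * w = 1) ∧ (∀ u : X, orderOf u = 2 → IsConj t u) ∧
        ∀ g : X, g * t = t * g → ∀ u : X, orderOf u = 2 → g * u = u * g) := by
  haveI : Fact (Nat.Prime 2) := ⟨Nat.prime_two⟩
  haveI := Fintype.ofFinite X
  have tt : t * t = 1 := by rw [← pow_two, ← ht]; exact pow_orderOf_eq_one t
  have t1 : t ≠ 1 := fun h => by rw [h, orderOf_one] at ht; omega
  set F := Finset.univ.filter fun z : X => IsConj t z with hF
  have hFc : F.card = 3 := by rw [← hT, Nat.card_eq_fintype_card, Fintype.card_subtype]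
  have htF : t ∈ F := Finset.mem_filter.mpr ⟨Finset.mem_univ _, IsConj.refl t⟩
  obtain ⟨x₂, x₃, hx23, hE⟩ := Finset.card_eq_two.mp
    (show (F.erase t).card = 2 by rw [Finset.card_erase_of_mem htF, hFc])
  -- choose the name of the second conjugate
  obtain ⟨t₂, t₃, h23, hE, hsel⟩ : ∃ a b : X, a ≠ b ∧ F.erase t = {a, b} ∧
      (a * t = t * a → ∀ z, IsConj t z → z * t = t * z) := by
    by_cases h2 : x₂ * t = t * x₂
    · by_cases h3 : x₃ * t = t * x₃
      · refine ⟨x₂, x₃, hx23, hE, fun _ z hz => ?_⟩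
        rcases eq_or_ne z t with rfl | hzt
        · rfl
        · have : z ∈ F.erase t :=
            Finset.mem_erase.mpr ⟨hzt, Finset.mem_filter.mpr ⟨Finset.mem_univ _, hz⟩⟩
          rw [hE] at this
          simp only [Finset.mem_insert, Finset.mem_singleton] at this
          rcases this with rfl | rfl <;> assumption
      · exact ⟨x₃, x₂, hx23.symm, by rw [hE, Finset.pair_comm], fun h => absurd h h3⟩
    · exact ⟨x₂, x₃, hx23, hE, fun h => absurd h h2⟩
  have m2 : t₂ ∈ F.erase t := hE ▸ Finset.mem_insert_self _ _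
  have m3 : t₃ ∈ F.erase t := hE ▸ Finset.mem_insert_of_mem (Finset.mem_singleton_self _)
  have h12 : t₂ ≠ t := (Finset.mem_erase.mp m2).1
  have h13 : t₃ ≠ t := (Finset.mem_erase.mp m3).1
  have c2 : IsConj t t₂ := (Finset.mem_filter.mp (Finset.mem_erase.mp m2).2).2
  have c3 : IsConj t t₃ := (Finset.mem_filter.mp (Finset.mem_erase.mp m3).2).2
  have mem : ∀ z, IsConj t z → z = t ∨ z = t₂ ∨ z = t₃ := fun z hz => by
    rcases eq_or_ne z t with rfl | hzt
    · exact Or.inl rfl
    · have : z ∈ F.erase t := Finset.mem_erase.mpr ⟨hzt, Finset.mem_filter.mpr ⟨Finset.mem_univ _, hz⟩⟩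
      rw [hE] at this
      simpa [hzt] using this
  have cg : ∀ (g z : X), IsConj t z → IsConj t (g * z * g⁻¹) := fun g z hz =>
    hz.trans (isConj_iff.mpr ⟨g, rfl⟩)
  have inj : ∀ g a b : X, g * a * g⁻¹ = g * b * g⁻¹ → a = b := fun g a b h =>
    mul_left_cancel (mul_right_cancel h)
  have fix_iff : ∀ g a : X, g * a * g⁻¹ = a ↔ g * a = a * g := fun g a => mul_inv_eq_iff_eq_mul
  have sq2 : ∀ z, IsConj t z → z * z = 1 := fun z hz => by
    obtain ⟨g, rfl⟩ := isConj_iff.mp hz
    calc g * t * g⁻¹ * (g * t * g⁻¹) = g * (t * t) * g⁻¹ := by group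
      _ = 1 := by rw [tt]; group
  have tinv : ∀ z, IsConj t z → z⁻¹ = z := fun z hz => inv_eq_of_mul_eq_one_left (sq2 z hz)
  set K : Subgroup X := centralizer ({t} : Set X) ⊓ centralizer ({t₂} : Set X) with hK
  have memK : ∀ g, g ∈ K ↔ g * t = t * g ∧ g * t₂ = t₂ * g := fun g => by
    rw [hK, mem_inf, mem_centralizer_singleton_iff, mem_centralizer_singleton_iff]
  have Kall : ∀ g ∈ K, ∀ z, IsConj t z → g * z = z * g := by
    intro g hg z hz
    obtain ⟨h1, h2⟩ := (memK g).mp hg
    rcases mem z hz with rfl | rfl | rfl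
    · exact h1
    · exact h2
    · refine (fix_iff g z).mp ?_
      rcases mem _ (cg g z hz) with e | e | e
      · exact absurd (inj g z t (e.trans ((fix_iff g t).mpr h1).symm)) h13
      · exact absurd (inj g z t₂ (e.trans ((fix_iff g t₂).mpr h2).symm)) h23.symm
      · exact e
  haveI hKn : K.Normal := ⟨fun k hk g => by
    have key : ∀ z, IsConj t z → g * k * g⁻¹ * z = z * (g * k * g⁻¹) := fun z hz => by
      have := Kall k hk _ (cg g⁻¹ z hz)
      rw [inv_inv] at this
      calc g * k * g⁻¹ * z = g * (k * (g⁻¹ * z * g)) * g⁻¹ := by group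
        _ = g * (g⁻¹ * z * g * k) * g⁻¹ := by rw [this]
        _ = _ := by group
    exact (memK _).mpr ⟨key t (IsConj.refl t), key t₂ c2⟩⟩
  -- a Sylow subgroup centralising `t`
  have hfact : (Nat.card X).factorization 2 = d := by
    rw [hcard, Nat.factorization_mul (by positivity) (by positivity), Nat.factorization_pow,
      Nat.factorization_pow]
    simp [Nat.prime_two.factorization, Nat.prime_three.factorization]
  have hd1 : 1 ≤ d := by
    by_contra h0
    have h2 : (2 : ℕ) ∣ Nat.card X := ht ▸ orderOf_dvd_natCard t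
    rw [hcard, show d = 0 by omega, pow_zero, one_mul] at h2
    exact absurd (Nat.prime_two.dvd_of_dvd_pow h2) (by norm_num)
  obtain ⟨D, hDt⟩ : ∃ D : Sylow 2 X, ∀ w ∈ D, w * t = t * w := by
    have h2 : 2 ^ d ∣ Nat.card (centralizer ({t} : Set X)) := by
      have h3 : 2 ^ d ∣ 3 * Nat.card (centralizer ({t} : Set X)) := by
        rw [← hT, card_class_mul, hcard]
        exact dvd_mul_right _ _
      exact (Nat.Coprime.pow_left d (by norm_num : Nat.Coprime 2 3)).dvd_of_dvd_mul_left h3
    obtain ⟨P, hP⟩ := Sylow.exists_subgroup_card_pow_prime 2 h2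
    refine ⟨Sylow.ofCard (P.map (centralizer ({t} : Set X)).subtype) ?_, ?_⟩
    · rw [hfact, ← hP]
      exact Nat.card_congr (P.equivMapOfInjective _ (subtype_injective _)).toEquiv.symm
    · rintro w ⟨w', -, rfl⟩
      exact mem_centralizer_singleton_iff.mp w'.2
  have hDcard : Nat.card (D : Subgroup X) = 2 ^ d := by rw [D.card_eq_multiplicity, hfact]
  have twoD : ∀ w ∈ (D : Subgroup X), TwoEl w := fun w hw => by
    obtain ⟨k, hk⟩ := D.isPGroup' ⟨w, hw⟩
    exact ⟨k, congrArg Subtype.val hk⟩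
  have twoT : ∀ z, IsConj t z → TwoEl z := fun z hz => ⟨1, by rw [pow_one, pow_two, sq2 z hz]⟩
  by_cases hcc : t₂ * t = t * t₂
  swap
  · left
    have e3 : t * t₂ * t⁻¹ = t₃ := by
      rcases mem _ (cg t t₂ c2) with e | e | e
      · exact absurd (inj t t₂ t (e.trans ((fix_iff t t).mpr rfl).symm)) h12
      · exact absurd ((fix_iff t t₂).mp e).symm hcc
      · exact e
    have tt' : t⁻¹ = t := tinv t (IsConj.refl t)
    have e2 : t * t₃ * t⁻¹ = t₂ := by
      rw [← e3, tt']
      calc t * (t * t₂ * t) * t = (t * t) * t₂ * (t * t) := by group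
        _ = t₂ := by rw [tt, one_mul, mul_one]
    have hcc3 : ¬ t₃ * t = t * t₃ := fun h => h23 (by
      rw [← e2]; exact (fix_iff t t₃).mpr h.symm)
    have htK : t ∉ K := fun h => hcc ((memK t).mp h).2.symm
    have key : ∀ w : X, TwoEl w → w ∈ K → w = 1 := by
      intro w hw hwK
      by_contra hw1
      have hev : 2 ∣ orderOf w := by
        obtain ⟨k, hk⟩ := hw
        obtain ⟨m, -, hm⟩ := (Nat.dvd_prime_pow Nat.prime_two).mp (orderOf_dvd_of_pow_eq_one hk)
        rcases Nat.eq_zero_or_pos m with rfl | hm0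
        · exact absurd (orderOf_eq_one_iff.mp (by rw [hm, pow_zero])) hw1
        · exact hm ▸ dvd_pow_self 2 (by omega)
      set v := w ^ (orderOf w / 2) with hv
      have hvo : orderOf v = 2 := by
        have hpos := orderOf_pos w
        rw [hv, orderOf_pow' _ (by omega), Nat.gcd_eq_right (Nat.div_dvd_of_dvd hev)]
        exact Nat.div_div_self hev hpos.ne'
      have hvK : v ∈ K := pow_mem hwK _
      have vv : v * v = 1 := by rw [← pow_two, ← hvo]; exact pow_orderOf_eq_one v
      have v1 : v ≠ 1 := fun h => by rw [h, orderOf_one] at hvo; omega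
      have hvt := ((memK v).mp hvK).1
      have vt1 : v * t ≠ 1 := fun h => htK (by
        have : v = t := (mul_eq_one_iff_eq_inv.mp h).trans tt'
        exact this ▸ hvK)
      have vtwo : TwoEl (v * t) := ⟨1, by
        rw [pow_one, pow_two]
        calc v * t * (v * t) = v * (t * v) * t := by group
          _ = v * (v * t) * t := by rw [hvt]
          _ = (v * v) * (t * t) := by group
          _ = 1 := by rw [vv, tt, one_mul]⟩
      rcases h2c v (v * t) t ⟨1, by rw [pow_one, pow_two, vv]⟩ vtwo ⟨1, by rw [pow_one, pow_two, tt]⟩ v1 vt1 t1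
        with h | h | h
      · obtain ⟨g, hg⟩ := isConj_iff.mp h
        exact htK (by
          have h' : v * t ∈ K := hg ▸ hKn.conj_mem v hvK g
          simpa using mul_mem (inv_mem hvK) h')
      · obtain ⟨g, hg⟩ := isConj_iff.mp h
        exact htK (hg ▸ hKn.conj_mem v hvK g)
      · have hcom : (v * t) * t = t * (v * t) := by rw [← mul_assoc t v t, ← hvt]
        rcases mem _ h.symm with e | e | e
        · exact v1 (mul_eq_right.mp e)
        · exact hcc (e ▸ hcom)
        · exact hcc3 (e ▸ hcom)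
    have main : ∀ w : X, TwoEl w → w * t = t * w → w = 1 ∨ w = t := by
      intro w hw hwt
      rcases mem _ (cg w t₂ c2) with e | e | e
      · exact absurd (inj w t₂ t (e.trans ((fix_iff w t).mpr hwt).symm)) h12
      · exact Or.inl (key w hw ((memK w).mpr ⟨hwt, (fix_iff w t₂).mp e⟩))
      · have h3 : w * t₃ * w⁻¹ = t₂ := by
          rcases mem _ (cg w t₃ c3) with e' | e' | e'
          · exact absurd (inj w t₃ t (e'.trans ((fix_iff w t).mpr hwt).symm)) h13
          · exact e'
          · exact absurd (inj w t₂ t₃ (e.trans e'.symm)) h23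
        have hK' : w * t ∈ K := (memK _).mpr ⟨by rw [← mul_assoc t w t, ← hwt], (fix_iff _ _).mp (by
          calc w * t * t₂ * (w * t)⁻¹ = w * (t * t₂ * t⁻¹) * w⁻¹ := by group
            _ = t₂ := by rw [e3, h3])⟩
        obtain ⟨k, hk⟩ := hw
        have htwo : TwoEl (w * t) := ⟨k + 1, by
          rw [(show Commute w t from hwt).mul_pow, pow_succ, pow_mul, hk, one_pow, one_mul, pow_mul',
            pow_two, tt, one_pow]⟩
        exact Or.inr ((mul_eq_one_iff_eq_inv.mp (key _ htwo hK')).trans tt')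
    refine ⟨?_, main⟩
    have hle : Nat.card (D : Subgroup X) ≤ 2 := by
      rw [Nat.card_eq_fintype_card, ← Finset.card_univ,
        ← Finset.card_map ⟨Subtype.val, Subtype.val_injective⟩]
      refine (Finset.card_le_card (t := ({1, t} : Finset X)) fun z hz => ?_).trans Finset.card_le_two
      simp only [Finset.mem_map, Finset.mem_univ, true_and, Function.Embedding.coeFn_mk] at hz
      obtain ⟨⟨z, hzD⟩, rfl⟩ := hz
      rcases main z (twoD z hzD) (hDt z hzD) with e | e <;> simp [e]
    rw [hDcard] at hle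
    have : (2 : ℕ) ^ d ≤ 2 ^ 1 := hle
    have := (Nat.pow_le_pow_iff_right (by norm_num)).mp this
    omega
  -- the three involutions commute
  right
  have hall : ∀ a b, IsConj t a → IsConj t b → a * b = b * a := by
    intro a b ha hb
    obtain ⟨g, rfl⟩ := isConj_iff.mp ha
    have h := hsel hcc _ (cg g⁻¹ b hb)
    rw [inv_inv] at h
    calc g * t * g⁻¹ * b = g * (t * (g⁻¹ * b * g)) * g⁻¹ := by group
      _ = g * (g⁻¹ * b * g * t) * g⁻¹ := by rw [h]
      _ = _ := by group
  have c1 := IsConj.refl t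
  have p12 := hall t t₂ c1 c2
  have p13 := hall t t₃ c1 c3
  have p23 := hall t₂ t₃ c2 c3
  have tw : t * t₂ = t₃ := by
    by_contra hne
    set w := t * t₂ * t₃ with hw
    have q213 : t₂ * t * t₃ = t * t₂ * t₃ := by rw [hcc]
    have q132 : t * t₃ * t₂ = t * t₂ * t₃ := by rw [mul_assoc, ← p23, ← mul_assoc]
    have q231 : t₂ * t₃ * t = t * t₂ * t₃ := by rw [mul_assoc, ← p13, ← mul_assoc, hcc]
    have q312 : t₃ * t * t₂ = t * t₂ * t₃ := by rw [← p13, mul_assoc, ← p23, ← mul_assoc]
    have q321 : t₃ * t₂ * t = t * t₂ * t₃ := by rw [← p23, mul_assoc, ← p13, ← mul_assoc, hcc]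
    have hcen : ∀ g, g * w * g⁻¹ = w := by
      intro g
      have e : g * w * g⁻¹ = (g * t * g⁻¹) * (g * t₂ * g⁻¹) * (g * t₃ * g⁻¹) := by rw [hw]; group
      rw [e, hw]
      rcases mem _ (cg g t c1) with a | a | a <;> rcases mem _ (cg g t₂ c2) with b | b | b <;>
        rcases mem _ (cg g t₃ c3) with c | c | c <;> rw [a, b, c] <;>
        first
        | rfl
        | exact absurd (inj g _ _ (a.trans b.symm)) h12.symm
        | exact absurd (inj g _ _ (a.trans c.symm)) h13.symm
        | exact absurd (inj g _ _ (b.trans c.symm)) h23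
        | exact q213
        | exact q132
        | exact q231
        | exact q312
        | exact q321
    have t3i := tinv t₃ c3
    have hwv : w = (t * t₂) * t₃ := hw
    have w1 : w ≠ 1 := fun h => hne ((mul_eq_one_iff_eq_inv.mp h).trans t3i)
    have u1 : t * t₂ ≠ 1 := fun h => h12 (((mul_eq_one_iff_inv_eq.mp h)).symm.trans (tinv t c1))
    have uu : (t * t₂) * (t * t₂) = 1 := by
      calc t * t₂ * (t * t₂) = t * (t₂ * t) * t₂ := by group
        _ = (t * t) * (t₂ * t₂) := by rw [hcc]; group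
        _ = 1 := by rw [tt, sq2 t₂ c2, one_mul]
    have wT : ¬ IsConj t w := fun h => by
      obtain ⟨g, hg⟩ := isConj_iff.mp h
      have : w = t := by
        have h' := hcen g
        rw [← hg] at h' ⊢
        exact (inj g _ _ h')
      rw [hw, mul_assoc] at this
      exact h23 ((mul_eq_one_iff_eq_inv.mp (mul_eq_left.mp this)).trans t3i)
    have uT : ¬ IsConj t (t * t₂) := fun h => by
      rcases mem _ h with e | e | e
      · exact (fun h0 => by rw [h0, isConj_one_left] at c2; exact t1 c2) (mul_eq_left.mp e)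
      · exact t1 (mul_eq_right.mp e)
      · exact hne e
    have wtwo : TwoEl w := ⟨1, by
      rw [pow_one, pow_two, hw]
      calc t * t₂ * t₃ * (t * t₂ * t₃) = t * t₂ * (t₃ * t) * t₂ * t₃ := by group
        _ = t * (t₂ * t) * (t₃ * t₂) * t₃ := by rw [← p13]; group
        _ = (t * t) * (t₂ * t₂) * (t₃ * t₃) := by rw [← p12, ← p23]; group
        _ = 1 := by rw [tt, sq2 t₂ c2, sq2 t₃ c3]; simp⟩
    rcases h2c t (t * t₂) w (twoT t c1) ⟨1, by rw [pow_one, pow_two, uu]⟩ wtwo t1 u1 w1 with h | h | h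
    · exact uT h
    · exact wT h
    · obtain ⟨g, hg⟩ := isConj_iff.mp h
      have h' := hcen g
      nth_rewrite 2 [← hg] at h'
      have := inj g _ _ h'
      rw [hw, mul_eq_left] at this
      rw [this, isConj_one_left] at c3
      exact t1 c3
  have tw3 : t * t₃ = t₂ := by rw [← tw, ← mul_assoc, tt, one_mul]
  have tw1 : t₂ * t₃ = t := by rw [← tw, ← mul_assoc, hcc, mul_assoc, sq2 t₂ c2, mul_one]
  let V : Subgroup X :=
    { carrier := {z | z = 1 ∨ IsConj t z}
      one_mem' := Or.inl rfl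
      inv_mem' := by
        rintro z (rfl | h)
        · exact Or.inl inv_one
        · exact Or.inr ((tinv z h).symm ▸ h)
      mul_mem' := by
        rintro a b (rfl | ha) (rfl | hb)
        · exact Or.inl (one_mul _)
        · exact Or.inr (by rwa [one_mul])
        · exact Or.inr (by rwa [mul_one])
        · rcases mem a ha with rfl | rfl | rfl <;> rcases mem b hb with rfl | rfl | rfl <;>
            first
            | exact Or.inl (sq2 _ ha)
            | exact Or.inr (tw.symm ▸ c3)
            | exact Or.inr (tw3.symm ▸ c2)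
            | exact Or.inr (tw1.symm ▸ c1)
            | exact Or.inr ((p12 ▸ tw).symm ▸ c3)
            | exact Or.inr ((p13 ▸ tw3).symm ▸ c2)
            | exact Or.inr ((p23 ▸ tw1).symm ▸ c1) }
  have memV : ∀ z, z ∈ V ↔ z = 1 ∨ IsConj t z := fun z => Iff.rfl
  haveI hVn : V.Normal := ⟨fun v hv g => by
    rcases (memV v).mp hv with rfl | h
    · exact (memV _).mpr (Or.inl (by group))
    · exact (memV _).mpr (Or.inr (cg g v h))⟩
  have Vcomm : ∀ a ∈ V, ∀ b ∈ V, a * b = b * a := by
    intro a ha b hb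
    rcases (memV a).mp ha with rfl | ha
    · simp
    rcases (memV b).mp hb with rfl | hb
    · simp
    exact hall a b ha hb
  have Vp : IsPGroup 2 V := by
    rintro ⟨v, hv⟩
    refine ⟨1, Subtype.ext ?_⟩
    show v ^ 2 ^ 1 = 1
    rcases (memV v).mp hv with rfl | h
    · simp
    · rw [pow_one, pow_two, sq2 v h]
  have hout : ∀ g g', TwoEl g → TwoEl g' → g ∉ V → g' ∉ V → IsConj g g' := by
    intro g g' hg hg' gV g'V
    have n1 : ∀ z, z ∉ V → z ≠ 1 := fun z hz h => hz (h ▸ one_mem V)
    rcases h2c t g g' (twoT t c1) hg hg' t1 (n1 g gV) (n1 g' g'V) with h | h | h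
    · exact absurd ((memV g).mpr (Or.inr h)) gV
    · exact absurd ((memV g').mpr (Or.inr h)) g'V
    · exact h
  have sqV : ∀ g, TwoEl g → g * g ∈ V := by
    intro g hg
    by_cases hgV : g ∈ V
    · exact mul_mem hgV hgV
    by_contra hne
    obtain ⟨k, hk⟩ := hg
    have hg2 : TwoEl (g * g) := ⟨k, by rw [(Commute.refl g).mul_pow, hk, one_mul]⟩
    have ho := orderOf_of_isConj (hout g (g * g) ⟨k, hk⟩ hg2 hgV hne)
    obtain ⟨m, -, hm⟩ := (Nat.dvd_prime_pow Nat.prime_two).mp (orderOf_dvd_of_pow_eq_one hk)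
    have hg1 : m ≠ 0 := fun h => hgV (by
      rw [h, pow_zero, orderOf_eq_one_iff] at hm; exact hm ▸ one_mem V)
    rw [← pow_two, orderOf_pow' _ two_ne_zero, hm,
      Nat.gcd_eq_right (dvd_pow_self 2 hg1)] at ho
    have := Nat.div_lt_self (n := 2 ^ m) (k := 2) (by positivity) (by norm_num)
    omega
  -- every element of two-power order centralises the four group
  have step : ∀ g, TwoEl g → g * t = t * g → g ∈ K := by
    intro g hg hgt
    by_contra hgK
    have hgV : g ∉ V := fun h => hgK ((memK g).mpr ⟨hgt,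
      Vcomm g h t₂ ((memV _).mpr (Or.inr c2))⟩)
    obtain ⟨k, hk⟩ := hg
    obtain ⟨P, hP⟩ := IsPGroup.exists_le_sylow (P := zpowers g) (show IsPGroup 2 (zpowers g) by
      rintro ⟨z, hz⟩
      obtain ⟨i, rfl⟩ := mem_zpowers_iff.mp hz
      refine ⟨k, Subtype.ext ?_⟩
      show (g ^ i) ^ 2 ^ k = 1
      rw [← zpow_natCast, ← zpow_mul, mul_comm, zpow_mul, zpow_natCast, hk, one_zpow])
    have hg2 : TwoEl (g * t₂) := by
      obtain ⟨j, hj⟩ := P.isPGroup' ⟨g * t₂, mul_mem (hP (mem_zpowers g))
        (Vp.le_sylow_of_normal P ((memV _).mpr (Or.inr c2)))⟩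
      exact ⟨j, congrArg Subtype.val hj⟩
    have hg2V : g * t₂ ∉ V := fun h => hgV (by
      simpa using mul_mem h (inv_mem ((memV _).mpr (Or.inr c2) : t₂ ∈ V)))
    obtain ⟨q, hq⟩ := isConj_iff.mp (hout g (g * t₂) ⟨k, hk⟩ hg2 hgV hg2V)
    have e3 : g * t₂ * g⁻¹ = t₃ := by
      rcases mem _ (cg g t₂ c2) with e | e | e
      · exact absurd (inj g t₂ t (e.trans ((fix_iff g t).mpr hgt).symm)) h12
      · exact absurd ((memK g).mpr ⟨hgt, (fix_iff g t₂).mp e⟩) hgK
      · exact e
    have esq : g * t₂ * (g * t₂) = t * (g * g) := by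
      calc g * t₂ * (g * t₂) = (g * t₂ * g⁻¹) * (g * g) * t₂ := by group
        _ = t₃ * (g * g * t₂) := by rw [e3]; group
        _ = t₃ * (t₂ * (g * g)) := by
          rw [Vcomm _ (sqV g ⟨k, hk⟩) t₂ ((memV _).mpr (Or.inr c2))]
        _ = t * (g * g) := by rw [← mul_assoc, ← p23, tw1]
    have econj : g * t₂ * (g * t₂) = q * (g * g) * q⁻¹ := by rw [← hq]; group
    have hfix : g * (g * g) * g⁻¹ = g * g := by group
    rcases (memV _).mp (sqV g ⟨k, hk⟩) with h | h
    · rw [esq, h, mul_one, mul_one, mul_inv_cancel] at econj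
      exact t1 econj
    · rcases mem _ h with e | e | e
      · rw [esq, e, tt] at econj
        exact t1 ((conj_eq_one_iff.mp econj.symm))
      · rw [e, e3] at hfix; exact h23 hfix.symm
      · rw [e] at hfix
        exact h23 (inj g _ _ (e3.trans hfix.symm))
  have hDK : (D : Subgroup X) ≤ K := fun w hw => step w (twoD w hw) (hDt w hw)
  have two_mem_K : ∀ w, TwoEl w → w ∈ K := by
    rintro w ⟨k, hk⟩
    obtain ⟨P, hP⟩ := IsPGroup.exists_le_sylow (P := zpowers w) (show IsPGroup 2 (zpowers w) by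
      rintro ⟨z, hz⟩
      obtain ⟨i, rfl⟩ := mem_zpowers_iff.mp hz
      refine ⟨k, Subtype.ext ?_⟩
      show (w ^ i) ^ 2 ^ k = 1
      rw [← zpow_natCast, ← zpow_mul, mul_comm, zpow_mul, zpow_natCast, hk, one_zpow])
    obtain ⟨g, rfl⟩ := MulAction.exists_smul_eq X D P
    have := hP (mem_zpowers w)
    rw [Sylow.coe_subgroup_smul, Subgroup.mem_smul_pointwise_iff_exists] at this
    obtain ⟨z, hz, rfl⟩ := this
    exact hKn.conj_mem z (hDK hz) g
  have fixone : ∀ g z, IsConj t z → g * z = z * g → g ∈ K := by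
    intro g z hz hgz
    have hgg : g * g ∈ K := by
      have key : ∀ a, IsConj t a → g * g * a = a * (g * g) := by
        intro a ha
        rcases eq_or_ne a z with rfl | haz
        · rw [mul_assoc, hgz, ← mul_assoc, hgz, mul_assoc]
        · have hga : g * a * g⁻¹ ≠ z := fun e => haz (inj g a z (e.trans ((fix_iff g z).mpr hgz).symm))
          have hgga : g * (g * a * g⁻¹) * g⁻¹ ≠ z := fun e =>
            hga (inj g _ z (e.trans ((fix_iff g z).mpr hgz).symm))
          refine (fix_iff (g * g) a).mp ?_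
          rw [show g * g * a * (g * g)⁻¹ = g * (g * a * g⁻¹) * g⁻¹ by group]
          by_cases hfa : g * a * g⁻¹ = a
          · rw [hfa, hfa]
          · rcases mem a ha with e1 | e1 | e1 <;> rcases mem z hz with e2 | e2 | e2 <;>
              rcases mem _ (cg g a ha) with e3 | e3 | e3 <;>
              rcases mem _ (cg g _ (cg g a ha)) with e4 | e4 | e4 <;>
              first
              | exact absurd (e1.trans e2.symm) haz
              | exact absurd (e3.trans e2.symm) hga
              | exact absurd (e3.trans e1.symm) hfa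
              | exact absurd (e4.trans e2.symm) hgga
              | exact absurd (inj g _ _ (e4.trans e3.symm)) hfa
              | exact e4.trans e1.symm
      exact (memK _).mpr ⟨key t c1, key t₂ c2⟩
    obtain ⟨k, m, hm, hgm⟩ := Nat.exists_eq_two_pow_mul_odd (orderOf_pos g).ne'
    have hgm' : g ^ m ∈ K := two_mem_K _ ⟨k, by rw [← pow_mul, mul_comm, ← hgm, pow_orderOf_eq_one]⟩
    obtain ⟨j, hj⟩ := hm
    have : g = ((g * g) ^ j)⁻¹ * g ^ m := by rw [hj, ← pow_two, ← pow_mul, pow_succ]; group
    rw [this]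
    exact mul_mem (inv_mem (pow_mem hgg _)) hgm'
  have hVD : V ≤ (D : Subgroup X) := Vp.le_sylow_of_normal D
  have hVset : Nat.card V = 4 := by
    rw [Nat.card_congr (Equiv.subtypeEquivRight (q := fun z => z ∈ ({1, t, t₂, t₃} : Finset X)) (fun z => by
      rw [memV]
      simp only [Finset.mem_insert, Finset.mem_singleton]
      refine or_congr_right ⟨mem z, ?_⟩
      rintro (rfl | rfl | rfl) <;> assumption)), Nat.card_eq_fintype_card, Fintype.card_coe]
    have o2 : (1 : X) ≠ t₂ := fun h => by rw [← h, isConj_one_left] at c2; exact t1 c2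
    have o3 : (1 : X) ≠ t₃ := fun h => by rw [← h, isConj_one_left] at c3; exact t1 c3
    rw [Finset.card_insert_of_notMem (by simp [t1.symm, o2, o3]),
      Finset.card_insert_of_notMem (by simp [h12.symm, h13.symm]), Finset.card_pair h23]
  by_cases hDV : (D : Subgroup X) ≤ V
  · have hd : d = 2 := by
      have h4 : Nat.card (D : Subgroup X) = 4 := by rw [le_antisymm hDV hVD, hVset]
      rw [hDcard] at h4
      exact (Nat.pow_right_injective (le_refl 2)) (show 2 ^ d = 2 ^ 2 by omega)
    have allV : ∀ w, TwoEl w → w ∈ V := by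
      rintro w ⟨k, hk⟩
      obtain ⟨P, hP⟩ := IsPGroup.exists_le_sylow (P := zpowers w) (show IsPGroup 2 (zpowers w) by
        rintro ⟨z, hz⟩
        obtain ⟨i, rfl⟩ := mem_zpowers_iff.mp hz
        refine ⟨k, Subtype.ext ?_⟩
        show (w ^ i) ^ 2 ^ k = 1
        rw [← zpow_natCast, ← zpow_mul, mul_comm, zpow_mul, zpow_natCast, hk, one_zpow])
      obtain ⟨g, rfl⟩ := MulAction.exists_smul_eq X D P
      have := hP (mem_zpowers w)
      rw [Sylow.coe_subgroup_smul, Subgroup.mem_smul_pointwise_iff_exists] at this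
      obtain ⟨z, hz, rfl⟩ := this
      exact hVn.conj_mem z (hDV hz) g
    have invol : ∀ u, orderOf u = 2 → IsConj t u := fun u hu =>
      ((memV u).mp (allV u ⟨1, by rw [pow_one, ← hu]; exact pow_orderOf_eq_one u⟩)).resolve_left
        fun h => by rw [h, orderOf_one] at hu; omega
    refine ⟨hd, fun w hw => ?_, invol, fun g hg u hu => Kall g (fixone g t c1 hg) u (invol u hu)⟩
    rcases (memV w).mp (allV w hw) with rfl | h
    · simp
    · exact sq2 w h
  exfalso
  obtain ⟨u₀, hu₀D, hu₀V⟩ := SetLike.not_le_iff_exists.mp hDV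
  have hcent : ∀ a ∈ (D : Subgroup X), ∀ v ∈ V, a * v = v * a := by
    intro a ha v hv
    rcases (memV v).mp hv with rfl | h
    · simp
    · exact Kall a (hDK ha) v h
  have hd3 : 3 ≤ d := by
    by_contra hc
    refine hDV (le_of_eq (eq_of_le_of_card_ge hVD ?_).symm)
    rw [hDcard, hVset, show (4 : ℕ) = 2 ^ 2 by norm_num]
    exact Nat.pow_le_pow_right (by norm_num) (by omega)
  -- the Sylow subgroup is not abelian
  obtain ⟨a, haD, b, hbD, hab⟩ : ∃ a ∈ (D : Subgroup X), ∃ b ∈ (D : Subgroup X), a * b ≠ b * a := by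
    by_contra! hcomm
    have hdiv := fusion_count D hcomm hu₀D (K := (D : Subgroup X)) le_normalizer
      fun k hk => hcomm k hk u₀ hu₀D
    have hcount : Nat.card {z : (D : Subgroup X) // IsConj u₀ (z : X)} + 4 = 2 ^ d := by
      rw [← hDcard, ← hVset, ← Nat.card_congr (subgroupOfEquivOfLe hVD).toEquiv,
        Nat.card_congr (Equiv.subtypeEquivRight (p := fun z : (D : Subgroup X) => IsConj u₀ (z : X))
          (q := fun z => ¬ z ∈ V.subgroupOf (D : Subgroup X)) (fun z => ⟨fun h hz => hu₀V ?_, fun h => ?_⟩))]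
      · simp only [Nat.card_eq_fintype_card]
        rw [Fintype.card_subtype_compl]
        have := Fintype.card_subtype_le (fun z : (D : Subgroup X) => z ∈ V.subgroupOf (D : Subgroup X))
        omega
      · obtain ⟨g, hg⟩ := isConj_iff.mp h.symm
        rw [← hg]
        exact hVn.conj_mem _ (mem_subgroupOf.mp hz) g
      · exact hout u₀ z (twoD _ hu₀D) (twoD _ z.2) hu₀V fun hz => h (mem_subgroupOf.mpr hz)
    rw [hDcard, hcard, mul_comm, mul_dvd_mul_iff_left (by positivity)] at hdiv
    obtain ⟨j, -, hj⟩ := (Nat.dvd_prime_pow Nat.prime_three).mp hdiv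
    have hodd : Odd (3 ^ j : ℕ) := Odd.pow (by decide)
    have heven : Even (2 ^ d : ℕ) := Nat.even_pow.mpr ⟨even_two, by omega⟩
    rw [← hj, Nat.odd_iff] at hodd
    rw [Nat.even_iff] at heven
    omega
  have haV : a ∉ V := fun h => hab (hcent b hbD a h).symm
  have hbV : b ∉ V := fun h => hab (hcent a haD b h)
  -- the quotient by the four group
  set π := QuotientGroup.mk' V with hπ
  set Db := (D : Subgroup X).map π with hDb
  have hDbcard : Nat.card Db * 4 = 2 ^ d := by
    rw [← hDcard, ← hVset]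
    have h := (V.subgroupOf (D : Subgroup X)).card_mul_index
    rw [Nat.card_congr (subgroupOfEquivOfLe hVD).toEquiv] at h
    rw [← h, mul_comm]
    congr 1
    have e : V.relIndex (D : Subgroup X) = Nat.card Db := by
      rw [hDb, ← Subgroup.relIndex_ker, hπ, QuotientGroup.ker_mk']
    exact e.symm
  have hexp : ∀ q ∈ Db, q * q = 1 := by
    rintro _ ⟨w, hw, rfl⟩
    rw [← map_mul, hπ, QuotientGroup.mk'_apply, QuotientGroup.eq_one_iff]
    exact sqV w (twoD w hw)
  have hDbab : ∀ p ∈ Db, ∀ q ∈ Db, p * q = q * p := fun p hp q hq => by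
    have h1 := hexp _ (mul_mem hp hq)
    calc p * q = (p * q) * ((p * q) * (p * q))⁻¹ := by rw [h1, inv_one, mul_one]
      _ = q⁻¹ * p⁻¹ := by group
      _ = q * p := by rw [inv_eq_of_mul_eq_one_left (hexp p hp), inv_eq_of_mul_eq_one_left (hexp q hq)]
  have hQcard : Nat.card (X ⧸ V) = 2 ^ (d - 2) * 3 ^ n := by
    have h := V.card_mul_index
    rw [hVset, hcard, show 2 ^ d = 4 * 2 ^ (d - 2) by
      rw [show (4 : ℕ) = 2 ^ 2 by norm_num, ← pow_add]; congr 1; omega, mul_assoc] at h
    exact Nat.eq_of_mul_eq_mul_left (by norm_num) h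
  have hDb2 : Nat.card Db = 2 ^ (d - 2) := by
    refine Nat.eq_of_mul_eq_mul_right (show 0 < 4 by norm_num) ?_
    rw [hDbcard, show (4 : ℕ) = 2 ^ 2 by norm_num, ← pow_add]; congr 1; omega
  let DQ : Sylow 2 (X ⧸ V) := Sylow.ofCard Db (by
    rw [hDb2, hQcard, Nat.factorization_mul (by positivity) (by positivity), Nat.factorization_pow,
      Nat.factorization_pow]
    simp [Nat.prime_two.factorization, Nat.prime_three.factorization])
  have hd4 : d ≤ 4 := by
    have hdiv := fusion_count DQ hDbab (y := π a) ⟨a, haD, rfl⟩ (K := Db) le_normalizer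
      fun k hk => hDbab k hk _ ⟨a, haD, rfl⟩
    have hpa : π a ≠ 1 := fun h => haV ((QuotientGroup.eq_one_iff a).mp h)
    rw [hDb2, hQcard, mul_comm, mul_dvd_mul_iff_left (by positivity)] at hdiv
    have hcount : Nat.card {z : Db // IsConj (π a) (z : X ⧸ V)} = 2 ^ (d - 2) - 1 := by
      rw [← hDb2, Nat.card_congr (Equiv.subtypeEquivRight (q := fun z : Db => ¬ z = 1)
        (fun z => ⟨fun h h1 => hpa ?_, fun h => ?_⟩))]
      · simp only [Nat.card_eq_fintype_card]
        rw [Fintype.card_subtype_compl, Fintype.card_subtype_eq]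
      · rw [h1] at h
        exact isConj_one_left.mp h
      · obtain ⟨_, w, hw, rfl⟩ := z
        have hwV : w ∉ V := fun hv => h (Subtype.ext ((QuotientGroup.eq_one_iff w).mpr hv))
        exact π.map_isConj (hout a w (twoD _ haD) (twoD _ hw) haV hwV)
    have := two_pow_sub_one (d := d - 2) (i := n) (hcount ▸ hdiv)
    omega
  have four : ∀ z ∈ (D : Subgroup X), π z = 1 ∨ π z = π a ∨ π z = π b ∨ π z = π (a * b) := by
    intro z hz
    by_contra! hne
    obtain ⟨n1, n2, n3, n4⟩ := hne
    have nab : π a ≠ π b := fun h => hab (by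
      have hv : a⁻¹ * b ∈ V := QuotientGroup.eq.mp h
      calc a * b = a * (a * (a⁻¹ * b)) := by group
        _ = a * ((a⁻¹ * b) * a) := by rw [hcent a haD _ hv]
        _ = b * a := by group)
    have na : π a ≠ 1 := fun h => haV ((QuotientGroup.eq_one_iff a).mp h)
    have nb : π b ≠ 1 := fun h => hbV ((QuotientGroup.eq_one_iff b).mp h)
    have nab1 : π (a * b) ≠ 1 := fun h => nab (by
      rw [map_mul, mul_eq_one_iff_eq_inv, inv_eq_of_mul_eq_one_left (hexp _ ⟨b, hbD, rfl⟩)] at h
      exact h)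
    have naba : π (a * b) ≠ π a := fun h => nb (by rwa [map_mul, mul_eq_left] at h)
    have nabb : π (a * b) ≠ π b := fun h => na (by rwa [map_mul, mul_eq_right] at h)
    have h5 : ({1, π a, π b, π (a * b), π z} : Finset (X ⧸ V)).card = 5 := by
      rw [Finset.card_insert_of_notMem (by
          simp only [Finset.mem_insert, Finset.mem_singleton, not_or]
          exact ⟨na.symm, nb.symm, nab1.symm, n1.symm⟩),
        Finset.card_insert_of_notMem (by
          simp only [Finset.mem_insert, Finset.mem_singleton, not_or]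
          exact ⟨nab, naba.symm, n2.symm⟩),
        Finset.card_insert_of_notMem (by
          simp only [Finset.mem_insert, Finset.mem_singleton, not_or]
          exact ⟨nabb.symm, n3.symm⟩), Finset.card_pair n4.symm]
    have hle : ({1, π a, π b, π (a * b), π z} : Finset (X ⧸ V)).card ≤ Nat.card Db := by
      rw [Nat.card_eq_fintype_card, ← Fintype.card_coe]
      refine Fintype.card_le_of_injective (fun q => ⟨(q : X ⧸ V), ?_⟩)
        (fun p q h => Subtype.ext (congrArg Subtype.val h :))
      have := q.2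
      simp only [Finset.mem_insert, Finset.mem_singleton] at this
      rcases this with e | e | e | e | e <;> rw [e]
      exacts [one_mem _, ⟨a, haD, rfl⟩, ⟨b, hbD, rfl⟩, ⟨a * b, mul_mem haD hbD, rfl⟩, ⟨z, hz, rfl⟩]
    rw [h5, hDb2] at hle
    have : 2 ^ (d - 2) ≤ 2 ^ 2 := Nat.pow_le_pow_right (by norm_num) (by omega)
    omega
  set c := a * b * a⁻¹ * b⁻¹ with hc
  have c1' : c ≠ 1 := fun h => hab (by
    calc a * b = (a * b * a⁻¹ * b⁻¹) * (b * a) := by group
      _ = b * a := by rw [← hc, h, one_mul])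
  have hcV : c ∈ V := by
    rw [← QuotientGroup.eq_one_iff, ← QuotientGroup.mk'_apply, ← hπ, hc, map_mul, map_mul, map_mul, map_inv,
      map_inv, hDbab _ ⟨a, haD, rfl⟩ _ ⟨b, hbD, rfl⟩]
    group
  have hcT : IsConj t c := ((memV c).mp hcV).resolve_left c1'
  have cinv : c⁻¹ = c := tinv c hcT
  have ca := hcent a haD c hcV
  have cb := hcent b hbD c hcV
  have fact : a * b = c * (b * a) := by rw [hc]; group
  have fact' : b * a = c * (a * b) := by rw [fact, ← mul_assoc, sq2 c hcT, one_mul]
  have reps : ∀ p q : X, (p = 1 ∨ p = a ∨ p = b ∨ p = a * b) → (q = 1 ∨ q = a ∨ q = b ∨ q = a * b) →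
      p * q = q * p ∨ p * q = c * (q * p) := by
    intro p q hp hq
    have e1 : a * (a * b) = c * (a * b * a) := by
      calc a * (a * b) = a * (c * (b * a)) := by rw [← fact]
        _ = (a * c) * (b * a) := by group
        _ = _ := by rw [ca]; group
    have e2 : a * b * a = c * (a * (a * b)) := by rw [e1, ← mul_assoc c c, sq2 c hcT, one_mul]
    have e3 : a * b * b = c * (b * (a * b)) := by
      calc a * b * b = c * (b * a) * b := by rw [← fact]
        _ = _ := by group
    have e4 : b * (a * b) = c * (a * b * b) := by rw [e3, ← mul_assoc c c, sq2 c hcT, one_mul]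
    rcases hp with rfl | rfl | rfl | rfl <;> rcases hq with rfl | rfl | rfl | rfl <;>
      first
      | (left; simp; done)
      | exact Or.inr fact
      | exact Or.inr fact'
      | exact Or.inr e1
      | exact Or.inr e2
      | exact Or.inr e3
      | exact Or.inr e4
  have split : ∀ z ∈ (D : Subgroup X), ∃ p v, (p = 1 ∨ p = a ∨ p = b ∨ p = a * b) ∧ v ∈ V ∧ z = p * v := by
    intro z hz
    have hp : ∀ p, π z = π p → p⁻¹ * z ∈ V := fun p h => QuotientGroup.eq.mp h.symm
    rcases four z hz with h | h | h | h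
    · exact ⟨1, z, Or.inl rfl, (QuotientGroup.eq_one_iff z).mp h, (one_mul z).symm⟩
    · exact ⟨a, a⁻¹ * z, Or.inr (Or.inl rfl), hp a h, by group⟩
    · exact ⟨b, b⁻¹ * z, Or.inr (Or.inr (Or.inl rfl)), hp b h, by group⟩
    · exact ⟨a * b, (a * b)⁻¹ * z, Or.inr (Or.inr (Or.inr rfl)), hp _ h, by group⟩
  have comm_val : ∀ p ∈ (D : Subgroup X), ∀ q ∈ (D : Subgroup X), p * q = q * p ∨ p * q = c * (q * p) := by
    intro p hp q hq
    obtain ⟨p₀, v, hp₀, hv, rfl⟩ := split p hp
    obtain ⟨q₀, w, hq₀, hw, rfl⟩ := split q hq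
    have hpD : p₀ ∈ (D : Subgroup X) := by simpa using mul_mem hp (inv_mem (hVD hv))
    have hqD : q₀ ∈ (D : Subgroup X) := by simpa using mul_mem hq (inv_mem (hVD hw))
    have e : p₀ * v * (q₀ * w) = p₀ * q₀ * (v * w) := by
      rw [← mul_assoc (p₀ * v), mul_assoc p₀ v q₀, ← hcent q₀ hqD v hv]; group
    have e' : q₀ * w * (p₀ * v) = q₀ * p₀ * (v * w) := by
      rw [← mul_assoc (q₀ * w), mul_assoc q₀ w p₀, ← hcent p₀ hpD w hw, Vcomm v hv w hw]; group
    rw [e, e']
    rcases reps p₀ q₀ hp₀ hq₀ with h | h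
    · exact Or.inl (by rw [h])
    · exact Or.inr (by rw [h]; group)
  have hND : normalizer ((D : Subgroup X) : Set X) ≤ K := by
    intro g hg
    refine fixone g c hcT ((fix_iff g c).mp ?_)
    have ga := ((mem_normalizer_iff.mp hg) a).mp haD
    have gb := ((mem_normalizer_iff.mp hg) b).mp hbD
    have e : g * c * g⁻¹ = (g * a * g⁻¹) * (g * b * g⁻¹) * (g * a * g⁻¹)⁻¹ * (g * b * g⁻¹)⁻¹ := by
      rw [hc]; group
    rcases comm_val _ ga _ gb with h | h
    · exfalso
      have hg1 : g * c * g⁻¹ = 1 := by rw [e, h]; group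
      exact c1' (conj_eq_one_iff.mp hg1)
    · rw [e, h]; group
  have htop : (⊤ : Subgroup X) ≤ K := by
    rw [← Sylow.normalizer_sup_eq_top (N := K) (D.subtype hDK)]
    refine sup_le ?_ le_rfl
    have : ((D.subtype hDK : Sylow 2 K) : Subgroup K).map K.subtype = (D : Subgroup X) := by
      rw [Sylow.coe_subtype, Subgroup.map_subgroupOf_eq_of_le hDK]
    rw [this]
    exact hND
  obtain ⟨g, hg⟩ := isConj_iff.mp c2
  exact h12 (hg.symm.trans ((fix_iff g t).mpr ((memK g).mp (htop (Subgroup.mem_top g))).1))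

end Cfsg.Agent.SSCThree
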