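import Cfsg.Agent.Lib.SSCThree.Classes
import Cfsg.Agent.Lib.SSCThree.ThreeClass

/-!
# Orbits on an abelian Sylow subgroup of the centraliser of an involution
-/

set_option autoImplicit false
set_option linter.unusedSectionVars false
set_option linter.style.haveILetI false

namespace Cfsg.Agent.SSCThree

open Subgroup
open scoped Classical

universe u

theorem eq_two_pow_mul {r n : ℕ} (hr : r.Prime) (hn : n ≠ 0)
    (h : ∀ p : ℕ, p.Prime → p ∣ n → p = 2 ∨ p = r) : ∃ a b : ℕ, n = 2 ^ a * r ^ b := by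
  obtain ⟨a, m, hm2, rfl⟩ := Nat.exists_eq_pow_mul_and_not_dvd hn 2 (by norm_num)
  obtain ⟨b, k, hkr, rfl⟩ := Nat.exists_eq_pow_mul_and_not_dvd
    (show m ≠ 0 from fun h0 => hm2 (h0 ▸ dvd_zero 2)) r hr.one_lt.ne'
  rcases eq_or_ne k 1 with rfl | hk
  · exact ⟨a, b, by rw [mul_one]⟩
  · obtain ⟨p, hp, hpk⟩ := Nat.exists_prime_and_dvd hk
    rcases h p hp ((hpk.mul_left _).mul_left _) with rfl | rfl
    · exact absurd (hpk.mul_left _) hm2
    · exact absurd hpk hkr

/-- Exponents in a product of powers of two and an odd prime. -/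
theorem pow_mul_dvd {r a b a' b' : ℕ} (hr : r.Prime) (hr2 : r ≠ 2) (h : 2 ^ a * r ^ b ∣ 2 ^ a' * r ^ b') :
    a ≤ a' ∧ b ≤ b' := by
  have hc : Nat.Coprime 2 r := (Nat.coprime_primes Nat.prime_two hr).mpr hr2.symm
  exact ⟨(Nat.pow_dvd_pow_iff_le_right (show 1 < 2 by norm_num)).mp
      ((hc.pow a b').dvd_of_dvd_mul_right ((dvd_mul_right _ _).trans h)),
    (Nat.pow_dvd_pow_iff_le_right hr.one_lt).mp
      ((hc.symm.pow b a').dvd_of_dvd_mul_left ((dvd_mul_left _ _).trans h))⟩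

theorem pow_mul_inj {r a b a' b' : ℕ} (hr : r.Prime) (hr2 : r ≠ 2) (h : 2 ^ a * r ^ b = 2 ^ a' * r ^ b') :
    a = a' ∧ b = b' := by
  obtain ⟨h1, h2⟩ := pow_mul_dvd hr hr2 (dvd_of_eq h)
  obtain ⟨h3, h4⟩ := pow_mul_dvd hr hr2 (dvd_of_eq h.symm)
  exact ⟨le_antisymm h1 h3, le_antisymm h2 h4⟩

theorem five_pow {d i : ℕ} (h : 2 ^ d - 1 ∣ 5 ^ i) : d ≤ 1 := by
  by_contra hd
  obtain ⟨j, -, hj⟩ := (Nat.dvd_prime_pow (show Nat.Prime 5 by norm_num)).mp h
  have h4 : (4 : ℕ) ∣ 2 ^ d := ⟨2 ^ (d - 2), by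
    rw [show (4 : ℕ) = 2 ^ 2 from rfl, ← pow_add]; congr 1; omega⟩
  have hmod : 5 ^ j % 4 = 1 := by rw [Nat.pow_mod]; norm_num
  have : 1 ≤ 2 ^ d := Nat.one_le_two_pow
  omega

variable {X : Type u} [Group X] [Finite X]

theorem sylow_card {r a f : ℕ} [Fact r.Prime] (hr2 : r ≠ 2) (hcard : Nat.card X = 2 ^ a * r ^ f)
    (F : Sylow r X) : Nat.card (F : Subgroup X) = r ^ f := by
  have hr : r.Prime := Fact.out
  rw [F.card_eq_multiplicity, hcard, Nat.factorization_mul (by positivity) (pow_ne_zero _ hr.ne_zero),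
    Nat.factorization_pow, Nat.factorization_pow]
  simp [Nat.prime_two.factorization, hr.factorization, hr2.symm]

theorem orbit_pow {r a f : ℕ} [Fact r.Prime] (hr2 : r ≠ 2) (hcard : Nat.card X = 2 ^ a * r ^ f)
    (F : Sylow r X) (hab : ∀ x ∈ F, ∀ y ∈ F, x * y = y * x) {y : X} (hy : y ∈ F) :
    ∃ j, j ≤ a ∧ Nat.card {z : (F : Subgroup X) // IsConj y (z : X)} = 2 ^ j := by
  have h := fusion_count F hab hy (K := (F : Subgroup X)) le_normalizer fun k hk => hab k hk y hy
  rw [sylow_card hr2 hcard F, hcard] at h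
  exact (Nat.dvd_prime_pow Nat.prime_two).mp
    ((mul_dvd_mul_iff_right (pow_ne_zero _ (Fact.out : r.Prime).ne_zero)).mp h)

/-- One orbit on the non-trivial elements. -/
theorem one_orbit {r a f : ℕ} [Fact r.Prime] (hr2 : r ≠ 2) (hf : 1 ≤ f)
    (hcard : Nat.card X = 2 ^ a * r ^ f) (hab : ∀ F : Sylow r X, ∀ x ∈ F, ∀ y ∈ F, x * y = y * x)
    (hone : ∀ F : Sylow r X, ∀ x ∈ F, ∀ y ∈ F, x ≠ 1 → y ≠ 1 → IsConj x y) :
    ∃ j, r ^ f = 2 ^ j + 1 := by
  haveI := Fintype.ofFinite X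
  obtain ⟨F⟩ := (inferInstance : Nonempty (Sylow r X))
  have cF := sylow_card hr2 hcard F
  obtain ⟨y, hy, hy1⟩ : ∃ y ∈ (F : Subgroup X), y ≠ 1 := by
    refine (bot_or_exists_ne_one _).resolve_left fun h => ?_
    rw [h, card_bot] at cF
    exact (one_lt_pow₀ (Fact.out : r.Prime).one_lt (by omega)).ne cF
  obtain ⟨j, -, hj⟩ := orbit_pow hr2 hcard F (hab F) hy
  refine ⟨j, ?_⟩
  have e : Nat.card {z : (F : Subgroup X) // IsConj y (z : X)} = Nat.card {z : (F : Subgroup X) // z ≠ 1} := by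
    refine Nat.card_congr (Equiv.subtypeEquivRight fun z => ⟨fun h h1 => hy1 ?_, fun h => ?_⟩)
    · rw [h1] at h; exact isConj_one_left.mp h
    · exact hone F y hy z z.2 hy1 fun h' => h (Subtype.ext h')
  simp only [Nat.card_eq_fintype_card] at e hj cF
  rw [e, Fintype.card_subtype_compl, Fintype.card_subtype_eq, cF] at hj
  have : 1 ≤ r ^ f := Nat.one_le_pow _ _ (Fact.out : r.Prime).pos
  omega

/-- At most two orbits on the non-trivial elements. -/
theorem two_orbits {a f : ℕ} (hf : 1 ≤ f)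
    (hcard : Nat.card X = 2 ^ a * 3 ^ f) (hab : ∀ F : Sylow 3 X, ∀ x ∈ F, ∀ y ∈ F, x * y = y * x)
    (htwo : ∀ F : Sylow 3 X, ∀ x ∈ F, ∀ y ∈ F, ∀ z ∈ F, x ≠ 1 → y ≠ 1 → z ≠ 1 →
      IsConj x y ∨ IsConj x z ∨ IsConj y z) :
    ∃ i j, i ≤ a ∧ j ≤ a ∧ (3 ^ f = 2 ^ i + 1 ∨ (3 ^ f = 2 ^ i + 2 ^ j + 1 ∧
      ∃ F : Sylow 3 X, ∃ y ∈ F, ∃ y' ∈ F, y ≠ 1 ∧ y' ≠ 1 ∧ ¬ IsConj y y')) := by
  haveI : Fact (Nat.Prime 3) := ⟨Nat.prime_three⟩
  haveI := Fintype.ofFinite X
  obtain ⟨F⟩ := (inferInstance : Nonempty (Sylow 3 X))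
  have cF := sylow_card (by norm_num) hcard F
  obtain ⟨y, hy, hy1⟩ : ∃ y ∈ (F : Subgroup X), y ≠ 1 := by
    refine (bot_or_exists_ne_one _).resolve_left fun h => ?_
    rw [h, card_bot] at cF
    exact (one_lt_pow₀ (by norm_num) (by omega)).ne cF
  obtain ⟨i, hia, hi⟩ := orbit_pow (by norm_num) hcard F (hab F) hy
  have hpos : 1 ≤ 3 ^ f := Nat.one_le_pow _ _ (by norm_num)
  by_cases hall : ∀ z ∈ (F : Subgroup X), z ≠ 1 → IsConj y z
  · refine ⟨i, i, hia, hia, Or.inl ?_⟩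
    have e : Nat.card {z : (F : Subgroup X) // IsConj y (z : X)} =
        Nat.card {z : (F : Subgroup X) // z ≠ 1} := by
      refine Nat.card_congr (Equiv.subtypeEquivRight fun z => ⟨fun h h1 => hy1 ?_, fun h => ?_⟩)
      · rw [h1] at h; exact isConj_one_left.mp h
      · exact hall z z.2 fun h' => h (Subtype.ext h')
    simp only [Nat.card_eq_fintype_card] at e hi cF
    rw [e, Fintype.card_subtype_compl, Fintype.card_subtype_eq, cF] at hi
    omega
  · push Not at hall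
    obtain ⟨y', hy', hy'1, hne⟩ := hall
    obtain ⟨j, hja, hj⟩ := orbit_pow (by norm_num) hcard F (hab F) hy'
    refine ⟨i, j, hia, hja, Or.inr ⟨?_, F, y, hy, y', hy', hy1, hy'1, hne⟩⟩
    have e : Nat.card {z : (F : Subgroup X) // IsConj y (z : X) ∨ IsConj y' (z : X)} =
        Nat.card {z : (F : Subgroup X) // z ≠ 1} := by
      refine Nat.card_congr (Equiv.subtypeEquivRight fun z => ⟨?_, fun h => ?_⟩)
      · rintro (h | h) h1 <;> rw [h1] at h
        · exact hy1 (isConj_one_left.mp h)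
        · exact hy'1 (isConj_one_left.mp h)
      · rcases htwo F y hy y' hy' z z.2 hy1 hy'1 (fun h' => h (Subtype.ext h')) with h' | h' | h'
        · exact absurd h' hne
        · exact Or.inl h'
        · exact Or.inr h'
    have hdis : Nat.card {z : (F : Subgroup X) // IsConj y (z : X) ∨ IsConj y' (z : X)} =
        Nat.card {z : (F : Subgroup X) // IsConj y (z : X)} +
          Nat.card {z : (F : Subgroup X) // IsConj y' (z : X)} := by
      simp only [Nat.card_eq_fintype_card]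
      refine Fintype.card_subtype_or_disjoint _ _ ?_
      rw [Pi.disjoint_iff]
      intro z
      simp only [Prop.disjoint_iff]
      intro h
      exact hne (IsConj.trans h.1 (IsConj.symm h.2))
    rw [hdis, hi, hj] at e
    simp only [Nat.card_eq_fintype_card] at cF
    rw [Nat.card_eq_fintype_card, Fintype.card_subtype_compl, Fintype.card_subtype_eq, cF] at e
    omega

/-- Conjugates of a power: a conjugating element has order divisible by the order of the exponent. -/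
theorem order_dvd_of_conj_pow {r k : ℕ} [Fact r.Prime] {g y : X} (hy : orderOf y = r)
    (hg : g * y * g⁻¹ = y ^ k) : orderOf (k : ZMod r) ∣ orderOf g := by
  have key : ∀ i : ℕ, g ^ i * y * (g ^ i)⁻¹ = y ^ (k ^ i) := by
    intro i
    induction i with
    | zero => simp
    | succ i ih =>
      have e : g ^ (i + 1) * y * (g ^ (i + 1))⁻¹ = g * (g ^ i * y * (g ^ i)⁻¹) * g⁻¹ := by
        rw [pow_succ']; group
      rw [e, ih, ← conj_pow, hg, ← pow_mul, pow_succ']
  have h := key (orderOf g)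
  rw [pow_orderOf_eq_one, one_mul, inv_one, mul_one] at h
  have h' : 1 ≡ k ^ orderOf g [MOD r] := hy ▸ pow_eq_pow_iff_modEq.mp (by rw [pow_one]; exact h)
  refine orderOf_dvd_of_pow_eq_one ?_
  rw [← Nat.cast_pow, ← (ZMod.natCast_eq_natCast_iff _ _ _).mpr h', Nat.cast_one]

/-- A small prime with a single orbit. -/
theorem small_prime {r a f : ℕ} [Fact r.Prime] (hr2 : r ≠ 2) (hf : 1 ≤ f)
    (hcard : Nat.card X = 2 ^ a * r ^ f) (hab : ∀ F : Sylow r X, ∀ x ∈ F, ∀ y ∈ F, x * y = y * x)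
    (hexp : ∀ x : X, ∀ k, x ^ r ^ k = 1 → x ^ r = 1)
    (hone : ∀ x y : X, orderOf x = r → orderOf y = r → IsConj x y)
    (h8 : ∀ g : X, ¬ 8 ∣ orderOf g) : (f = 1 ∧ (r = 3 ∨ r = 5)) ∨ (r = 3 ∧ f = 2) := by
  have hr : r.Prime := Fact.out
  obtain ⟨j, hj⟩ := one_orbit hr2 hf hcard hab fun F x hx y hy hx1 hy1 => by
    have ord : ∀ z ∈ (F : Subgroup X), z ≠ 1 → orderOf z = r := fun z hz h1 => by
      obtain ⟨k, hk⟩ := F.isPGroup' ⟨z, hz⟩
      exact orderOf_eq_prime (hexp z k (congrArg Subtype.val hk)) h1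
    exact hone x y (ord x hx hx1) (ord y hy hy1)
  rcases prime_pow_sub_one hr hr2 hf hj with h1 | h
  · left
    refine ⟨h1, ?_⟩
    rw [h1, pow_one] at hj
    obtain ⟨u, hu⟩ := IsCyclic.exists_generator (α := (ZMod r)ˣ)
    have hord : orderOf (((u : ZMod r).val : ℕ) : ZMod r) = r - 1 := by
      rw [ZMod.natCast_zmod_val, orderOf_units, orderOf_eq_card_of_forall_mem_zpowers hu,
        Nat.card_eq_fintype_card, ZMod.card_units]
    obtain ⟨y, hy⟩ := exists_prime_orderOf_dvd_card' (G := X) r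
      (hcard ▸ Dvd.dvd.mul_left (dvd_pow_self r (by omega)) _)
    have hk : (u : ZMod r).val.Coprime r := ZMod.val_coe_unit_coprime u
    have hyk : orderOf (y ^ (u : ZMod r).val) = r := by
      rw [orderOf_pow, hy, Nat.Coprime.gcd_eq_one hk.symm, Nat.div_one]
    obtain ⟨g, hg⟩ := isConj_iff.mp (hone _ _ hy hyk)
    have hd := order_dvd_of_conj_pow hy hg
    rw [hord] at hd
    have hj2 : j ≤ 2 := by
      by_contra hc
      refine h8 g (dvd_trans ⟨2 ^ (j - 3), ?_⟩ hd)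
      rw [show (8 : ℕ) = 2 ^ 3 from rfl, ← pow_add, show 3 + (j - 3) = j by omega, hj, Nat.add_sub_cancel]
    interval_cases j
    · omega
    · exact Or.inl (by omega)
    · exact Or.inr (by omega)
  · exact Or.inr h

/-- In a group with Sylow two-subgroups of order two the involutions are conjugate. -/
theorem conj_of_small {b : ℕ} (hcard : Nat.card X = 2 * 3 ^ b) {t u : X} (ht : orderOf t = 2)
    (hu : orderOf u = 2) : IsConj t u := by
  haveI : Fact (Nat.Prime 2) := ⟨Nat.prime_two⟩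
  have hfact : (Nat.card X).factorization 2 = 1 := by
    rw [hcard, Nat.factorization_mul (by norm_num) (by positivity), Nat.factorization_pow]
    simp [Nat.prime_two.factorization, Nat.prime_three.factorization]
  let P : Sylow 2 X := Sylow.ofCard (zpowers t) (by rw [Nat.card_zpowers, ht, hfact, pow_one])
  let Q : Sylow 2 X := Sylow.ofCard (zpowers u) (by rw [Nat.card_zpowers, hu, hfact, pow_one])
  obtain ⟨g, hg⟩ := MulAction.exists_smul_eq X P Q
  have h : g * t * g⁻¹ ∈ zpowers u := by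
    have : g * t * g⁻¹ ∈ ((g • P : Sylow 2 X) : Subgroup X) := by
      rw [Sylow.coe_subgroup_smul, Subgroup.mem_smul_pointwise_iff_exists]
      exact ⟨t, mem_zpowers t, rfl⟩
    rw [hg] at this
    exact this
  refine isConj_iff.mpr ⟨g, ?_⟩
  rw [← mem_powers_iff_mem_zpowers] at h
  obtain ⟨i, hi⟩ := h
  have hi' : u ^ (i % 2) = g * t * g⁻¹ := by rw [← hi]; show _ = u ^ i; rw [← hu, pow_mod_orderOf]
  rcases Nat.mod_two_eq_zero_or_one i with e | e
  · exfalso
    rw [e, pow_zero] at hi'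
    have := orderOf_conj g t
    rw [← hi', orderOf_one, ht] at this
    omega
  · rw [e, pow_one] at hi'; exact hi'.symm

/-- With Sylow two-subgroups of order two a central involution is the only involution. -/
theorem two_el_of_central {r b : ℕ} (hr : r.Prime) (hr2 : r ≠ 2) (hcard : Nat.card X = 2 * r ^ b) {t : X}
    (ht : orderOf t = 2) (hc : ∀ x : X, x * t = t * x) {w : X} (hw : TwoEl w) : w = 1 ∨ w = t := by
  haveI : Fact (Nat.Prime 2) := ⟨Nat.prime_two⟩
  have hfact : (Nat.card X).factorization 2 = 1 := by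
    rw [hcard, Nat.factorization_mul (by norm_num) (pow_ne_zero _ hr.ne_zero), Nat.factorization_pow]
    simp [Nat.prime_two.factorization, hr.factorization, hr2]
  obtain ⟨k, hk⟩ := hw
  obtain ⟨P, hP⟩ := IsPGroup.exists_le_sylow (P := zpowers w) (show IsPGroup 2 (zpowers w) by
    rintro ⟨z, hz⟩
    obtain ⟨i, rfl⟩ := mem_zpowers_iff.mp hz
    refine ⟨k, Subtype.ext ?_⟩
    show (w ^ i) ^ 2 ^ k = 1
    rw [← zpow_natCast, ← zpow_mul, mul_comm, zpow_mul, zpow_natCast, hk, one_zpow])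
  haveI : (zpowers t).Normal := ⟨fun z hz g => by
    obtain ⟨i, rfl⟩ := mem_zpowers_iff.mp hz
    rw [(show Commute g t from hc g).zpow_right i |>.eq, mul_inv_cancel_right]
    exact ⟨i, rfl⟩⟩
  have htP : zpowers t ≤ (P : Subgroup X) :=
    (IsPGroup.of_card (n := 1) (by rw [Nat.card_zpowers, ht, pow_one])).le_sylow_of_normal P
  have e : zpowers t = (P : Subgroup X) := eq_of_le_of_card_ge htP (by
    rw [P.card_eq_multiplicity, hfact, Nat.card_zpowers, ht, pow_one])
  have hwt := hP (mem_zpowers w)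
  rw [← e, ← mem_powers_iff_mem_zpowers] at hwt
  obtain ⟨i, rfl⟩ := hwt
  show t ^ i = 1 ∨ t ^ i = t
  rw [← pow_mod_orderOf, ht]
  rcases Nat.mod_two_eq_zero_or_one i with e' | e' <;> simp [e']

theorem card_sq_one (X : Type u) [Group X] [Finite X] :
    Nat.card {z : X // z * z = 1} = Nat.card {z : X // orderOf z = 2} + 1 := by
  haveI := Fintype.ofFinite X
  have e : Nat.card {z : X // z * z = 1} = Nat.card {z : X // orderOf z = 2 ∨ z = 1} := by
    refine Nat.card_congr (Equiv.subtypeEquivRight fun z => ⟨fun h => ?_, ?_⟩)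
    · rcases eq_or_ne z 1 with h1 | h1
      · exact Or.inr h1
      · exact Or.inl (orderOf_eq_prime (by rw [pow_two, h]) h1)
    · rintro (h | h)
      · rw [← pow_two, ← h]; exact pow_orderOf_eq_one z
      · rw [h, one_mul]
  simp only [e, Nat.card_eq_fintype_card]
  rw [Fintype.card_subtype_or_disjoint _ _ ?_, Fintype.card_subtype_eq]
  rw [Pi.disjoint_iff]
  intro z
  simp only [Prop.disjoint_iff]
  rintro ⟨h, rfl⟩
  rw [orderOf_one] at h
  omega

end Cfsg.Agent.SSCThree
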