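import Cfsg.Agent.Lib.SSCThree.Family
import Cfsg.Agent.Lib.Char.TICongruence

/-!
# Relations between exceptional families
-/

set_option autoImplicit false
set_option linter.unusedSectionVars false
set_option linter.style.haveILetI false

namespace Cfsg.Agent.SSCThree

open Subgroup Cfsg.Agent.Char
open scoped Classical ComplexConjugate

universe u

variable {G : Type u} [Group G] [Fintype G] {A B : Subgroup G} {e f : ℕ}

namespace Fam

variable (F : Fam A e)

/-- Two families of non-conjugate subgroups have no common member. -/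
theorem disjoint (hA : SSC A e) (hB : SSC B f) (hnc : ∀ g : G, A.map (MulAut.conj g).toMonoidHom ≠ B)
    (H : Fam B f) (i : Fin F.K) (j : Fin H.K) : F.μ i ≠ H.μ j := by
  have horth : ∀ (i : Fin F.K) (j : Fin H.K), i ≠ F.z → j ≠ H.z →
      F.μ i ≠ H.μ j ∧ F.μ F.z ≠ H.μ H.z ∧ F.μ i ≠ H.μ H.z ∧ F.μ F.z ≠ H.μ j := by
    intro i j hi hj
    obtain ⟨ψ, s, hψ, -, hs, he⟩ := F.exists_diff i
    obtain ⟨ψ', s', hψ', -, hs', he'⟩ := H.exists_diff j
    have h := hA.inner_cross hB hnc ψ ψ' hψ hψ'
    rw [he, he', classInner_smul_left, classInner_smul_right, classInner_diff, mul_eq_zero,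
      or_iff_right hs, mul_eq_zero, or_iff_right (by simpa using hs'), Int.cast_eq_zero] at h
    have h1 : F.μ i ≠ F.μ F.z := fun h => hi (F.inj h)
    have h2 : H.μ j ≠ H.μ H.z := fun h => hj (H.inj h)
    by_cases c1 : F.μ i = H.μ j
    · have n1 : F.μ i ≠ H.μ H.z := fun h' => h2 (c1.symm.trans h')
      have n2 : F.μ F.z ≠ H.μ j := fun h' => h1 (c1.trans h'.symm)
      rw [if_pos c1, if_neg n1, if_neg n2] at h
      exfalso
      split_ifs at h <;> omega
    · by_cases c2 : F.μ F.z = H.μ H.z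
      · have n1 : F.μ i ≠ H.μ H.z := fun h' => h1 (h'.trans c2.symm)
        have n2 : F.μ F.z ≠ H.μ j := fun h' => h2 (h'.symm.trans c2)
        rw [if_neg c1, if_pos c2, if_neg n1, if_neg n2] at h
        omega
      · rw [if_neg c1, if_neg c2] at h
        refine ⟨c1, c2, fun h' => ?_, fun h' => ?_⟩
        · rw [if_pos h'] at h; split_ifs at h <;> omega
        · rw [if_pos h'] at h; split_ifs at h <;> omega
  haveI : Nontrivial (Fin F.K) := Fin.nontrivial_iff_two_le.mpr F.two_le
  haveI : Nontrivial (Fin H.K) := Fin.nontrivial_iff_two_le.mpr H.two_le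
  obtain ⟨i', hi'⟩ := exists_ne F.z
  obtain ⟨j', hj'⟩ := exists_ne H.z
  by_cases hi : i = F.z <;> by_cases hj : j = H.z
  · subst hi; subst hj; exact (horth i' j' hi' hj').2.1
  · subst hi; exact (horth i' j hi' hj).2.2.2
  · subst hj; exact (horth i j' hi hj').2.2.1
  · exact (horth i j hi hj).1

/-- The coefficient of the second subgroup is constant on the first family. -/
theorem q_const (hA : SSC A e) (hB : SSC B f) (hnc : ∀ g : G, A.map (MulAut.conj g).toMonoidHom ≠ B)
    (H : Fam B f) (i : Fin F.K) : H.q (F.μ i) = H.q (F.μ F.z) := by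
  obtain ⟨ψ, s, hψ, -, hs, he⟩ := F.exists_diff i
  have h := hA.inner_cross hB hnc ψ H.φ hψ H.φ_one
  have c : ∀ χ : Cfsg.IrrCharacter G,
      Cfsg.classInner (χ : G → ℂ) (Cfsg.indFun B H.φ) = (H.q χ : ℂ) := fun χ => by
    rw [← classInner_conj_symm, H.coeff, map_intCast]
  rw [he, classInner_smul_left, classInner_sub_left, c, c, mul_eq_zero, or_iff_right hs, sub_eq_zero] at h
  exact_mod_cast h

theorem q_orth (hA : SSC A e) (hB : SSC B f) (hnc : ∀ g : G, A.map (MulAut.conj g).toMonoidHom ≠ B)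
    (H : Fam B f) : ∑ χ, F.q χ * H.q χ = 0 := by
  have h := hA.inner_cross hB hnc F.φ H.φ F.φ_one H.φ_one
  rw [ZassSuz.inner_eq_sum (isClassFunction_indFun A F.φ) (isClassFunction_indFun B H.φ) F.q H.q
    F.coeff H.coeff] at h
  exact_mod_cast h

theorem sum_q_nu (hA : SSC A e) : ∑ χ, F.q χ * ZassSuz.nuZ χ = 1 := by
  have h := ZassSuz.inner_sqCount (isClassFunction_indFun A F.φ) F.q F.coeff
  rw [hA.inner_sqCount_ind F.φ F.φ_one,
    show (fun _ : G => (1 : ℂ)) = ((principal G : Cfsg.IrrCharacter G) : G → ℂ) from rfl, F.coeff,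
    F.q_principal] at h
  exact_mod_cast h.symm

theorem nu_eq (hA : SSC A e) (j : Fin F.K) : ZassSuz.nuZ (F.μ j) = ZassSuz.nuZ (F.μ F.z) := by
  obtain ⟨ψ, s, hψ, hsum, hs, he⟩ := F.exists_diff j
  have h0 : Cfsg.classInner (Cfsg.indFun A ψ) (fun _ : G => (1 : ℂ)) = 0 := by
    rw [classInner_indFun_left _ _ (fun _ _ => rfl)]
    simp [Cfsg.classInner, hsum]
  have h := hA.inner_sqCount_ind ψ hψ
  rw [h0, he, classInner_smul_left, mul_eq_zero, or_iff_right hs, classInner_sub_left] at h
  have c : ∀ χ : Cfsg.IrrCharacter G,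
      Cfsg.classInner (χ : G → ℂ) (ZassSuz.sqCount : G → ℂ) = (ZassSuz.nuZ χ : ℂ) := fun χ => by
    rw [← classInner_conj_symm, ZassSuz.classInner_sqCount, ← ZassSuz.nuZ_cast, map_intCast]
  rw [c, c, sub_eq_zero] at h
  exact_mod_cast h

theorem real (hA : SSC A e) (j : Fin F.K) (x : G) :
    conj ((F.μ j : G → ℂ) x) = (F.μ j : G → ℂ) x := by
  have hd : ∀ k : Fin F.K, ∀ x : G, conj ((F.μ k : G → ℂ) x) - conj ((F.μ F.z : G → ℂ) x) =
      (F.μ k : G → ℂ) x - (F.μ F.z : G → ℂ) x := by
    intro k x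
    obtain ⟨ψ, s, hψ, -, hs, he⟩ := F.exists_diff k
    have h := hA.ind_inv ψ hψ x
    rw [he] at h
    simp only [Pi.smul_apply, Pi.sub_apply, smul_eq_mul] at h
    rw [← char_conjInv, ← char_conjInv]
    exact mul_left_cancel₀ hs h
  have key : ∀ k : Fin F.K, k ≠ F.z →
      (fun x => conj ((F.μ k : G → ℂ) x)) = (F.μ k : G → ℂ) ∧
      (fun x => conj ((F.μ F.z : G → ℂ) x)) = (F.μ F.z : G → ℂ) := by
    intro k hk
    set a : Cfsg.IrrCharacter G := ⟨_, IsIrrCharacter.conj (F.μ k).2⟩ with ha
    set b : Cfsg.IrrCharacter G := ⟨_, IsIrrCharacter.conj (F.μ F.z).2⟩ with hb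
    have heq : ((a : G → ℂ) - (b : G → ℂ)) = (F.μ k : G → ℂ) - (F.μ F.z : G → ℂ) := funext (hd k)
    have h1 := classInner_diff a b (F.μ k) (F.μ F.z)
    have h2 := classInner_diff (F.μ k) (F.μ F.z) (F.μ k) (F.μ F.z)
    rw [heq, h2] at h1
    have hne : F.μ k ≠ F.μ F.z := fun h => hk (F.inj h)
    rw [if_pos rfl, if_pos rfl, if_neg hne, if_neg hne.symm] at h1
    have h3 : (1 : ℤ) + 1 - 0 - 0 = (if a = F.μ k then 1 else 0) + (if b = F.μ F.z then 1 else 0) -
        (if a = F.μ F.z then 1 else 0) - (if b = F.μ k then 1 else 0) := by exact_mod_cast h1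
    have h4 : a = F.μ k ∧ b = F.μ F.z := by
      refine ⟨?_, ?_⟩ <;> by_contra hc <;> rw [if_neg hc] at h3 <;> split_ifs at h3 <;> omega
    exact ⟨congrArg Subtype.val h4.1, congrArg Subtype.val h4.2⟩
  haveI : Nontrivial (Fin F.K) := Fin.nontrivial_iff_two_le.mpr F.two_le
  by_cases hj : j = F.z
  · obtain ⟨k, hk⟩ := exists_ne F.z
    subst hj
    exact congrFun (key k hk).2 x
  · exact congrFun (key j hj).1 x

theorem nu_unit (hA : SSC A e) (j : Fin F.K) :
    ZassSuz.nuZ (F.μ j) = 1 ∨ ZassSuz.nuZ (F.μ j) = -1 := by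
  rcases FSchur.irr_indicator (F.μ j) with ⟨h, -⟩ | ⟨-, h | ⟨h, -⟩⟩
  · exact absurd (fun g => F.real hA j g) h
  · left
    rw [ZassSuz.nuZ, if_pos (show ZassSuz.nu (F.μ j) = 1 from h)]
  · right
    have h' : ZassSuz.nu (F.μ j) = -1 := h
    rw [ZassSuz.nuZ, if_neg (by rw [h']; norm_num), if_pos h']

/-- Pairs of conjugates of an involution with product in `A`. -/
theorem pair_count (hA : SSC A e) {t : G} (ht : orderOf t = 2) :
    ((Subgroup.centralizer ({t} : Set G)).index : ℂ) ^ 2 *
        ∑ χ, (F.q χ : ℂ) * ((χ : G → ℂ) t ^ 2 / (χ : G → ℂ) 1) =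
      (Nat.card G : ℂ) * (if IsConj t hA.invol then (Nat.card A : ℂ) else 0) := by
  have ht2 : t * t = 1 := by rw [← pow_two, ← ht, pow_orderOf_eq_one]
  have hinv : ∀ u, IsConj t u → u * u = 1 := fun u hu => by
    obtain ⟨c, rfl⟩ := isConj_iff.mp hu
    calc c * t * c⁻¹ * (c * t * c⁻¹) = c * (t * t) * c⁻¹ := by group
      _ = 1 := by rw [ht2]; group
  have hne1 : ∀ u, IsConj t u → u ≠ 1 := fun u hu h => by
    rw [h, isConj_one_left] at hu
    simp [hu] at ht
  have hN : ∀ a : A, a ≠ 1 → ((classFinset t).filter fun u => u⁻¹ * (a : G) ∈ classFinset t).card =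
      if IsConj t hA.invol then Nat.card A else 0 := by
    intro a ha
    have ha1 : (a : G) ≠ 1 := fun h => ha (Subtype.ext h)
    have hform : ∀ u, IsConj t u → IsConj t (u⁻¹ * (a : G)) → ∃ b ∈ A, u = b * hA.invol := by
      intro u hu hv
      have hu2 := hinv u hu
      have hv2 := hinv _ hv
      have hc : u * a * u⁻¹ = (a : G)⁻¹ := by
        rw [inv_eq_of_mul_eq_one_right hu2] at hv2 ⊢
        refine eq_inv_of_mul_eq_one_left ?_
        calc u * a * u * a = u * a * (u * a) := by group
          _ = 1 := hv2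
      have hN := hA.mem_normalizer_of_conj (g := u) a.2 ha1 (hc ▸ inv_mem a.2)
      exact (hA.invol_cases hN hu2).resolve_left (hne1 u hu)
    split_ifs with hconj
    · rw [show ((classFinset t).filter fun u => u⁻¹ * (a : G) ∈ classFinset t) =
        Finset.univ.image (fun b : A => (b : G) * hA.invol) from ?_, Finset.card_image_of_injective,
        Finset.card_univ, Nat.card_eq_fintype_card]
      · exact fun b c h => Subtype.ext (mul_right_cancel h)
      · ext u
        simp only [Finset.mem_filter, mem_classFinset, Finset.mem_image, Finset.mem_univ, true_and]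
        constructor
        · rintro ⟨hu, hv⟩
          obtain ⟨b, hb, rfl⟩ := hform u hu hv
          exact ⟨⟨b, hb⟩, rfl⟩
        · rintro ⟨b, rfl⟩
          refine ⟨hconj.trans (hA.invol_conj b.2), ?_⟩
          have hi := inv_eq_of_mul_eq_one_right hA.invol_sq
          have e1 : ((b : G) * hA.invol)⁻¹ * a = ((b : G) * (a : G)⁻¹) * hA.invol := by
            have e2 := hA.invol_inverts (mul_mem (inv_mem b.2) a.2)
            rw [mul_inv_eq_iff_eq_mul] at e2
            calc ((b : G) * hA.invol)⁻¹ * a = hA.invol⁻¹ * ((b : G)⁻¹ * a) := by group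
              _ = hA.invol * ((b : G)⁻¹ * a) := by rw [hi]
              _ = ((b : G)⁻¹ * a)⁻¹ * hA.invol := e2
              _ = (a : G)⁻¹ * b * hA.invol := by group
              _ = _ := by rw [hA.comm (inv_mem a.2) b.2]
          rw [e1]
          exact hconj.trans (hA.invol_conj (mul_mem b.2 (inv_mem a.2)))
    · rw [Finset.card_eq_zero, Finset.filter_eq_empty_iff]
      intro u hu hv
      rw [mem_classFinset] at hu hv
      obtain ⟨b, hb, rfl⟩ := hform u hu hv
      exact hconj (hu.trans (hA.invol_conj hb).symm)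
  have hcol : ∀ a : A, a ≠ 1 → ((Subgroup.centralizer ({t} : Set G)).index : ℂ) ^ 2 *
      ∑ χ : Cfsg.IrrCharacter G, (χ : G → ℂ) t ^ 2 / (χ : G → ℂ) 1 * conj ((χ : G → ℂ) a) =
      (Nat.card G : ℂ) * ((if IsConj t hA.invol then Nat.card A else 0 : ℕ) : ℂ) := by
    intro a ha
    have ha1 : (a : G) ≠ 1 := fun h => ha (Subtype.ext h)
    have hca : Nat.card (Subgroup.centralizer ({(a : G)} : Set G)) = Nat.card A := by
      rw [hA.cent a a.2 ha1]
    calc ((Subgroup.centralizer ({t} : Set G)).index : ℂ) ^ 2 *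
          ∑ χ : Cfsg.IrrCharacter G, (χ : G → ℂ) t ^ 2 / (χ : G → ℂ) 1 * conj ((χ : G → ℂ) a)
        = ∑ χ : Cfsg.IrrCharacter G, (∑ u ∈ classFinset t, ∑ v ∈ classFinset t, (χ : G → ℂ) (u * v)) *
            conj ((χ : G → ℂ) a) := by
          rw [Finset.mul_sum]
          exact Finset.sum_congr rfl fun χ _ => by rw [TICongr.sum_class_mul χ.2]; ring
      _ = ∑ u ∈ classFinset t, ∑ v ∈ classFinset t,
            ∑ χ : Cfsg.IrrCharacter G, (χ : G → ℂ) (u * v) * conj ((χ : G → ℂ) a) := by
          simp only [Finset.sum_mul]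
          rw [Finset.sum_comm]
          exact Finset.sum_congr rfl fun u _ => Finset.sum_comm
      _ = ∑ u ∈ classFinset t, ∑ v ∈ classFinset t,
            if IsConj (a : G) (u * v) then (Nat.card A : ℂ) else 0 := by
          refine Finset.sum_congr rfl fun u _ => Finset.sum_congr rfl fun v _ => ?_
          split_ifs with h
          · rw [← hca, Finset.sum_congr rfl fun χ _ => by
              rw [← isClassFunction_iff.mp (char_class χ) _ _ h]]
            exact column_orth_of_isConj (IsConj.refl _)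
          · exact column_orth_of_not_isConj fun h' => h h'.symm
      _ = ((Nat.card A * ((classFinset t ×ˢ classFinset t).filter
            fun p => IsConj (a : G) (p.1 * p.2)).card : ℕ) : ℂ) := by
          rw [← Finset.sum_product', ← Finset.sum_filter, Finset.sum_const, nsmul_eq_mul]
          push_cast
          ring
      _ = _ := by
          rw [Finset.card_eq_sum_card_fiberwise (t := classFinset (a : G)) (f := fun p : G × G => p.1 * p.2)
            (fun p hp => by
              simp only [Finset.coe_filter, Set.mem_setOf_eq] at hp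
              exact Finset.mem_coe.mpr (mem_classFinset.mpr hp.2))]
          rw [Finset.sum_congr rfl (g := fun _ => if IsConj t hA.invol then Nat.card A else 0) fun m hm => ?_]
          · rw [Finset.sum_const, card_classFinset, smul_eq_mul, ← mul_assoc, ← hca,
              mul_comm (Nat.card _) (Subgroup.index _), Subgroup.index_mul_card]
            push_cast
            rfl
          · obtain ⟨c, rfl⟩ := isConj_iff.mp (mem_classFinset.mp hm)
            rw [← hN a ha]
            refine Finset.card_bij' (fun p _ => c⁻¹ * p.1 * c)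
              (fun u _ => (c * u * c⁻¹, c * (u⁻¹ * a) * c⁻¹)) ?_ ?_ ?_ ?_
            · intro p hp
              simp only [Finset.mem_filter, Finset.mem_product, mem_classFinset] at hp ⊢
              refine ⟨hp.1.1.1.trans (isConj_iff.mpr ⟨c⁻¹, by group⟩),
                hp.1.1.2.trans (isConj_iff.mpr ⟨c⁻¹, ?_⟩)⟩
              calc c⁻¹ * p.2 * (c⁻¹)⁻¹ = c⁻¹ * (p.1⁻¹ * (p.1 * p.2)) * c := by group
                _ = _ := by rw [hp.2]; group
            · intro u hu
              simp only [Finset.mem_filter, Finset.mem_product, mem_classFinset] at hu ⊢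
              refine ⟨⟨⟨hu.1.trans (isConj_iff.mpr ⟨c, rfl⟩), hu.2.trans (isConj_iff.mpr ⟨c, rfl⟩)⟩,
                isConj_iff.mpr ⟨c, by group⟩⟩, by group⟩
            · intro p hp
              simp only [Finset.mem_filter] at hp
              refine Prod.ext (by group) ?_
              calc c * ((c⁻¹ * p.1 * c)⁻¹ * a) * c⁻¹ = p.1⁻¹ * (c * a * c⁻¹) := by group
                _ = p.2 := by rw [← hp.2]; group
            · intro u _
              group
  set R : ℂ := (Nat.card G : ℂ) * ((if IsConj t hA.invol then Nat.card A else 0 : ℕ) : ℂ) with hR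
  have hn : (Nat.card A : ℂ) ≠ 0 := Nat.cast_ne_zero.mpr Nat.card_pos.ne'
  have hq : ∀ χ : Cfsg.IrrCharacter G,
      (F.q χ : ℂ) = (Nat.card A : ℂ)⁻¹ * ∑ a : A, F.φ a * conj ((χ : G → ℂ) a) := fun χ => (F.inner_q χ).symm
  calc _ = (Nat.card A : ℂ)⁻¹ * ∑ a : A, F.φ a *
        (((Subgroup.centralizer ({t} : Set G)).index : ℂ) ^ 2 *
          ∑ χ : Cfsg.IrrCharacter G, (χ : G → ℂ) t ^ 2 / (χ : G → ℂ) 1 * conj ((χ : G → ℂ) a)) := by
        simp only [hq, Finset.mul_sum, Finset.sum_mul]
        rw [Finset.sum_comm]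
        exact Finset.sum_congr rfl fun a _ => Finset.sum_congr rfl fun χ _ => by ring
    _ = (Nat.card A : ℂ)⁻¹ * ∑ a : A, F.φ a * R := by
        congr 1
        refine Finset.sum_congr rfl fun a _ => ?_
        rcases eq_or_ne a 1 with rfl | ha
        · simp [F.φ_one]
        · rw [hcol a ha]
    _ = R := by rw [← Finset.sum_mul, F.φ_sum, ← mul_assoc, inv_mul_cancel₀ hn, one_mul]
    _ = _ := by rw [hR]; split_ifs <;> simp

end Fam

end Cfsg.Agent.SSCThree
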