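import Cfsg.Agent.Lib.SSCThree.Cols

/-!
# Columns in the three shapes
-/

set_option autoImplicit false
set_option linter.unusedSectionVars false
set_option linter.style.haveILetI false

namespace Cfsg.Agent.SSCThree

open Finset Cfsg.Agent.Char
open scoped Classical

universe u

variable {G : Type u} [Group G] [Fintype G]

noncomputable local instance (priority := 10000) decEqIrrShapes : DecidableEq (Cfsg.IrrCharacter G) :=
  fun a b => Classical.propDecidable (a = b)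

namespace Sys

variable (S : Sys G)

theorem swap_rest_eq {s : Finset (Cfsg.IrrCharacter G)} (h : S.V.swap.rest = s) :
    ∀ g : Cfsg.IrrCharacter G → ℤ,
      ∑ χ ∈ S.V.swap.rest, S.V.F3.q χ * g χ = ∑ χ ∈ s, S.V.F3.q χ * g χ := fun g => by rw [h]

theorem rest_not_mem3 (hz : S.V.F2.q (S.V.F3.μ S.V.F3.z) = 0) {x : Cfsg.IrrCharacter G}
    (hx : x ∈ S.V.rest) : x ∉ S.V.F3.mem := fun hm => by
  obtain ⟨j, hj⟩ := S.V.F3.mem_mem.mp hm
  exact (S.V.mem_rest.mp hx).1 (by rw [← hj, S.V.c32 j, hz])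

theorem rest_not_mem2 (hz : S.V.F3.q (S.V.F2.μ S.V.F2.z) = 0) {x : Cfsg.IrrCharacter G}
    (hx : x ∈ S.V.swap.rest) : x ∉ S.V.F2.mem := fun hm => by
  obtain ⟨j, hj⟩ := S.V.F2.mem_mem.mp hm
  exact (S.V.swap.mem_rest.mp hx).1 (by show S.V.F3.q x = 0; rw [← hj, S.V.c23 j, hz])

theorem named_A (h : S.V.ShapeA) : ∃ p q, p ≠ q ∧ S.V.chi ≠ p ∧ S.V.chi ≠ q ∧
    S.named = {S.V.chi, p, q} ∧ S.V.rest = {p, q} ∧ S.V.swap.rest = {p, q} ∧
    S.V.F3.q p = -S.V.F2.q p ∧ S.V.F3.q q = -S.V.F2.q q := by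
  obtain ⟨p, q, hpq, hr, hr', hp, hq⟩ := h.slots
  have e2 : S.V.rest \ S.V.F3.mem = {p, q} := by
    rw [sdiff_eq_self_of_disjoint (disjoint_left.mpr fun x hx => S.rest_not_mem3 h.zero3 hx), hr]
  have e3 : S.V.swap.rest \ S.V.F2.mem = {p, q} := by
    rw [sdiff_eq_self_of_disjoint (disjoint_left.mpr fun x hx => S.rest_not_mem2 h.zero2 hx), hr']
  have hpm : p ∈ S.V.rest := hr ▸ mem_insert_self _ _
  have hqm : q ∈ S.V.rest := hr ▸ mem_insert_of_mem (mem_singleton_self _)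
  exact ⟨p, q, hpq, (S.V.mem_rest.mp hpm).2.2.2.1.symm, (S.V.mem_rest.mp hqm).2.2.2.1.symm,
    by rw [named, e2, e3, union_self], hr, hr', hp, hq⟩

theorem card_named_A (h : S.V.ShapeA) : S.named.card = 3 := by
  obtain ⟨p, q, hpq, hp, hq, hn, -⟩ := S.named_A h
  rw [hn]
  exact card_eq_three.mpr ⟨_, _, _, hp, hq, hpq, rfl⟩

/-- The signed values in the generic shape. -/
theorem shapeA_data (h : S.V.ShapeA) : ∃ (ω μ α β : ℤ) (p q : Cfsg.IrrCharacter G),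
    (ω = 1 ∨ ω = -1) ∧ (μ = 0 ∨ μ = 1 ∨ μ = -1) ∧ (α = 1 ∨ α = -1) ∧ (β = 1 ∨ β = -1) ∧
    (∀ g, S.Adm g → S.T₂ g = 1 - S.X g + α * g p + β * g q ∧ S.T₃ g = 1 - S.X g - α * g p - β * g q) ∧
    (∀ g g', S.Adm g → S.Adm g' → ∑ χ, g χ * g' χ =
      1 + S.V.F1.K * ((1 + S.X g) * (1 + S.X g')) + S.V.F2.K * (S.T₂ g * S.T₂ g') +
        S.V.F3.K * (S.T₃ g * S.T₃ g') + S.X g * S.X g' + (α * g p) * (α * g' p) +
        (β * g q) * (β * g' q) + ∑ χ ∈ S.others, g χ * g' χ) ∧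
    (∀ g, S.Adm g → ∑ χ, ZassSuz.nuZ χ * g χ =
      1 + ω * (S.X g + S.V.F1.K * (1 + S.X g) - S.V.F2.K * S.T₂ g - S.V.F3.K * S.T₃ g) +
        μ * (α * g p - β * g q) + ∑ χ ∈ S.others, ZassSuz.nuZ χ * g χ) := by
  obtain ⟨p, q, hpq, hcp, hcq, hn, hr, hr', hp3, hq3⟩ := S.named_A h
  have hc2 : S.V.c = -S.V.F1.ε := (S.V.two_rest h.k2).1
  have hc3 : S.V.swap.c = -S.V.F1.ε := (S.V.swap.two_rest h.k3).1
  have hν2 := S.V.nu2
  have hν3 := S.V.swap.nu2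
  rw [hr, sum_pair hpq, h.k2, hc2, S.V.a2_zero] at hν2
  rw [hr', sum_pair hpq, h.k3, hc3, S.V.swap.a2_zero, show S.V.swap.F2 = S.V.F3 from rfl, hp3, hq3,
    show S.V.swap.F1 = S.V.F1 from rfl] at hν3
  have hα : S.V.F2.q p = 1 ∨ S.V.F2.q p = -1 := S.V.rest_unit (hr ▸ mem_insert_self _ _)
  have hβ : S.V.F2.q q = 1 ∨ S.V.F2.q q = -1 :=
    S.V.rest_unit (hr ▸ mem_insert_of_mem (mem_singleton_self _))
  set α := S.V.F2.q p
  set β := S.V.F2.q q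
  set u₁ := ZassSuz.nuZ (S.V.F1.μ S.V.F1.z) with hu₁
  set u₂ := ZassSuz.nuZ (S.V.F2.μ S.V.F2.z) with hu₂
  set u₃ := ZassSuz.nuZ (S.V.F3.μ S.V.F3.z) with hu₃
  have hω : S.V.F1.ε * u₁ = 1 ∨ S.V.F1.ε * u₁ = -1 := by
    rcases S.V.F1.eps with e | e <;> rcases S.V.F1.nu_unit with e' | e' <;>
      rw [hu₁, e, show ZassSuz.nuZ (S.V.F1.μ S.V.F1.z) = _ from e'] <;> norm_num
  have h2 : S.V.F2.ε * u₂ = 1 ∨ S.V.F2.ε * u₂ = -1 := by
    rcases S.V.F2.eps with e | e <;> rcases S.V.F2.nu_unit with e' | e' <;>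
      rw [hu₂, e, show ZassSuz.nuZ (S.V.F2.μ S.V.F2.z) = _ from e'] <;> norm_num
  have h3 : S.V.F3.ε * u₃ = 1 ∨ S.V.F3.ε * u₃ = -1 := by
    rcases S.V.F3.eps with e | e <;> rcases S.V.F3.nu_unit with e' | e' <;>
      rw [hu₃, e, show ZassSuz.nuZ (S.V.F3.μ S.V.F3.z) = _ from e'] <;> norm_num
  have s23 : S.V.F2.ε * u₂ + S.V.F3.ε * u₃ = -2 * (S.V.F1.ε * u₁) := by linarith
  obtain ⟨e2, e3⟩ : S.V.F2.ε * u₂ = -(S.V.F1.ε * u₁) ∧ S.V.F3.ε * u₃ = -(S.V.F1.ε * u₁) := by omega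
  have hpq0 : α * ZassSuz.nuZ p + β * ZassSuz.nuZ q = 0 := by linarith
  have hνchi : ZassSuz.nuZ S.V.chi = u₁ := S.V.nu_chi
  refine ⟨S.V.F1.ε * u₁, α * ZassSuz.nuZ p, α, β, p, q, hω, ?_, hα, hβ, fun g hg => ⟨?_, ?_⟩,
    fun g g' hg hg' => ?_, fun g hg => ?_⟩
  · rcases hα with e | e <;> rcases ZassSuz.nuZ_abs p with e' | e' | e' <;> rw [e, e'] <;> norm_num
  · rw [S.fam2_val hg, h.k2, hc2, hr, sum_pair hpq]
    unfold X
    ring
  · rw [S.fam3_val hg, h.k3, hc3, hr', sum_pair hpq, hp3, hq3]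
    unfold X
    ring
  · rw [S.inner_formula hg hg', hn, sum_insert (by simp [hcp, hcq]), sum_pair hpq]
    have hαα : α * α = 1 := by rcases hα with e | e <;> rw [e] <;> norm_num
    have hββ : β * β = 1 := by rcases hβ with e | e <;> rw [e] <;> norm_num
    have hεε : S.V.F1.ε * S.V.F1.ε = 1 := by rw [← pow_two]; exact S.V.eps_sq
    unfold X
    linear_combination -(g S.V.chi * g' S.V.chi) * hεε - (g p * g' p) * hαα - (g q * g' q) * hββ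
  · rw [S.nu_formula hg, hn, sum_insert (by simp [hcp, hcq]), sum_pair hpq, e2, e3, hνchi]
    have hεε : S.V.F1.ε * S.V.F1.ε = 1 := by rw [← pow_two]; exact S.V.eps_sq
    have hq' : β * ZassSuz.nuZ q = -(α * ZassSuz.nuZ p) := by linarith
    have hαα : α * α = 1 := by rcases hα with e | e <;> rw [e] <;> norm_num
    have hββ : β * β = 1 := by rcases hβ with e | e <;> rw [e] <;> norm_num
    unfold X
    linear_combination -(u₁ * g S.V.chi) * hεε - (ZassSuz.nuZ p * g p) * hαα -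
      (ZassSuz.nuZ q * g q) * hββ + (β * g q) * hq'

theorem named_B' (h : S.V.ShapeB') : S.named.card = 2 := by
  obtain ⟨r, hr, -⟩ := h.slots
  have e3 : S.V.swap.rest \ S.V.F2.mem = {r} := by
    rw [sdiff_eq_self_of_disjoint (disjoint_left.mpr fun x hx => S.rest_not_mem2 h.zero2 hx), hr]
  have hrm : r ∈ S.V.swap.rest := hr ▸ mem_singleton_self _
  rw [named, h.rest2, sdiff_self, bot_eq_empty, empty_union, e3]
  have hne : r ≠ S.V.chi := by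
    have := (S.V.swap.mem_rest.mp hrm).2.2.2.1
    rwa [S.V.chi_swap] at this
  exact card_pair hne.symm

theorem named_B (h : S.V.ShapeB) : ∃ r q, r ≠ q ∧ S.V.chi ≠ r ∧ S.V.chi ≠ q ∧
    S.named = {S.V.chi, r, q} ∧ S.V.rest = {r, q} ∧ S.V.swap.rest = {r} ∧
    S.V.F3.q r = -S.V.F2.q r := by
  obtain ⟨r, q, hrq, hr, hr', hr3, -⟩ := h.slots
  have e2 : S.V.rest \ S.V.F3.mem = {r, q} := by
    rw [sdiff_eq_self_of_disjoint (disjoint_left.mpr fun x hx => S.rest_not_mem3 h.zero3 hx), hr]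
  have e3 : S.V.swap.rest \ S.V.F2.mem = {r} := by
    rw [sdiff_eq_self_of_disjoint (disjoint_left.mpr fun x hx => S.rest_not_mem2 h.zero2 hx), hr']
  have hrm : r ∈ S.V.rest := hr ▸ mem_insert_self _ _
  have hqm : q ∈ S.V.rest := hr ▸ mem_insert_of_mem (mem_singleton_self _)
  refine ⟨r, q, hrq, (S.V.mem_rest.mp hrm).2.2.2.1.symm, (S.V.mem_rest.mp hqm).2.2.2.1.symm, ?_, hr, hr', hr3⟩
  rw [named, e2, e3, union_eq_left.mpr (by simp)]

theorem card_named_B (h : S.V.ShapeB) : S.named.card = 3 := by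
  obtain ⟨r, q, hrq, hcr, hcq, hn, -⟩ := S.named_B h
  rw [hn]
  exact card_eq_three.mpr ⟨_, _, _, hcr, hcq, hrq, rfl⟩

/-- The signed values in the third shape. -/
theorem shapeB_data (h : S.V.ShapeB) : ∃ (ω μ α β : ℤ) (r q : Cfsg.IrrCharacter G),
    (ω = 1 ∨ ω = -1) ∧ (μ = 1 ∨ μ = -1) ∧ (α = 1 ∨ α = -1) ∧ (β = 1 ∨ β = -1) ∧
    (∀ g, S.Adm g → S.T₂ g = 1 - S.X g + α * g r + β * g q ∧ S.T₃ g = 3 + 2 * S.X g - α * g r) ∧
    (∀ g g', S.Adm g → S.Adm g' → ∑ χ, g χ * g' χ =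
      1 + 2 * ((1 + S.X g) * (1 + S.X g')) + S.V.F2.K * (S.T₂ g * S.T₂ g') +
        S.V.F3.K * (S.T₃ g * S.T₃ g') + S.X g * S.X g' + (α * g r) * (α * g' r) +
        (β * g q) * (β * g' q) + ∑ χ ∈ S.others, g χ * g' χ) ∧
    (∀ g, S.Adm g → ∑ χ, ZassSuz.nuZ χ * g χ =
      1 + ω * (S.X g + 2 * (1 + S.X g) + α * g r + S.V.F3.K * S.T₃ g) +
        μ * (β * g q + S.V.F2.K * S.T₂ g) + ∑ χ ∈ S.others, ZassSuz.nuZ χ * g χ) := by
  obtain ⟨r, q, hrq, hcr, hcq, hn, hr, hr', hr3⟩ := S.named_B h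
  have hc2 : S.V.c = -S.V.F1.ε := (S.V.two_rest h.k2).1
  have hk3ne : S.V.swap.k ≠ 0 := by rw [h.k3]; rcases S.V.F1.eps with e | e <;> rw [e] <;> norm_num
  have hc3 : S.V.swap.c = 0 := (S.V.swap.K1_two hk3ne).2.2.1
  have hν2 := S.V.nu2
  have hν3 := S.V.swap.nu2
  rw [hr, sum_pair hrq, h.k2, hc2, S.V.a2_zero] at hν2
  rw [hr', sum_singleton, h.k3, hc3, S.V.swap.a2_zero, show S.V.swap.F2 = S.V.F3 from rfl, hr3,
    show S.V.swap.F1 = S.V.F1 from rfl, h.K1] at hν3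
  push_cast at hν3
  have hα : S.V.F2.q r = 1 ∨ S.V.F2.q r = -1 := S.V.rest_unit (hr ▸ mem_insert_self _ _)
  have hβ : S.V.F2.q q = 1 ∨ S.V.F2.q q = -1 :=
    S.V.rest_unit (hr ▸ mem_insert_of_mem (mem_singleton_self _))
  set α := S.V.F2.q r
  set β := S.V.F2.q q
  set u₁ := ZassSuz.nuZ (S.V.F1.μ S.V.F1.z) with hu₁
  set u₂ := ZassSuz.nuZ (S.V.F2.μ S.V.F2.z) with hu₂
  set u₃ := ZassSuz.nuZ (S.V.F3.μ S.V.F3.z) with hu₃
  have hω : S.V.F1.ε * u₁ = 1 ∨ S.V.F1.ε * u₁ = -1 := by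
    rcases S.V.F1.eps with e | e <;> rcases S.V.F1.nu_unit with e' | e' <;>
      rw [hu₁, e, show ZassSuz.nuZ (S.V.F1.μ S.V.F1.z) = _ from e'] <;> norm_num
  have h2 : S.V.F2.ε * u₂ = 1 ∨ S.V.F2.ε * u₂ = -1 := by
    rcases S.V.F2.eps with e | e <;> rcases S.V.F2.nu_unit with e' | e' <;>
      rw [hu₂, e, show ZassSuz.nuZ (S.V.F2.μ S.V.F2.z) = _ from e'] <;> norm_num
  have h3 : S.V.F3.ε * u₃ = 1 ∨ S.V.F3.ε * u₃ = -1 := by
    rcases S.V.F3.eps with e | e <;> rcases S.V.F3.nu_unit with e' | e' <;>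
      rw [hu₃, e, show ZassSuz.nuZ (S.V.F3.μ S.V.F3.z) = _ from e'] <;> norm_num
  have har : α * ZassSuz.nuZ r = 1 ∨ α * ZassSuz.nuZ r = -1 ∨ α * ZassSuz.nuZ r = 0 := by
    rcases hα with e | e <;> rcases ZassSuz.nuZ_abs r with e' | e' | e' <;> rw [e, e'] <;> norm_num
  have hsum : 2 * (S.V.F1.ε * u₁) - α * ZassSuz.nuZ r - S.V.F3.ε * u₃ = 0 := by linarith
  obtain ⟨e3, er⟩ : S.V.F3.ε * u₃ = S.V.F1.ε * u₁ ∧ α * ZassSuz.nuZ r = S.V.F1.ε * u₁ := by omega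
  have eq : β * ZassSuz.nuZ q = S.V.F2.ε * u₂ := by linarith
  have hνchi : ZassSuz.nuZ S.V.chi = u₁ := S.V.nu_chi
  have hεε : S.V.F1.ε * S.V.F1.ε = 1 := by rw [← pow_two]; exact S.V.eps_sq
  refine ⟨S.V.F1.ε * u₁, S.V.F2.ε * u₂, α, β, r, q, hω, h2, hα, hβ, fun g hg => ⟨?_, ?_⟩,
    fun g g' hg hg' => ?_, fun g hg => ?_⟩
  · rw [S.fam2_val hg, h.k2, hc2, hr, sum_pair hrq]
    unfold X
    ring
  · rw [S.fam3_val hg, h.k3, hc3, hr', sum_singleton, hr3, h.K1]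
    have h1 := S.fam1_val hg
    push_cast
    linear_combination (2 : ℤ) * h1
  · rw [S.inner_formula hg hg', hn, sum_insert (by simp [hcr, hcq]), sum_pair hrq, h.K1]
    have hαα : α * α = 1 := by rcases hα with e | e <;> rw [e] <;> norm_num
    have hββ : β * β = 1 := by rcases hβ with e | e <;> rw [e] <;> norm_num
    unfold X
    push_cast
    linear_combination -(g S.V.chi * g' S.V.chi) * hεε - (g r * g' r) * hαα - (g q * g' q) * hββ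
  · rw [S.nu_formula hg, hn, sum_insert (by simp [hcr, hcq]), sum_pair hrq, e3, hνchi, h.K1]
    have hαα : α * α = 1 := by rcases hα with e | e <;> rw [e] <;> norm_num
    have hββ : β * β = 1 := by rcases hβ with e | e <;> rw [e] <;> norm_num
    unfold X
    push_cast
    linear_combination -(u₁ * g S.V.chi) * hεε - (ZassSuz.nuZ r * g r) * hαα -
      (ZassSuz.nuZ q * g q) * hββ + (α * g r) * er + (β * g q) * eq

end Sys

end Cfsg.Agent.SSCThree
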