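import Cfsg.Agent.Lib.SSCThree.Rel
import Cfsg.Agent.Lib.SSCThree.Classify

/-!
# A system of three self-centralising subgroups
-/

set_option autoImplicit false
set_option linter.unusedSectionVars false
set_option linter.style.haveILetI false

namespace Cfsg.Agent.SSCThree

open Subgroup Cfsg.Agent.Char
open scoped Classical

universe u

variable {G : Type u} [Group G] [Fintype G]

theorem card_centralizer_of_isConj {x y : G} (h : IsConj x y) :
    Nat.card (centralizer ({x} : Set G)) = Nat.card (centralizer ({y} : Set G)) := by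
  obtain ⟨g, rfl⟩ := isConj_iff.mp h
  refine Nat.card_congr (((MulAut.conj g).toEquiv).subtypeEquiv fun z => ?_)
  show z ∈ centralizer ({x} : Set G) ↔ g * z * g⁻¹ ∈ centralizer ({g * x * g⁻¹} : Set G)
  rw [mem_centralizer_singleton_iff, mem_centralizer_singleton_iff]
  constructor
  · intro h
    calc g * z * g⁻¹ * (g * x * g⁻¹) = g * (z * x) * g⁻¹ := by group
      _ = g * (x * z) * g⁻¹ := by rw [h]
      _ = _ := by group
  · intro h
    calc z * x = g⁻¹ * (g * z * g⁻¹ * (g * x * g⁻¹)) * g := by group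
      _ = g⁻¹ * (g * x * g⁻¹ * (g * z * g⁻¹)) * g := by rw [h]
      _ = _ := by group

theorem map_conj_ne_symm {A B : Subgroup G} (h : ∀ g : G, A.map (MulAut.conj g).toMonoidHom ≠ B) (g : G) :
    B.map (MulAut.conj g).toMonoidHom ≠ A := fun he => h g⁻¹ (by
  rw [← he, map_map]
  convert map_id B using 2
  ext x
  simp [MulAut.conj_apply, mul_assoc])

/-- The number of classes meeting `A` outside the identity. -/
noncomputable def cls (A : Subgroup G) : Finset (ConjClasses G) :=
  (Finset.univ.filter fun a : A => a ≠ 1).image fun a : A => ConjClasses.mk (a : G)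

theorem mk_mem_cls {A : Subgroup G} {x : G} : ConjClasses.mk x ∈ cls A ↔ SSC.InConj A x := by
  simp only [cls, Finset.mem_image, Finset.mem_filter, Finset.mem_univ, true_and,
    ConjClasses.mk_eq_mk_iff_isConj]
  constructor
  · rintro ⟨a, ha, h⟩
    exact SSC.inConj_of_isConj (SSC.inConj_coe a.2 fun h1 => ha (Subtype.ext h1)) h
  · rintro ⟨g, a, ha, ha1, rfl⟩
    exact ⟨⟨a, ha⟩, fun h => ha1 (congrArg Subtype.val h), isConj_iff.mpr ⟨g, rfl⟩⟩

theorem card_cls {A : Subgroup G} {e : ℕ} (hA : SSC A e) : (cls A).card * e + 1 = Nat.card A := by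
  set s := Finset.univ.filter fun a : A => a ≠ 1 with hs
  have hcard : s.card + 1 = Nat.card A := by
    rw [hs, Finset.filter_ne', Finset.card_erase_add_one (Finset.mem_univ _), Finset.card_univ,
      Nat.card_eq_fintype_card]
  have hfib : s.card = (cls A).card * e := by
    rw [Finset.card_eq_sum_card_fiberwise (t := cls A) (f := fun a : A => ConjClasses.mk (a : G))
      (fun x hx => Finset.mem_coe.mpr (Finset.mem_image_of_mem _ (Finset.mem_coe.mp hx)))]
    rw [Finset.sum_congr rfl (g := fun _ => e) fun c hc => ?_, Finset.sum_const, smul_eq_mul]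
    obtain ⟨a, ha, rfl⟩ := Finset.mem_image.mp hc
    have ha1 : a ≠ 1 := (Finset.mem_filter.mp ha).2
    have ha1' : (a : G) ≠ 1 := fun h => ha1 (Subtype.ext h)
    rw [show (s.filter fun b : A => ConjClasses.mk (b : G) = ConjClasses.mk (a : G)) =
      Finset.univ.image (fun k : Fin e => hA.cj k a) from ?_, Finset.card_image_of_injective,
      Finset.card_univ, Fintype.card_fin]
    · intro k l hkl
      have key : ∀ i j : Fin e, (i : ℕ) ≤ j → hA.cj i a = hA.cj j a → i = j := by
        intro i j hij h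
        refine Fin.ext ?_
        have hfree := hA.cj_free (k := (j : ℕ) - i) (by omega) (a := hA.cj i a)
          (fun h1 => ha1 (hA.cj_injective i (h1.trans (map_one _).symm)))
          (by rw [← hA.cj_add, Nat.add_sub_cancel' hij]; exact h.symm)
        omega
      rcases le_total (k : ℕ) l with h | h
      exacts [key k l h hkl, (key l k h hkl.symm).symm]
    · ext b
      simp only [Finset.mem_filter, hs, Finset.mem_univ, true_and, Finset.mem_image,
        ConjClasses.mk_eq_mk_iff_isConj]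
      constructor
      · rintro ⟨hb1, hb⟩
        obtain ⟨g, hg⟩ := isConj_iff.mp hb.symm
        obtain ⟨a', ha', k, hk, rfl⟩ := hA.exists_normal_form
          (hA.mem_normalizer_of_conj a.2 ha1' (hg ▸ b.2))
        refine ⟨⟨(e - k) % e, Nat.mod_lt _ hA.e_pos⟩, Subtype.ext ?_⟩
        show ((hA.cj ((e - k) % e) a : A) : G) = b
        rw [hA.cj_mod, SSC.coe_cj, ← hg]
        have hinv : hA.gen ^ (e - k) = (hA.gen ^ k)⁻¹ := by
          refine eq_inv_of_mul_eq_one_left ?_
          rw [← pow_add, Nat.sub_add_cancel hk.le, hA.gen_pow]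
        rw [hinv, inv_inv]
        have hx : hA.gen ^ k * a * (hA.gen ^ k)⁻¹ ∈ A := hA.conj_mem (pow_mem hA.gen_mem _) a.2
        calc hA.gen ^ k * a * (hA.gen ^ k)⁻¹ = a' * (a'⁻¹ * (hA.gen ^ k * a * (hA.gen ^ k)⁻¹)) := by group
          _ = a' * ((hA.gen ^ k * a * (hA.gen ^ k)⁻¹) * a'⁻¹) := by rw [hA.comm (inv_mem ha') hx]
          _ = a' * hA.gen ^ k * a * (a' * hA.gen ^ k)⁻¹ := by group
      · rintro ⟨k, rfl⟩
        refine ⟨fun h => ha1 (hA.cj_injective k (h.trans (map_one _).symm)), ?_⟩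
        exact (isConj_iff.mpr ⟨(hA.gen ^ (k : ℕ))⁻¹, by rw [SSC.coe_cj]; group⟩).symm
  omega

/-- Three pairwise non-conjugate subgroups as in the hypothesis. -/
structure Sys (G : Type u) [Group G] where
  A : Subgroup G
  B : Subgroup G
  C : Subgroup G
  hA : SSC A 2
  hB : SSC B 4
  hC : SSC C 4
  big_B : 5 < Nat.card B
  big_C : 5 < Nat.card C
  AB : ∀ g : G, A.map (MulAut.conj g).toMonoidHom ≠ B
  AC : ∀ g : G, A.map (MulAut.conj g).toMonoidHom ≠ C
  BC : ∀ g : G, B.map (MulAut.conj g).toMonoidHom ≠ C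
  bound : Nat.card G ≤ 3 * (Nat.card A * Nat.card B * Nat.card C) ^ 2
  abelian : ∀ r : ℕ, r.Prime → r ≠ 2 → ¬ r ∣ Nat.card A * Nat.card B * Nat.card C →
    ∀ P : Sylow r G, IsMulCommutative ↥(P : Subgroup G)

namespace Sys

variable (S : Sys G)

/-- Exchange the second and the third subgroup. -/
def swap : Sys G where
  A := S.A
  B := S.C
  C := S.B
  hA := S.hA
  hB := S.hC
  hC := S.hB
  big_B := S.big_C
  big_C := S.big_B
  AB := S.AC
  AC := S.AB
  BC := map_conj_ne_symm S.BC
  bound := by rw [mul_right_comm]; exact S.bound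
  abelian := fun r h1 h2 h3 => S.abelian r h1 h2 (by rwa [mul_right_comm])

/-- The order of the first subgroup. -/
noncomputable def n₁ : ℕ := Nat.card S.A
/-- The order of the second subgroup. -/
noncomputable def n₂ : ℕ := Nat.card S.B
/-- The order of the third subgroup. -/
noncomputable def n₃ : ℕ := Nat.card S.C
/-- The product of the orders. -/
noncomputable def N : ℕ := S.n₁ * S.n₂ * S.n₃

theorem swap_n₁ : S.swap.n₁ = S.n₁ := rfl
theorem swap_n₂ : S.swap.n₂ = S.n₃ := rfl
theorem swap_n₃ : S.swap.n₃ = S.n₂ := rfl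

theorem coprime_of {A B : Subgroup G} {e f : ℕ} (hA : SSC A e) (hB : SSC B f)
    (hnc : ∀ g : G, A.map (MulAut.conj g).toMonoidHom ≠ B) : (Nat.card A).Coprime (Nat.card B) := by
  by_contra hc
  obtain ⟨p, hp, hpA, hpB⟩ := Nat.Prime.not_coprime_iff_dvd.mp hc
  haveI := Fact.mk hp
  obtain ⟨⟨a, ha⟩, hao⟩ := exists_prime_orderOf_dvd_card' (G := A) p hpA
  rw [← Subgroup.orderOf_coe] at hao
  change orderOf a = p at hao
  obtain ⟨g, b, hb, -, hba⟩ := hB.inConj_of_prime hp hpB hao
  have ha1 : a ≠ 1 := fun h => by rw [h, orderOf_one] at hao; exact hp.one_lt.ne hao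
  refine hA.not_mem_of_not_conj hB hnc ha ha1 (g := g⁻¹) ?_
  rw [← hba]
  simpa [mul_assoc] using hb

theorem cop12 : S.n₁.Coprime S.n₂ := coprime_of S.hA S.hB S.AB
theorem cop13 : S.n₁.Coprime S.n₃ := coprime_of S.hA S.hC S.AC
theorem cop23 : S.n₂.Coprime S.n₃ := coprime_of S.hB S.hC S.BC

theorem n₁_odd : Odd S.n₁ := S.hA.odd_card
theorem n₁_ge : 5 ≤ S.n₁ := S.hA.big

theorem n₂_mod : S.n₂ % 4 = 1 := by
  have : (cls S.B).card * 4 + 1 = S.n₂ := card_cls S.hB
  omega

theorem n₂_ge : 9 ≤ S.n₂ := by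
  have h : 5 < S.n₂ := S.big_B
  have := S.n₂_mod
  omega

theorem n₃_mod : S.n₃ % 4 = 1 := S.swap.n₂_mod
theorem n₃_ge : 9 ≤ S.n₃ := S.swap.n₂_ge

theorem n₂_ne_n₃ : S.n₂ ≠ S.n₃ := by
  intro h
  have h1 := S.cop23
  rw [h, Nat.coprime_self] at h1
  have := S.n₃_ge
  omega

theorem N_pos : 0 < S.N := by
  have := S.n₁_ge
  have := S.n₂_ge
  have := S.n₃_ge
  unfold N
  positivity

theorem N_odd : Odd S.N := (S.hA.odd_card.mul S.hB.odd_card).mul S.hC.odd_card

theorem N_dvd : S.N ∣ Nat.card G :=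
  (Nat.Coprime.mul_left S.cop13 S.cop23).mul_dvd_of_dvd_of_dvd
    (S.cop12.mul_dvd_of_dvd_of_dvd (card_subgroup_dvd_card _) (card_subgroup_dvd_card _))
    (card_subgroup_dvd_card _)

/-- The cofactor of the product of the three orders. -/
noncomputable def h : ℕ := Nat.card G / S.N

theorem N_mul_h : S.N * S.h = Nat.card G := Nat.mul_div_cancel' S.N_dvd

theorem h_pos : 0 < S.h := by
  have := S.N_mul_h
  by_contra h0
  rw [Nat.eq_zero_of_not_pos h0, mul_zero] at this
  exact Nat.card_pos.ne' this.symm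

theorem h_le : S.h ≤ 3 * S.N := by
  have h1 := S.bound
  change Nat.card G ≤ 3 * S.N ^ 2 at h1
  rw [← S.N_mul_h] at h1
  refine Nat.le_of_mul_le_mul_left ?_ S.N_pos
  calc S.N * S.h ≤ 3 * S.N ^ 2 := h1
    _ = S.N * (3 * S.N) := by ring

theorem cop_n₁_h : S.n₁.Coprime S.h := by
  have h1 : Nat.card S.A * S.A.index = Nat.card G := S.A.card_mul_index
  have h2 : S.A.index = S.n₂ * S.n₃ * S.h := by
    refine Nat.eq_of_mul_eq_mul_left (n := Nat.card S.A) Nat.card_pos ?_
    rw [h1, ← S.N_mul_h, N, n₁]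
    ring
  exact Nat.Coprime.coprime_dvd_right (dvd_mul_left _ _)
    (h2 ▸ S.hA.coprime_index : S.n₁.Coprime (S.n₂ * S.n₃ * S.h))

theorem cop_n₂_h : S.n₂.Coprime S.h := by
  have h1 : Nat.card S.B * S.B.index = Nat.card G := S.B.card_mul_index
  have h2 : S.B.index = S.n₁ * S.n₃ * S.h := by
    refine Nat.eq_of_mul_eq_mul_left (n := Nat.card S.B) Nat.card_pos ?_
    rw [h1, ← S.N_mul_h, N, n₂]
    ring
  exact Nat.Coprime.coprime_dvd_right (dvd_mul_left _ _)
    (h2 ▸ S.hB.coprime_index : S.n₂.Coprime (S.n₁ * S.n₃ * S.h))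

theorem swap_N : S.swap.N = S.N := by simp only [N, swap_n₁, swap_n₂, swap_n₃]; ring

theorem swap_h : S.swap.h = S.h := by rw [h, h, S.swap_N]

theorem cop_n₃_h : S.n₃.Coprime S.h := by
  have := S.swap.cop_n₂_h
  rwa [S.swap_n₂, S.swap_h] at this

theorem cop_N_h : S.N.Coprime S.h := (S.cop_n₁_h.mul_left S.cop_n₂_h).mul_left S.cop_n₃_h

theorem congr_index {A : Subgroup G} {e : ℕ} (hA : SSC A e) :
    Nat.card A ∣ (normalizer (A : Set G)).index - 1 := by
  set N := normalizer (A : Set G)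
  haveI : Fintype (G ⧸ N) := Fintype.ofFinite _
  set base : G ⧸ N := QuotientGroup.mk 1 with hb
  have hfix : ∀ (a : A) (q : G ⧸ N), a • q = q → q ≠ base → a = 1 := by
    intro a q h hq
    obtain ⟨x, rfl⟩ := QuotientGroup.mk_surjective q
    by_contra ha
    have ha1 : (a : G) ≠ 1 := fun h1 => ha (Subtype.ext h1)
    change QuotientGroup.mk ((a : G) * x) = (QuotientGroup.mk x : G ⧸ N) at h
    rw [QuotientGroup.eq] at h
    have hmem : x⁻¹ * (a : G) * x ∈ N := by
      have := inv_mem h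
      simpa [mul_assoc] using this
    obtain ⟨b, hbA, k, hk, hxa⟩ := hA.exists_normal_form hmem
    have hord : (x⁻¹ * (a : G) * x) ^ Nat.card A = 1 := by
      have h1 := conj_pow (i := Nat.card A) (a := x⁻¹) (b := (a : G))
      rw [inv_inv] at h1
      rw [h1, hA.pow_card a.2]
      group
    -- a power prime to the index is a power of the generator inside the subgroup
    have hkA : x⁻¹ * (a : G) * x ∈ A := by
      haveI : (A.subgroupOf N).Normal :=
        ⟨fun n hn g => mem_subgroupOf.mpr (hA.conj_mem g.2 (mem_subgroupOf.mp hn))⟩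
      set y : N := ⟨_, hmem⟩
      have h1 : ((y : N ⧸ A.subgroupOf N)) ^ Nat.card A = 1 := by
        rw [← QuotientGroup.mk_pow, show y ^ Nat.card A = 1 from Subtype.ext hord, QuotientGroup.mk_one]
      have h2 : ((y : N ⧸ A.subgroupOf N)) ^ e = 1 := by
        rw [← QuotientGroup.mk_pow, QuotientGroup.eq_one_iff]
        have := (A.subgroupOf N).pow_index_mem y
        rwa [show (A.subgroupOf N).index = e from hA.rel] at this
      have hg : Nat.gcd (Nat.card A) e = 1 := by
        obtain ⟨m, hm⟩ := hA.odd_card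
        have h := Nat.gcd_dvd (Nat.card A) e
        rcases hA.e_cases with rfl | rfl
        · exact (Nat.prime_two.coprime_iff_not_dvd.mpr (by omega)).symm
        · have h2 : Nat.Coprime (Nat.card A) 2 := (Nat.prime_two.coprime_iff_not_dvd.mpr (by omega)).symm
          exact Nat.Coprime.pow_right 2 h2
      have h3 := pow_gcd_eq_one.mpr ⟨h1, h2⟩
      rw [hg, pow_one, QuotientGroup.eq_one_iff] at h3
      exact mem_subgroupOf.mp h3
    refine hq ?_
    rw [hb, QuotientGroup.eq, mul_one]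
    exact hA.mem_normalizer_of_conj (g := x⁻¹) a.2 ha1 (by simpa using hkA)
  have hinv : ∀ a : A, a • base = base := fun a => by
    rw [hb]
    show QuotientGroup.mk ((a : G) * 1) = (QuotientGroup.mk 1 : G ⧸ N)
    rw [mul_one, QuotientGroup.eq, mul_one]
    exact inv_mem (le_normalizer a.2)
  obtain ⟨t, ht, he⟩ := TICongr.sum_free_orbits (P := A) (Finset.univ.erase base) (fun _ => (1 : ℂ))
    (fun a q hq => Finset.mem_erase.mpr ⟨fun h => (Finset.mem_erase.mp hq).1 (by
      rw [← inv_smul_smul a q, h, hinv]), Finset.mem_univ _⟩)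
    (fun a q hq h => hfix a q h (Finset.mem_erase.mp hq).1) (fun _ _ _ => rfl)
    (fun _ _ => isIntegral_one)
  rw [Finset.sum_const, Finset.card_erase_of_mem (Finset.mem_univ _), nsmul_eq_mul, mul_one,
    Finset.card_univ, ← Nat.card_eq_fintype_card, ← Subgroup.index_eq_card N] at he
  refine Char.dvd_of_isIntegral_div Nat.card_pos.ne' ?_
  rw [he, mul_div_assoc, mul_comm, div_mul_cancel₀ _ (Nat.cast_ne_zero.mpr Nat.card_pos.ne')]
  exact ht

theorem congr₁ : (S.h * (S.n₂ * S.n₃)) % S.n₁ = 2 % S.n₁ := by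
  have hd := congr_index S.hA
  have hN := S.hA.card_normalizer
  have hc := (normalizer (S.A : Set G)).card_mul_index
  rw [hN, ← S.N_mul_h] at hc
  set i := (normalizer (S.A : Set G)).index
  have h1 : 2 * i = S.h * (S.n₂ * S.n₃) := by
    refine Nat.eq_of_mul_eq_mul_left (n := S.n₁) (by have := S.n₁_ge; omega) ?_
    calc S.n₁ * (2 * i) = 2 * Nat.card S.A * i := by rw [n₁]; ring
      _ = S.N * S.h := hc
      _ = _ := by rw [N]; ring
  have hi : 0 < i := Nat.pos_of_ne_zero index_ne_zero_of_finite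
  obtain ⟨q, hq⟩ := hd
  change i - 1 = S.n₁ * q at hq
  rw [← h1, show 2 * i = 2 + S.n₁ * (2 * q) by rw [mul_left_comm, ← hq]; omega, Nat.add_mul_mod_self_left]

theorem congr₂ : (S.h * (S.n₁ * S.n₃)) % S.n₂ = 4 % S.n₂ := by
  have hd := congr_index S.hB
  have hN := S.hB.card_normalizer
  have hc := (normalizer (S.B : Set G)).card_mul_index
  rw [hN, ← S.N_mul_h] at hc
  set i := (normalizer (S.B : Set G)).index
  have h1 : 4 * i = S.h * (S.n₁ * S.n₃) := by
    refine Nat.eq_of_mul_eq_mul_left (n := S.n₂) (by have := S.n₂_ge; omega) ?_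
    calc S.n₂ * (4 * i) = 4 * Nat.card S.B * i := by rw [n₂]; ring
      _ = S.N * S.h := hc
      _ = _ := by rw [N]; ring
  have hi : 0 < i := Nat.pos_of_ne_zero index_ne_zero_of_finite
  obtain ⟨q, hq⟩ := hd
  change i - 1 = S.n₂ * q at hq
  rw [← h1, show 4 * i = 4 + S.n₂ * (4 * q) by rw [mul_left_comm, ← hq]; omega, Nat.add_mul_mod_self_left]

theorem congr₃ : (S.h * (S.n₁ * S.n₂)) % S.n₃ = 4 % S.n₃ := by
  have := S.swap.congr₂
  rwa [S.swap_h, S.swap_n₁, S.swap_n₂, S.swap_n₃] at this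

/-! ### Classes -/

/-- An element outside the conjugates of the three subgroups. -/
def Off (x : G) : Prop := ¬ SSC.InConj S.A x ∧ ¬ SSC.InConj S.B x ∧ ¬ SSC.InConj S.C x

theorem off_one : S.Off 1 := ⟨SSC.not_inConj_one, SSC.not_inConj_one, SSC.not_inConj_one⟩

theorem off_of_isConj {x y : G} (hx : S.Off x) (h : IsConj x y) : S.Off y :=
  ⟨fun h' => hx.1 (SSC.inConj_of_isConj h' h.symm), fun h' => hx.2.1 (SSC.inConj_of_isConj h' h.symm),
    fun h' => hx.2.2 (SSC.inConj_of_isConj h' h.symm)⟩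

/-- An element centralising an involution lies outside. -/
theorem off_of_comm_invol {x t : G} (ht : orderOf t = 2) (h : x * t = t * x) : S.Off x := by
  have key : ∀ (A : Subgroup G) (e : ℕ), SSC A e → ¬ SSC.InConj A x := by
    intro A e hA hx
    have hmem : t ∈ centralizer ({x} : Set G) := mem_centralizer_singleton_iff.mpr h.symm
    have h2 : orderOf t ∣ Nat.card (centralizer ({x} : Set G)) := by
      have := orderOf_dvd_natCard (⟨t, hmem⟩ : centralizer ({x} : Set G))
      rwa [← Subgroup.orderOf_coe] at this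
    rw [hA.centralizer_of_inConj hx, ht] at h2
    have := Nat.odd_iff.mp hA.odd_card
    omega
  exact ⟨key _ _ S.hA, key _ _ S.hB, key _ _ S.hC⟩

theorem off_of_even {x : G} (h : 2 ∣ orderOf x) : S.Off x := by
  have hpos := (isOfFinOrder_of_finite x).orderOf_pos
  refine S.off_of_comm_invol (t := x ^ (orderOf x / 2)) ?_ ((Commute.refl x).pow_right _).eq
  rw [orderOf_pow' _ (by omega), Nat.gcd_eq_right (Nat.div_dvd_of_dvd h)]
  obtain ⟨m, hm⟩ := h
  rw [hm, Nat.mul_div_cancel_left _ (by omega), Nat.mul_div_cancel _ (by omega)]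

/-- The centraliser of an outside element is prime to the three orders. -/
theorem coprime_centralizer {x : G} (hx : S.Off x) (hx1 : x ≠ 1) :
    S.N.Coprime (Nat.card (centralizer ({x} : Set G))) := by
  have key : ∀ (A : Subgroup G) (e : ℕ), SSC A e → ¬ SSC.InConj A x →
      (Nat.card A).Coprime (Nat.card (centralizer ({x} : Set G))) := by
    intro A e hA hnx
    by_contra hc
    obtain ⟨p, hp, hpA, hpC⟩ := Nat.Prime.not_coprime_iff_dvd.mp hc
    haveI := Fact.mk hp
    obtain ⟨⟨y, hy⟩, hyo⟩ := exists_prime_orderOf_dvd_card' (G := centralizer ({x} : Set G)) p hpC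
    rw [← Subgroup.orderOf_coe] at hyo
    change orderOf y = p at hyo
    obtain ⟨g, a, ha, ha1, rfl⟩ := hA.inConj_of_prime hp hpA hyo
    refine hnx ⟨g, g⁻¹ * x * g, hA.mem_of_comm ha ha1 ?_, fun h => hx1 ?_, by group⟩
    · have h := mem_centralizer_singleton_iff.mp hy
      calc g⁻¹ * x * g * a = g⁻¹ * (x * (g * a * g⁻¹)) * g := by group
        _ = g⁻¹ * (g * a * g⁻¹ * x) * g := by rw [h]
        _ = a * (g⁻¹ * x * g) := by group
    · calc x = g * (g⁻¹ * x * g) * g⁻¹ := by group
        _ = 1 := by rw [h]; group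
  exact ((key _ _ S.hA hx.1).mul_left (key _ _ S.hB hx.2.1)).mul_left (key _ _ S.hC hx.2.2)

theorem centralizer_dvd_h {x : G} (hx : S.Off x) (hx1 : x ≠ 1) :
    Nat.card (centralizer ({x} : Set G)) ∣ S.h :=
  (S.coprime_centralizer hx hx1).symm.dvd_of_dvd_mul_left (S.N_mul_h ▸ card_subgroup_dvd_card _)

/-- The classes outside the three subgroups and the identity. -/
noncomputable def extra : Finset (ConjClasses G) :=
  Finset.univ \ (insert (ConjClasses.mk 1) (cls S.A ∪ cls S.B ∪ cls S.C))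

theorem mem_extra {x : G} : ConjClasses.mk x ∈ S.extra ↔ x ≠ 1 ∧ S.Off x := by
  simp only [extra, Finset.mem_sdiff, Finset.mem_univ, true_and, Finset.mem_insert, Finset.mem_union,
    mk_mem_cls, ConjClasses.mk_eq_mk_iff_isConj, isConj_one_left, Off, not_or]
  tauto

theorem cls_disjoint {A B : Subgroup G} {e f : ℕ} (hA : SSC A e) (hB : SSC B f)
    (hnc : ∀ g : G, A.map (MulAut.conj g).toMonoidHom ≠ B) : Disjoint (cls A) (cls B) := by
  rw [Finset.disjoint_left]
  intro c hcA hcB
  obtain ⟨a, ha, rfl⟩ := Finset.mem_image.mp hcA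
  rw [mk_mem_cls] at hcB
  obtain ⟨g, b, hb, -, hba⟩ := hcB
  refine hA.not_mem_of_not_conj hB hnc a.2 (fun h => (Finset.mem_filter.mp ha).2 (Subtype.ext h))
    (g := g⁻¹) ?_
  rw [← hba]
  simpa [mul_assoc] using hb

theorem one_not_cls (A : Subgroup G) : ConjClasses.mk (1 : G) ∉ cls A := fun h =>
  SSC.not_inConj_one (mk_mem_cls.mp h)

theorem sum_classes {M : Type*} [AddCommMonoid M] (g : ConjClasses G → M) :
    ∑ c, g c = g (ConjClasses.mk 1) + (∑ c ∈ cls S.A, g c + ∑ c ∈ cls S.B, g c + ∑ c ∈ cls S.C, g c) +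
      ∑ c ∈ S.extra, g c := by
  rw [extra, ← Finset.sum_sdiff (Finset.subset_univ (insert (ConjClasses.mk 1) (cls S.A ∪ cls S.B ∪ cls S.C))),
    add_comm]
  congr 1
  rw [Finset.sum_insert (by simp [one_not_cls]), Finset.sum_union, Finset.sum_union]
  · exact cls_disjoint S.hA S.hB S.AB
  · exact Finset.disjoint_union_left.mpr ⟨cls_disjoint S.hA S.hC S.AC, cls_disjoint S.hB S.hC S.BC⟩

theorem card_classes : Fintype.card (ConjClasses G) =
    1 + ((cls S.A).card + (cls S.B).card + (cls S.C).card) + S.extra.card := by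
  simpa using S.sum_classes (M := ℕ) (fun _ => 1)

/-- The order of the centraliser of a representative. -/
noncomputable def cen (c : ConjClasses G) : ℕ := Nat.card (centralizer ({c.out} : Set G))

theorem cen_mk (x : G) : cen (ConjClasses.mk x) = Nat.card (centralizer ({x} : Set G)) := by
  refine card_centralizer_of_isConj ?_
  rw [← ConjClasses.mk_eq_mk_iff_isConj]
  exact Quotient.out_eq _

theorem sum_inv_cen : ∑ c : ConjClasses G, (1 : ℚ) / cen c = 1 := by
  have hG : (Nat.card G : ℚ) ≠ 0 := Nat.cast_ne_zero.mpr Nat.card_pos.ne'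
  have h : ∀ c : ConjClasses G, (1 : ℚ) / cen c =
      ((Finset.univ.filter fun x : G => ConjClasses.mk x = c).card : ℚ) / Nat.card G := by
    intro c
    obtain ⟨g, rfl⟩ := ConjClasses.mk_surjective c
    rw [cen_mk, show (Finset.univ.filter fun x : G => ConjClasses.mk x = ConjClasses.mk g) = classFinset g from
      Finset.ext fun x => by
        simp only [Finset.mem_filter, Finset.mem_univ, true_and, ConjClasses.mk_eq_mk_iff_isConj,
          mem_classFinset]
        exact ⟨IsConj.symm, IsConj.symm⟩, card_classFinset,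
      div_eq_div_iff (Nat.cast_ne_zero.mpr Nat.card_pos.ne') hG, one_mul, ← Nat.cast_mul,
      Subgroup.index_mul_card]
  rw [Finset.sum_congr rfl fun c _ => h c, ← Finset.sum_div, ← Nat.cast_sum,
    ← Finset.card_eq_sum_card_fiberwise (fun x _ => Finset.mem_coe.mpr (Finset.mem_univ (ConjClasses.mk x))),
    Finset.card_univ, ← Nat.card_eq_fintype_card, div_self hG]

theorem sum_cls_inv {A : Subgroup G} {e : ℕ} (hA : SSC A e) :
    ∑ c ∈ cls A, (1 : ℚ) / cen c = ((Nat.card A : ℚ) - 1) / (e * Nat.card A) := by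
  rw [Finset.sum_congr rfl (g := fun _ => (1 : ℚ) / Nat.card A) fun c hc => ?_, Finset.sum_const,
    nsmul_eq_mul]
  · have h := card_cls hA
    have he : (e : ℚ) ≠ 0 := Nat.cast_ne_zero.mpr hA.e_pos.ne'
    have hn : (Nat.card A : ℚ) ≠ 0 := Nat.cast_ne_zero.mpr Nat.card_pos.ne'
    have h' : ((cls A).card : ℚ) * e + 1 = Nat.card A := by exact_mod_cast h
    rw [← h', add_sub_cancel_right]
    field_simp
  · obtain ⟨x, rfl⟩ := ConjClasses.mk_surjective c
    rw [cen_mk, hA.centralizer_of_inConj (mk_mem_cls.mp hc)]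

/-- The mass of the classes outside. -/
noncomputable def mass : ℚ := 1 / (2 * S.n₁) + 1 / (4 * S.n₂) + 1 / (4 * S.n₃)

theorem class_equation : (1 : ℚ) / Nat.card G + ∑ c ∈ S.extra, (1 : ℚ) / cen c = S.mass := by
  have h := S.sum_classes (M := ℚ) (fun c => (1 : ℚ) / cen c)
  have e1 : (1 : ℚ) / cen (ConjClasses.mk (1 : G)) = 1 / Nat.card G := by
    rw [cen_mk, show centralizer ({1} : Set G) = ⊤ by
      ext x; simp [mem_centralizer_singleton_iff], Subgroup.card_top]
  rw [sum_inv_cen, sum_cls_inv S.hA, sum_cls_inv S.hB, sum_cls_inv S.hC, e1] at h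
  have n1 : (Nat.card S.A : ℚ) ≠ 0 := Nat.cast_ne_zero.mpr Nat.card_pos.ne'
  have n2 : (Nat.card S.B : ℚ) ≠ 0 := Nat.cast_ne_zero.mpr Nat.card_pos.ne'
  have n3 : (Nat.card S.C : ℚ) ≠ 0 := Nat.cast_ne_zero.mpr Nat.card_pos.ne'
  simp only [mass, n₁, n₂, n₃]
  rw [sub_div, sub_div, sub_div] at h
  push_cast at h
  rw [show (Nat.card S.A : ℚ) / (2 * Nat.card S.A) = 1 / 2 by field_simp,
    show (Nat.card S.B : ℚ) / (4 * Nat.card S.B) = 1 / 4 by field_simp,
    show (Nat.card S.C : ℚ) / (4 * Nat.card S.C) = 1 / 4 by field_simp] at h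
  linarith

end Sys

end Cfsg.Agent.SSCThree
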