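import Mathlib.Data.Fintype.BigOperators
import Mathlib.Data.Fintype.Fin
import Mathlib.Tactic

/-!
# Coefficient vectors of three exceptional families

The possible shapes of the three coefficient vectors.
-/

set_option autoImplicit false
set_option linter.unusedSectionVars false

namespace Cfsg.Agent.SSCThree

open scoped Classical
open Finset

universe u

variable {ι : Type u} [Fintype ι]

/-- The integral data of one family: a coefficient vector with its degree and indicator relations. -/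
structure VFam (o : ι) (ν d : ι → ℤ) (e : ℕ) where
  K : ℕ
  two_le : 2 ≤ K
  μ : Fin K → ι
  inj : Function.Injective μ
  ne_o : ∀ j, μ j ≠ o
  ε : ℤ
  eps : ε = 1 ∨ ε = -1
  a : ℤ
  a_two : K = 2 → a = 0
  q : ι → ℤ
  q_o : q o = 1
  norm : ∑ χ, q χ ^ 2 = e + 1
  q_zero : q (μ ⟨0, by omega⟩) = a - ε
  q_pos : ∀ j : Fin K, (j : ℕ) ≠ 0 → q (μ j) = a
  q_nu : ∑ χ, q χ * ν χ = 1
  q_d : ∑ χ, q χ * d χ = 0
  nu_eq : ∀ j, ν (μ j) = ν (μ ⟨0, by omega⟩)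
  nu_unit : ν (μ ⟨0, by omega⟩) = 1 ∨ ν (μ ⟨0, by omega⟩) = -1
  d_eq : ∀ j, d (μ j) = d (μ ⟨0, by omega⟩)

namespace VFam

variable {o : ι} {ν d : ι → ℤ} {e f : ℕ} (F : VFam o ν d e)

/-- The first member. -/
def z : Fin F.K := ⟨0, by have := F.two_le; omega⟩

/-- The members. -/
noncomputable def mem : Finset ι := univ.image F.μ

theorem mem_mem {χ : ι} : χ ∈ F.mem ↔ ∃ j, F.μ j = χ := by simp [mem]

theorem μ_mem (j : Fin F.K) : F.μ j ∈ F.mem := F.mem_mem.mpr ⟨j, rfl⟩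

theorem card_mem : F.mem.card = F.K := by
  rw [mem, card_image_of_injective _ F.inj, card_univ, Fintype.card_fin]

theorem o_not_mem : o ∉ F.mem := fun h => by
  obtain ⟨j, hj⟩ := F.mem_mem.mp h
  exact F.ne_o j hj

theorem sum_mem_const {g : ι → ℤ} {c : ℤ} (h : ∀ j, g (F.μ j) = c) : ∑ χ ∈ F.mem, g χ = F.K * c := by
  rw [Finset.sum_congr rfl (g := fun _ => c) fun χ hχ => ?_, sum_const, nsmul_eq_mul, F.card_mem]
  obtain ⟨j, rfl⟩ := F.mem_mem.mp hχ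
  exact h j

/-- Sum over the family against a function constant on it. -/
theorem sum_q_mem {g : ι → ℤ} {c : ℤ} (h : ∀ j, g (F.μ j) = c) :
    ∑ χ ∈ F.mem, F.q χ * g χ = (F.K * F.a - F.ε) * c := by
  have hz : F.μ F.z ∈ F.mem := F.μ_mem _
  rw [← add_sum_erase _ _ hz, Finset.sum_congr rfl (g := fun _ => F.a * c) fun χ hχ => ?_, sum_const,
    card_erase_of_mem hz, F.card_mem, nsmul_eq_mul, show F.q (F.μ F.z) = F.a - F.ε from F.q_zero, h]
  · rw [Nat.cast_sub (by have := F.two_le; omega)]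
    push_cast
    ring
  · obtain ⟨hne, hχ⟩ := mem_erase.mp hχ
    obtain ⟨j, rfl⟩ := F.mem_mem.mp hχ
    rw [F.q_pos j (fun h0 => hne (congrArg F.μ (Fin.ext h0 : j = F.z))), h]

theorem sum_sq_mem : ∑ χ ∈ F.mem, F.q χ ^ 2 = ((F.K : ℤ) - 1) * F.a ^ 2 + (F.a - F.ε) ^ 2 := by
  have hz : F.μ F.z ∈ F.mem := F.μ_mem _
  rw [← add_sum_erase _ _ hz, Finset.sum_congr rfl (g := fun _ => F.a ^ 2) fun χ hχ => ?_, sum_const,
    card_erase_of_mem hz, F.card_mem, nsmul_eq_mul, show F.q (F.μ F.z) = F.a - F.ε from F.q_zero]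
  · rw [Nat.cast_sub (by have := F.two_le; omega)]
    push_cast
    ring
  · obtain ⟨hne, hχ⟩ := mem_erase.mp hχ
    obtain ⟨j, rfl⟩ := F.mem_mem.mp hχ
    rw [F.q_pos j (fun h0 => hne (congrArg F.μ (Fin.ext h0 : j = F.z)))]

/-- Outside the family and `o`. -/
noncomputable def supp : Finset ι := (univ.filter fun χ => F.q χ ≠ 0) \ (insert o F.mem)

theorem mem_supp {χ : ι} : χ ∈ F.supp ↔ F.q χ ≠ 0 ∧ χ ≠ o ∧ χ ∉ F.mem := by
  simp [supp]

theorem q_eq_zero {χ : ι} (ho : χ ≠ o) (hm : χ ∉ F.mem) (hs : χ ∉ F.supp) : F.q χ = 0 := by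
  by_contra h
  exact hs (F.mem_supp.mpr ⟨h, ho, hm⟩)

theorem disjoint_mem_supp : Disjoint F.mem F.supp :=
  disjoint_left.mpr fun _ h1 h2 => (F.mem_supp.mp h2).2.2 h1

theorem split (g : ι → ℤ) :
    ∑ χ, F.q χ * g χ = g o + ∑ χ ∈ F.mem, F.q χ * g χ + ∑ χ ∈ F.supp, F.q χ * g χ := by
  rw [← Finset.sum_subset (subset_univ (insert o F.mem ∪ F.supp)) fun χ _ h => ?_]
  · rw [sum_union (disjoint_left.mpr fun x h1 h2 => ?_), sum_insert F.o_not_mem, F.q_o, one_mul]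
    rcases mem_insert.mp h1 with rfl | h1
    exacts [(F.mem_supp.mp h2).2.1 rfl, (F.mem_supp.mp h2).2.2 h1]
  · simp only [mem_union, mem_insert, not_or] at h
    rw [F.q_eq_zero h.1.1 h.1.2 h.2, zero_mul]

theorem norm_split :
    ((F.K : ℤ) - 1) * F.a ^ 2 + (F.a - F.ε) ^ 2 + ∑ χ ∈ F.supp, F.q χ ^ 2 = e := by
  have h := F.split F.q
  simp only [← pow_two] at h
  rw [F.norm, F.sum_sq_mem, F.q_o] at h
  linarith

theorem nu_split (ho : ν o = 1) :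
    (F.K * F.a - F.ε) * ν (F.μ F.z) + ∑ χ ∈ F.supp, F.q χ * ν χ = 0 := by
  have h := F.split ν
  rw [F.q_nu, ho, F.sum_q_mem (c := ν (F.μ F.z)) F.nu_eq] at h
  linarith

theorem d_split (ho : d o = 1) :
    1 + (F.K * F.a - F.ε) * d (F.μ F.z) + ∑ χ ∈ F.supp, F.q χ * d χ = 0 := by
  have h := F.split d
  rw [F.q_d, ho, F.sum_q_mem (c := d (F.μ F.z)) F.d_eq] at h
  linarith

theorem supp_sq_one {χ : ι} (hχ : χ ∈ F.supp) : 1 ≤ F.q χ ^ 2 := by
  have := sq_pos_of_ne_zero (F.mem_supp.mp hχ).1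
  omega

theorem card_supp_le : (F.supp.card : ℤ) ≤ ∑ χ ∈ F.supp, F.q χ ^ 2 := by
  rw [← Nat.smul_one_eq_cast, ← Finset.sum_const]
  exact Finset.sum_le_sum fun χ h => F.supp_sq_one h

end VFam

theorem unit_or_zero {x : ℤ} (h : x ^ 2 ≤ 3) : x = -1 ∨ x = 0 ∨ x = 1 := by
  have : -2 < x ∧ x < 2 := by constructor <;> nlinarith
  omega

/-- The standing relations between three families. -/
structure VSys (o : ι) (ν d : ι → ℤ) where
  F1 : VFam o ν d 2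
  F2 : VFam o ν d 4
  F3 : VFam o ν d 4
  nu_o : ν o = 1
  d_o : d o = 1
  d_pos : ∀ χ, 0 < d χ
  nu_le : ∀ χ, ν χ = 0 ∨ ν χ = 1 ∨ ν χ = -1
  K_ne : F2.K ≠ F3.K
  dis12 : ∀ i j, F1.μ i ≠ F2.μ j
  dis13 : ∀ i j, F1.μ i ≠ F3.μ j
  dis23 : ∀ i j, F2.μ i ≠ F3.μ j
  c12 : ∀ i, F2.q (F1.μ i) = F2.q (F1.μ F1.z)
  c13 : ∀ i, F3.q (F1.μ i) = F3.q (F1.μ F1.z)
  c21 : ∀ i, F1.q (F2.μ i) = F1.q (F2.μ F2.z)
  c31 : ∀ i, F1.q (F3.μ i) = F1.q (F3.μ F3.z)
  c23 : ∀ i, F3.q (F2.μ i) = F3.q (F2.μ F2.z)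
  c32 : ∀ i, F2.q (F3.μ i) = F2.q (F3.μ F3.z)
  o12 : ∑ χ, F1.q χ * F2.q χ = 0
  o13 : ∑ χ, F1.q χ * F3.q χ = 0
  o23 : ∑ χ, F2.q χ * F3.q χ = 0

namespace VSys

variable {o : ι} {ν d : ι → ℤ} (V : VSys o ν d)

/-- Exchange the second and the third family. -/
def swap : VSys o ν d where
  F1 := V.F1
  F2 := V.F3
  F3 := V.F2
  nu_o := V.nu_o
  d_o := V.d_o
  d_pos := V.d_pos
  nu_le := V.nu_le
  K_ne := V.K_ne.symm
  dis12 := V.dis13
  dis13 := V.dis12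
  dis23 := fun i j h => V.dis23 j i h.symm
  c12 := V.c13
  c13 := V.c12
  c21 := V.c31
  c31 := V.c21
  c23 := V.c32
  c32 := V.c23
  o12 := V.o13
  o13 := V.o12
  o23 := by simpa only [mul_comm] using V.o23

theorem first : ∃ χ₁ : ι, V.F1.supp = {χ₁} ∧ V.F1.a = 0 ∧ V.F1.q χ₁ = V.F1.ε ∧
    ν χ₁ = ν (V.F1.μ V.F1.z) := by
  set F := V.F1
  have hn := F.norm_split
  have hd := F.d_split V.d_o
  have hν := F.nu_split V.nu_o
  have hs : 0 ≤ ∑ χ ∈ F.supp, F.q χ ^ 2 := Finset.sum_nonneg fun _ _ => sq_nonneg _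
  have hK := F.two_le
  have ha : F.a = 0 := by
    by_contra ha
    have hK3 : (3 : ℤ) ≤ F.K := by
      have : F.K ≠ 2 := fun h => ha (F.a_two h)
      exact_mod_cast (show 3 ≤ F.K by omega)
    have ha2 : 0 < F.a ^ 2 := sq_pos_of_ne_zero ha
    have h3 : (F.K : ℤ) = 3 ∧ F.a ^ 2 = 1 ∧ F.a = F.ε ∧ ∑ χ ∈ F.supp, F.q χ ^ 2 = 0 := by
      have h1 : (2 : ℤ) * F.a ^ 2 ≤ (F.K - 1) * F.a ^ 2 := by nlinarith
      have h2 : ((F.K : ℤ) - 1) ≤ (F.K - 1) * F.a ^ 2 := by nlinarith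
      have h4 := sq_nonneg (F.a - F.ε)
      have h5 : (F.a - F.ε) ^ 2 = 0 := by omega
      exact ⟨by omega, by omega, by nlinarith, by omega⟩
    obtain ⟨hK', -, hae, hsum⟩ := h3
    have hz : F.supp = ∅ := by
      have := F.card_supp_le
      rw [hsum] at this
      exact Finset.card_eq_zero.mp (by omega)
    rw [hz, sum_empty, hK', hae] at hd
    rcases F.eps with h | h <;> rw [h] at hd <;> omega
  rw [ha] at hn hd hν
  have he : F.ε ^ 2 = 1 := by rcases F.eps with h | h <;> rw [h] <;> norm_num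
  have hsum : ∑ χ ∈ F.supp, F.q χ ^ 2 = 1 := by linear_combination hn - he
  have hcard : F.supp.card = 1 := by
    have h1 := F.card_supp_le
    rw [hsum] at h1
    have : F.supp.card ≠ 0 := fun h => by rw [Finset.card_eq_zero.mp h, sum_empty] at hsum; omega
    omega
  obtain ⟨χ₁, hχ⟩ := Finset.card_eq_one.mp hcard
  rw [hχ, sum_singleton] at hsum hd hν
  have hq : F.q χ₁ = 1 ∨ F.q χ₁ = -1 := by rcases unit_or_zero (by omega : F.q χ₁ ^ 2 ≤ 3) with h | h | h <;> simp_all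
  have hqe : F.q χ₁ = F.ε := by
    have := V.d_pos χ₁
    have := V.d_pos (F.μ F.z)
    rcases hq with h | h <;> rcases F.eps with h' | h' <;> rw [h] at hd ⊢ <;> rw [h'] at hd ⊢ <;> linarith
  refine ⟨χ₁, hχ, ha, hqe, ?_⟩
  rw [hqe] at hν
  rcases F.eps with h' | h' <;> rw [h'] at hν <;> linarith

end VSys

end Cfsg.Agent.SSCThree
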